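import Cfsg.Agent.Lib.CycZFactor60.Mid

/-!
# The abelian subgroup `A = ⟨x ^ 2⟩⟨y ^ 2⟩` and parities

Owner: helper60 (row S3252).
-/

set_option autoImplicit false
set_option linter.unusedSectionVars false

universe u v

namespace Cfsg.Agent.Lib.CycZFactor60

open MulAction

variable {G : Type u} [Group G] {Ω : Type v} [MulAction G Ω] {e : ℕ}

namespace Fac

variable (D : Fac G Ω e)

/-- `⟨x ^ 2⟩⟨y ^ 2⟩`, for commuting `x ^ 2`, `y ^ 2`. -/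
def A (hc : Commute (D.x * D.x) (D.y * D.y)) : Subgroup G where
  carrier := {g | ∃ i j : ℤ, g = (D.x * D.x) ^ i * (D.y * D.y) ^ j}
  one_mem' := ⟨0, 0, by simp⟩
  mul_mem' := by
    rintro _ _ ⟨i, j, rfl⟩ ⟨k, l, rfl⟩
    exact ⟨i + k, j + l, by
      rw [zpow_add, zpow_add, ((hc.zpow_zpow k j).symm).mul_mul_mul_comm]⟩
  inv_mem' := by
    rintro _ ⟨i, j, rfl⟩
    exact ⟨-i, -j, by rw [zpow_neg, zpow_neg, mul_inv_rev, ((hc.zpow_zpow i j).inv_inv).eq]⟩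

variable (hc : Commute (D.x * D.x) (D.y * D.y))

theorem A_comm {g h : G} (hg : g ∈ D.A hc) (hh : h ∈ D.A hc) : g * h = h * g := by
  obtain ⟨i, j, rfl⟩ := hg
  obtain ⟨k, l, rfl⟩ := hh
  rw [((hc.zpow_zpow k j).symm).mul_mul_mul_comm, ((hc.zpow_zpow i l).symm).mul_mul_mul_comm,
    ← zpow_add, ← zpow_add, ← zpow_add, ← zpow_add, add_comm i k, add_comm j l]

theorem xx_mem : D.x * D.x ∈ D.A hc := ⟨1, 0, by simp⟩

theorem yy_mem : D.y * D.y ∈ D.A hc := ⟨0, 1, by simp⟩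

theorem sq_mem_A {z : G} (hz : z ∈ Subgroup.zpowers (D.y * D.y)) : z ∈ D.A hc :=
  Subgroup.zpowers_le.2 (D.yy_mem hc) hz

theorem xsq_zpow (i : ℤ) : (D.x * D.x) ^ i = D.x ^ (2 * i) := by
  rw [zpow_mul, zpow_ofNat, sq]

theorem A_le : D.A hc ≤ (D.P : Subgroup G) := by
  rintro _ ⟨i, j, rfl⟩
  exact mul_mem (zpow_mem (mul_mem D.xmem D.xmem) i) (zpow_mem (mul_mem D.ymem D.ymem) j)

variable [Finite G] [Finite Ω] [Fact (Nat.Prime 2)]

theorem a_mem_A (he : 2 ≤ e) : D.a ∈ D.A hc := by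
  unfold a
  rw [show 2 ^ (e - 1) = 2 * 2 ^ (e - 2) by rw [← pow_succ']; congr 1; omega, pow_mul, sq]
  exact pow_mem (D.xx_mem hc) _

theorem t_mem_A {f : ℕ} (hf : 2 ≤ f) : D.t f ∈ D.A hc := by
  rw [D.t_eq hf]; exact pow_mem (D.yy_mem hc) _

/-- The involutions of `A`. -/
theorem omega_A {f : ℕ} (hf : 1 ≤ f) (hy : orderOf D.y = 2 ^ f) (he : 1 ≤ e) {g : G}
    (hg : g ∈ D.A hc) (hg2 : g * g = 1) :
    g = 1 ∨ g = D.a ∨ g = D.t f ∨ g = D.a * D.t f := by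
  obtain ⟨i, j, rfl⟩ := hg
  rw [((hc.zpow_zpow i j).symm).mul_mul_mul_comm] at hg2
  rw [D.xsq_zpow, D.sq_zpow] at hg2 ⊢
  rw [← zpow_add, ← zpow_add] at hg2
  obtain ⟨h1, h2⟩ := D.eq_one hg2
  rw [zpow_add] at h1 h2
  rcases sq_one_cases he D.ordx (Subgroup.zpow_mem_zpowers _ _) h1 with hx | hx <;>
    rcases sq_one_cases hf hy (Subgroup.zpow_mem_zpowers _ _) h2 with hy' | hy' <;> rw [hx, hy']
  · exact Or.inl (one_mul 1)
  · exact Or.inr (Or.inr (Or.inl (one_mul _)))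
  · exact Or.inr (Or.inl (mul_one _))
  · exact Or.inr (Or.inr (Or.inr rfl))

/-- Even exponents give elements of `A`. -/
theorem mem_A_of_even {i j : ℤ} (hi : Even i) (hj : Even j) : D.x ^ i * D.y ^ j ∈ D.A hc := by
  obtain ⟨k, rfl⟩ := hi
  obtain ⟨l, rfl⟩ := hj
  exact ⟨k, l, by rw [D.xsq_zpow, D.sq_zpow, ← two_mul, ← two_mul]⟩

/-- Exponents of elements of `A` are even. -/
theorem even_of_mem_A {f : ℕ} (hf : 1 ≤ f) (hy : orderOf D.y = 2 ^ f) (he : 1 ≤ e) {i j : ℤ}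
    (h : D.x ^ i * D.y ^ j ∈ D.A hc) : Even i ∧ Even j := by
  obtain ⟨k, l, hkl⟩ := h
  rw [D.xsq_zpow, D.sq_zpow] at hkl
  obtain ⟨h1, h2⟩ := D.unique hkl
  constructor
  · have h3 : D.x ^ (i - 2 * k) = 1 := by rw [zpow_sub, h1, mul_inv_cancel]
    rw [← orderOf_dvd_iff_zpow_eq_one, D.ordx] at h3
    have h4 : (2 : ℤ) ∣ ((2 ^ e : ℕ) : ℤ) := by exact_mod_cast dvd_pow_self 2 (by omega : e ≠ 0)
    have := h4.trans h3
    rw [even_iff_two_dvd]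
    omega
  · have h3 : D.y ^ (j - 2 * l) = 1 := by rw [zpow_sub, h2, mul_inv_cancel]
    rw [← orderOf_dvd_iff_zpow_eq_one, hy] at h3
    have h4 : (2 : ℤ) ∣ ((2 ^ f : ℕ) : ℤ) := by exact_mod_cast dvd_pow_self 2 (by omega : f ≠ 0)
    have := h4.trans h3
    rw [even_iff_two_dvd]
    omega

/-- If `x` and `y` carry the generators of `A` into `A`, then `A` is normal in `P`. -/
theorem A_normal (hx : D.x * (D.y * D.y) * D.x⁻¹ ∈ D.A hc)
    (hy : D.y * (D.x * D.x) * D.y⁻¹ ∈ D.A hc) {g : G} (hg : g ∈ (D.P : Subgroup G)) {w : G}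
    (hw : w ∈ D.A hc) : g * w * g⁻¹ ∈ D.A hc := by
  have key : ∀ u : G, u * (D.x * D.x) * u⁻¹ ∈ D.A hc → u * (D.y * D.y) * u⁻¹ ∈ D.A hc →
      u ∈ Subgroup.normalizer (D.A hc : Set G) := by
    intro u h1 h2
    refine Subgroup.mem_normalizer_fintype (S := (D.A hc : Set G)) ?_
    rintro _ ⟨i, j, rfl⟩
    show u * _ * u⁻¹ ∈ D.A hc
    rw [show u * ((D.x * D.x) ^ i * (D.y * D.y) ^ j) * u⁻¹ =
      (u * (D.x * D.x) ^ i * u⁻¹) * (u * (D.y * D.y) ^ j * u⁻¹) by group, ← conj_zpow, ← conj_zpow]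
    exact mul_mem (zpow_mem h1 i) (zpow_mem h2 j)
  obtain ⟨i, j, rfl⟩ := D.decomp hg
  have h1 := key D.x (by
    rw [show D.x * (D.x * D.x) * D.x⁻¹ = D.x * D.x by group]; exact D.xx_mem hc) hx
  have h2 := key D.y hy (by
    rw [show D.y * (D.y * D.y) * D.y⁻¹ = D.y * D.y by group]; exact D.yy_mem hc)
  exact (Subgroup.mem_normalizer_iff.1 (mul_mem (zpow_mem h1 i) (zpow_mem h2 j)) w).1 hw

end Fac

section Parity

variable [Fintype Ω] [DecidableEq Ω] [Finite G] [FaithfulSMul G Ω] [Fact (Nat.Prime 2)]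

theorem neg_one_zpow_eq_one {n : ℤ} (h : (-1 : ℤˣ) ^ n = 1) : Even n := by
  rcases Int.even_or_odd' n with ⟨k, rfl | rfl⟩
  · exact even_two_mul k
  · rw [zpow_add, zpow_mul, show (-1 : ℤˣ) ^ (2 : ℤ) = 1 by decide, one_zpow, one_mul, zpow_one] at h
    exact absurd h (by decide)

theorem sgn_mul_self (g : G) : sgn (Ω := Ω) (g * g) = 1 := by
  rw [map_mul, Int.units_mul_self]

theorem sgn_conj (g h : G) : sgn (Ω := Ω) (g * h * g⁻¹) = sgn (Ω := Ω) h := by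
  rw [map_mul, map_mul, map_inv, mul_comm, inv_mul_cancel_left]

theorem Fac.sgn_eq (D : Fac G Ω e) (H : Hyp G Ω e) (he : 2 ≤ e) (i j : ℤ) :
    sgn (Ω := Ω) (D.x ^ i * D.y ^ j) = (-1) ^ (i + j) := by
  have hn2 : 2 < Nat.card Ω := by
    obtain ⟨o, ho, hn⟩ := H.card
    rw [hn]
    calc 2 < 2 ^ 2 * 1 := by norm_num
      _ ≤ 2 ^ e * o := Nat.mul_le_mul (Nat.pow_le_pow_right two_pos he) ho.pos
  rw [map_mul, map_zpow, map_zpow, D.sgn_x H (by omega), D.sgn_y H (by omega) hn2, zpow_add]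

theorem Fac.even_add (D : Fac G Ω e) (H : Hyp G Ω e) (he : 2 ≤ e) {i j : ℤ}
    (h : sgn (Ω := Ω) (D.x ^ i * D.y ^ j) = 1) : Even (i + j) :=
  neg_one_zpow_eq_one (by rw [← D.sgn_eq H he]; exact h)

end Parity

end Cfsg.Agent.Lib.CycZFactor60
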