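import Mathlib

/-!
# Doubly transitive groups with a semiregular cyclic 2-subgroup of full order: basic facts

Owner: helper60 (row S3252).

`Hyp G Ω e`: doubly transitive, the 2-subgroups of point stabilisers are cyclic, and some element
of order `2 ^ e` (the full 2-part of the degree) acts semiregularly.
`Fac G Ω e`: a Sylow 2-subgroup `P = ⟨x⟩⟨y⟩` with `⟨y⟩ = P_α`, `⟨x⟩` regular on `P α`.
-/

set_option autoImplicit false
set_option linter.unusedSectionVars false

namespace Cfsg.Agent.Lib.CycZFactor60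

open MulAction

variable {G : Type*} [Group G] {Ω : Type*} [MulAction G Ω]

/-- The standing hypothesis. -/
structure Hyp (G : Type*) [Group G] (Ω : Type*) [MulAction G Ω] (e : ℕ) : Prop where
  trans : ∀ a b c d : Ω, a ≠ b → c ≠ d → ∃ g : G, g • a = c ∧ g • b = d
  cyclic : ∀ (a : Ω) (T : Subgroup G), IsPGroup 2 T → T ≤ stabilizer G a → IsCyclic T
  gen : ∃ x : G, orderOf x = 2 ^ e ∧ ∀ (a : Ω) (k : ℤ), x ^ k • a = a → x ^ k = 1
  card : ∃ o, Odd o ∧ Nat.card Ω = 2 ^ e * o

/-- A factorised Sylow 2-subgroup. -/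
structure Fac (G : Type*) [Group G] (Ω : Type*) [MulAction G Ω] (e : ℕ) where
  P : Sylow 2 G
  α : Ω
  x : G
  y : G
  xmem : x ∈ (P : Subgroup G)
  ordx : orderOf x = 2 ^ e
  free : ∀ (a : Ω) (k : ℤ), x ^ k • a = a → x ^ k = 1
  stab : Subgroup.zpowers y = (P : Subgroup G) ⊓ stabilizer G α
  orbit : ∀ g ∈ (P : Subgroup G), ∃ k : ℤ, x ^ k • α = g • α

theorem two_pow_mul_odd_inj {a b c d : ℕ} (hc : Odd c) (hd : Odd d) (h : 2 ^ a * c = 2 ^ b * d) :
    a = b := by
  have key : ∀ {a b c d : ℕ}, Odd c → Odd d → 2 ^ a * c = 2 ^ b * d → a ≤ b := by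
    intro a b c d _ hd h
    have h1 : 2 ^ a ∣ 2 ^ b * d := ⟨c, h.symm⟩
    have h2 : Nat.Coprime (2 ^ a) d := Nat.Coprime.pow_left a hd.coprime_two_left
    exact Nat.pow_dvd_pow_iff_le_right (by norm_num) |>.1 (h2.dvd_of_dvd_mul_right h1)
  exact le_antisymm (key hc hd h) (key hd hc h.symm)

/-- A cyclic group has at most one subgroup of each order. -/
theorem subgroup_eq_of_card_eq {C : Type*} [Group C] [Finite C] [IsCyclic C] {A B : Subgroup C}
    (h : Nat.card A = Nat.card B) : A = B := by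
  classical
  haveI := Fintype.ofFinite C
  have key : ∀ D : Subgroup C, Nat.card D = Nat.card A →
      (Finset.univ.filter fun x => x ∈ D) = Finset.univ.filter fun x : C => x ^ Nat.card A = 1 := by
    intro D hD
    refine Finset.eq_of_subset_of_card_le ?_ ?_
    · intro x hx
      simp only [Finset.mem_filter, Finset.mem_univ, true_and] at hx ⊢
      have := Subgroup.orderOf_dvd_natCard D hx
      rw [hD] at this
      exact orderOf_dvd_iff_pow_eq_one.1 this
    · have h1 : (Finset.univ.filter fun x => x ∈ D).card = Nat.card A := by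
        rw [← hD, Nat.card_eq_fintype_card, ← Fintype.card_subtype]
      rw [h1]
      exact IsCyclic.card_pow_eq_one_le Nat.card_pos
  ext x
  simpa using Finset.ext_iff.1 ((key A rfl).trans (key B h.symm).symm) x

variable [Finite G] [Finite Ω] {e : ℕ}

theorem Hyp.pretransitive (H : Hyp G Ω e) (he : 1 ≤ e) : IsPretransitive G Ω := by
  obtain ⟨o, ho, hn⟩ := H.card
  have h2 : 2 ≤ Nat.card Ω := by
    rw [hn]
    calc 2 = 2 ^ 1 * 1 := rfl
      _ ≤ 2 ^ e * o := Nat.mul_le_mul (Nat.pow_le_pow_right two_pos he) ho.pos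
  haveI : Nontrivial Ω := Finite.one_lt_card_iff_nontrivial.1 (by omega)
  refine ⟨fun a b => ?_⟩
  obtain ⟨a', ha'⟩ := exists_ne a
  obtain ⟨b', hb'⟩ := exists_ne b
  obtain ⟨g, hg, -⟩ := H.trans a a' b b' ha'.symm hb'.symm
  exact ⟨g, hg⟩

variable [hp2 : Fact (Nat.Prime 2)]

/-- Any 2-subgroup meeting `G_α` in a Sylow 2-subgroup of `G_α` sits in some `Fac` at `α`. -/
theorem Hyp.exists_fac (H : Hyp G Ω e) (he : 1 ≤ e) (α : Ω) {W : Subgroup G} (hW : IsPGroup 2 W)
    (hmax : ∀ T : Subgroup G, IsPGroup 2 T → T ≤ stabilizer G α → W ⊓ stabilizer G α ≤ T →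
      T = W ⊓ stabilizer G α) :
    ∃ D : Fac G Ω e, D.α = α ∧ W ≤ (D.P : Subgroup G) ∧
      Subgroup.zpowers D.y = W ⊓ stabilizer G α := by
  classical
  haveI := H.pretransitive he
  obtain ⟨P, hWP⟩ := hW.exists_le_sylow
  set S : Subgroup G := stabilizer G α with hS
  set T : Subgroup G := W ⊓ S with hTdef
  have hTp : IsPGroup 2 T := hW.to_le inf_le_left
  have hPS : (P : Subgroup G) ⊓ S = T :=
    hmax _ (P.2.to_le inf_le_left) inf_le_right (le_inf (inf_le_left.trans hWP) inf_le_right)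
  -- `T` is a Sylow 2-subgroup of `S`
  have hTS : T ≤ S := inf_le_right
  obtain ⟨R, hR⟩ := (hTp.comap_subtype (K := S)).exists_le_sylow
  have hRT : (R : Subgroup S).map S.subtype = T := by
    refine hmax _ (R.2.map _) (Subgroup.map_subtype_le _) ?_
    intro g hg
    exact ⟨⟨g, hTS hg⟩, hR (Subgroup.mem_subgroupOf.2 hg), rfl⟩
  have hodd : Odd (T.relIndex S) := by
    rw [← Nat.not_even_iff_odd, even_iff_two_dvd, ← hRT]
    have h1 : ((R : Subgroup S).map S.subtype).relIndex S = (R : Subgroup S).index := by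
      rw [Subgroup.relIndex, Subgroup.subgroupOf,
        Subgroup.comap_map_eq_self_of_injective S.subtype_injective]
    rw [h1]
    exact R.not_dvd_index
  obtain ⟨o, ho, hn⟩ := H.card
  have hSi : S.index = Nat.card Ω := index_stabilizer_of_transitive G α
  -- the orbit of `α` under `P` has `2 ^ e` points
  have hTP : T ≤ (P : Subgroup G) := hPS ▸ inf_le_left
  obtain ⟨k, hk⟩ : ∃ k, T.relIndex (P : Subgroup G) = 2 ^ k := by
    have hd : T.relIndex (P : Subgroup G) ∣ Nat.card (P : Subgroup G) :=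
      Subgroup.relIndex_dvd_card _ _
    obtain ⟨m, hm⟩ := IsPGroup.iff_card.1 P.2
    rw [hm] at hd
    obtain ⟨k, -, hk⟩ := (Nat.dvd_prime_pow Nat.prime_two).1 hd
    exact ⟨k, hk⟩
  have hPodd : Odd (P : Subgroup G).index := by
    rw [← Nat.not_even_iff_odd, even_iff_two_dvd]
    exact P.not_dvd_index
  have hk' : k = e := by
    refine two_pow_mul_odd_inj hPodd (hodd.mul ho) ?_
    have h1 := Subgroup.relIndex_mul_index hTP
    have h2 := Subgroup.relIndex_mul_index hTS
    rw [hSi, hn] at h2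
    rw [hk] at h1
    rw [h1, ← h2]
    ring
  subst hk'
  -- a semiregular element of `P`
  obtain ⟨x₀, hx₀, hfree⟩ := H.gen
  have hx₀p : IsPGroup 2 (Subgroup.zpowers x₀) := IsPGroup.of_card (n := k) (by
    rw [Nat.card_zpowers, hx₀])
  obtain ⟨Q, hQ⟩ := hx₀p.exists_le_sylow
  obtain ⟨g, hg⟩ := exists_smul_eq G Q P
  set x := g * x₀ * g⁻¹ with hx
  have hxP : x ∈ (P : Subgroup G) := by
    rw [← hg, Sylow.coe_subgroup_smul]
    exact Subgroup.smul_mem_pointwise_smul x₀ (MulAut.conj g) _ (hQ (Subgroup.mem_zpowers x₀))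
  have hxord : orderOf x = 2 ^ k := by
    rw [hx, ← hx₀]
    exact (SemiconjBy.orderOf_eq _ (by simp [SemiconjBy] : SemiconjBy g x₀ (g * x₀ * g⁻¹))).symm
  have hxfree : ∀ (a : Ω) (i : ℤ), x ^ i • a = a → x ^ i = 1 := by
    intro a i h
    have hc : x ^ i = g * x₀ ^ i * g⁻¹ := by rw [hx, conj_zpow]
    rw [hc, mul_smul, mul_smul] at h
    have h' : x₀ ^ i • (g⁻¹ • a) = g⁻¹ • a := by
      have := congrArg (g⁻¹ • ·) h
      simpa using this
    rw [hc, hfree _ i h', mul_one, mul_inv_cancel]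
  obtain ⟨y, hy⟩ := (Subgroup.isCyclic_iff_exists_zpowers_eq_top T).1 (H.cyclic α T hTp hTS)
  refine ⟨⟨P, α, x, y, hxP, hxord, hxfree, by rw [hy, hPS], ?_⟩, rfl, hWP, hy⟩
  -- the cosets `x ^ i T` cover `P`
  intro p hp
  let f : Fin (2 ^ k) → (P : Subgroup G) ⧸ T.subgroupOf (P : Subgroup G) :=
    fun i => (⟨x ^ (i : ℕ), pow_mem hxP _⟩ : (P : Subgroup G))
  have hf : Function.Injective f := by
    intro i j hij
    have h := QuotientGroup.eq.1 hij
    rw [Subgroup.mem_subgroupOf] at h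
    have hfix : (x ^ (i : ℕ))⁻¹ * x ^ (j : ℕ) ∈ stabilizer G α := hTS (by simpa using h)
    have he' : (x ^ (i : ℕ))⁻¹ * x ^ (j : ℕ) = x ^ (-(i : ℤ) + (j : ℤ)) := by
      rw [zpow_add, zpow_neg, zpow_natCast, zpow_natCast]
    rw [he'] at hfix
    have h1 := hxfree α _ hfix
    rw [← he', inv_mul_eq_one] at h1
    exact Fin.ext (pow_injOn_Iio_orderOf (by simp [hxord]) (by simp [hxord]) h1)
  have hcard : Nat.card ((P : Subgroup G) ⧸ T.subgroupOf (P : Subgroup G)) = 2 ^ k := by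
    rw [← hk]; rfl
  haveI : Fintype ((P : Subgroup G) ⧸ T.subgroupOf (P : Subgroup G)) := Fintype.ofFinite _
  have hsurj : Function.Surjective f :=
    ((Fintype.bijective_iff_injective_and_card f).2 ⟨hf, by
      rw [Fintype.card_fin, ← Nat.card_eq_fintype_card, hcard]⟩).2
  obtain ⟨i, hi⟩ := hsurj (⟨p, hp⟩ : (P : Subgroup G))
  have h := QuotientGroup.eq.1 hi
  rw [Subgroup.mem_subgroupOf] at h
  have h' : (x ^ (i : ℕ))⁻¹ * p ∈ stabilizer G α := hTS (by simpa using h)
  rw [mem_stabilizer_iff, mul_smul, inv_smul_eq_iff] at h'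
  exact ⟨(i : ℤ), by rw [zpow_natCast]; exact h'.symm⟩

/-- Some `Fac` exists at every point. -/
theorem Hyp.exists_fac' (H : Hyp G Ω e) (he : 1 ≤ e) (α : Ω) : ∃ D : Fac G Ω e, D.α = α := by
  set S : Subgroup G := stabilizer G α
  obtain ⟨R⟩ : Nonempty (Sylow 2 S) := inferInstance
  have hle : (R : Subgroup S).map S.subtype ≤ S := Subgroup.map_subtype_le _
  obtain ⟨D, hD, -, -⟩ := H.exists_fac he α (W := (R : Subgroup S).map S.subtype) (R.2.map _) (by
    intro T hT hTS hle'
    rw [inf_eq_left.2 hle] at hle' ⊢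
    refine le_antisymm (fun g hg => ?_) hle'
    have h1 : T.subgroupOf S = (R : Subgroup S) := R.3 (hT.comap_subtype) fun r hr =>
      Subgroup.mem_subgroupOf.2 (hle' ⟨r, hr, rfl⟩)
    exact ⟨⟨g, hTS hg⟩, h1 ▸ Subgroup.mem_subgroupOf.2 hg, rfl⟩)
  exact ⟨D, hD⟩

/-- Subgroups of equal order in the cyclic 2-subgroups of the stabiliser of a pair are conjugate
there, so the normaliser of such a subgroup is doubly transitive on its fixed points. -/
theorem Hyp.witt (H : Hyp G Ω e) {S : Subgroup G} (hS : IsPGroup 2 S) {a b c d : Ω} (hab : a ≠ b)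
    (hcd : c ≠ d) (ha : ∀ s ∈ S, s • a = a) (hb : ∀ s ∈ S, s • b = b) (hc : ∀ s ∈ S, s • c = c)
    (hd : ∀ s ∈ S, s • d = d) :
    ∃ g ∈ Subgroup.normalizer (S : Set G), g • a = c ∧ g • b = d := by
  obtain ⟨g, hga, hgb⟩ := H.trans a b c d hab hcd
  set K : Subgroup G := stabilizer G c ⊓ stabilizer G d with hK
  set S' := S.map (MulAut.conj g).toMonoidHom with hS'
  have hSK : S ≤ K := fun s hs => ⟨hc s hs, hd s hs⟩
  have hS'K : S' ≤ K := by
    rintro _ ⟨s, hs, rfl⟩
    refine ⟨?_, ?_⟩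
    · show (g * s * g⁻¹) • _ = _
      rw [← hga, mul_smul, mul_smul, inv_smul_smul, ha s hs]
    · show (g * s * g⁻¹) • _ = _
      rw [← hgb, mul_smul, mul_smul, inv_smul_smul, hb s hs]
  obtain ⟨R, hR⟩ := (hS.comap_subtype (K := K)).exists_le_sylow
  obtain ⟨R', hR'⟩ := ((hS.map (MulAut.conj g).toMonoidHom).comap_subtype (K := K)).exists_le_sylow
  obtain ⟨h, hh⟩ := exists_smul_eq K R' R
  set S'' := S'.map (MulAut.conj (h : G)).toMonoidHom with hS''
  have hRp : IsPGroup 2 ((R : Subgroup K).map K.subtype) := R.2.map _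
  haveI : IsCyclic ((R : Subgroup K).map K.subtype) :=
    H.cyclic c _ hRp ((Subgroup.map_subtype_le _).trans inf_le_left)
  have h1 : S ≤ (R : Subgroup K).map K.subtype := fun s hs =>
    ⟨⟨s, hSK hs⟩, hR (Subgroup.mem_subgroupOf.2 hs), rfl⟩
  have h2 : S'' ≤ (R : Subgroup K).map K.subtype := by
    rintro _ ⟨s, hs, rfl⟩
    have hm : (⟨s, hS'K hs⟩ : K) ∈ (R' : Subgroup K) := hR' (Subgroup.mem_subgroupOf.2 hs)
    refine ⟨h * ⟨s, hS'K hs⟩ * h⁻¹, ?_, by simp⟩
    rw [← hh, Sylow.coe_subgroup_smul]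
    exact Subgroup.smul_mem_pointwise_smul _ (MulAut.conj h) _ hm
  have hcard : Nat.card S'' = Nat.card S := by
    rw [hS'', Subgroup.card_map_of_injective (MulEquiv.injective _), hS',
      Subgroup.card_map_of_injective (MulEquiv.injective _)]
  have heq : S''.subgroupOf ((R : Subgroup K).map K.subtype) =
      S.subgroupOf ((R : Subgroup K).map K.subtype) := by
    refine subgroup_eq_of_card_eq ?_
    rw [Nat.card_congr (Subgroup.subgroupOfEquivOfLe h1).toEquiv,
      Nat.card_congr (Subgroup.subgroupOfEquivOfLe h2).toEquiv, hcard]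
  have hSS : S'' = S := by
    rw [← Subgroup.map_subgroupOf_eq_of_le h1, ← Subgroup.map_subgroupOf_eq_of_le h2, heq]
  refine ⟨h * g, ?_, ?_, ?_⟩
  · refine Subgroup.mem_normalizer_fintype (S := (S : Set G)) fun s hs => ?_
    show (h : G) * g * s * ((h : G) * g)⁻¹ ∈ S
    rw [← hSS]
    exact ⟨g * s * g⁻¹, ⟨s, hs, rfl⟩, by simp [mul_assoc]⟩
  · rw [mul_smul, hga]; exact h.2.1
  · rw [mul_smul, hgb]; exact h.2.2

/-- A faithful doubly transitive group of even degree with cyclic Sylow 2-subgroups has degree 2. -/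
theorem card_eq_two_of_cyclic_sylow {Γ : Type*} [Group Γ] [Finite Γ] {F : Type*} [Finite F]
    [MulAction Γ F] [FaithfulSMul Γ F]
    (ht : ∀ a b c d : F, a ≠ b → c ≠ d → ∃ g : Γ, g • a = c ∧ g • b = d)
    (heven : Even (Nat.card F)) (hF : 0 < Nat.card F) (W : Sylow 2 Γ)
    (hW : IsCyclic (W : Subgroup Γ)) : Nat.card F = 2 := by
  classical
  by_contra hne
  have h3 : 3 ≤ Nat.card F := by obtain ⟨m, hm⟩ := heven; omega
  haveI : Fintype F := Fintype.ofFinite F
  obtain ⟨a, b, c, hab, hac, hbc⟩ := Fintype.two_lt_card_iff.1 (by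
    rw [← Nat.card_eq_fintype_card]; omega : 2 < Fintype.card F)
  have htr : ∀ u v : F, ∃ g : Γ, g • u = v := by
    intro u v
    obtain ⟨u', hu'⟩ := Fintype.exists_ne_of_one_lt_card (by
      rw [← Nat.card_eq_fintype_card]; omega) u
    obtain ⟨v', hv'⟩ := Fintype.exists_ne_of_one_lt_card (by
      rw [← Nat.card_eq_fintype_card]; omega) v
    exact (ht u u' v v' hu'.symm hv'.symm).imp fun g hg => hg.1
  -- a normal 2-complement
  have hΓ : 2 ∣ Nat.card Γ := by
    have h1 : Nat.card (orbit Γ a) ∣ Nat.card Γ := by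
      rw [Nat.card_congr (orbitEquivQuotientStabilizer Γ a)]
      exact Subgroup.card_quotient_dvd_card _
    have h2 : orbit Γ a = Set.univ := Set.eq_univ_of_forall fun v => htr a v
    rw [h2, Nat.card_univ] at h1
    exact heven.two_dvd.trans h1
  have hmin : (Nat.card Γ).minFac = 2 := (Nat.minFac_eq_two_iff _).2 hΓ
  haveI := hW
  have hNC := IsCyclic.normalizer_le_centralizer (P := W) hmin hW
  set O := (MonoidHom.transferSylow W hNC).ker
  have hOodd : ¬ 2 ∣ Nat.card O := MonoidHom.not_dvd_card_ker_transferSylow W hNC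
  have hObot : O = ⊥ := by
    by_contra hO
    obtain ⟨⟨o, ho⟩, ho1'⟩ := (Subgroup.ne_bot_iff_exists_ne_one (H := O)).1 hO
    have ho1 : o ≠ 1 := fun h1 => ho1' (Subtype.ext h1)
    obtain ⟨u, hu⟩ : ∃ u : F, o • u ≠ u := by
      by_contra hall
      push Not at hall
      exact ho1 (FaithfulSMul.eq_of_smul_eq_smul fun v : F => by rw [hall v, one_smul])
    have horb : orbit O u = Set.univ := by
      refine Set.eq_univ_of_forall fun v => ?_
      by_cases hv : v = u
      · rw [hv]; exact mem_orbit_self u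
      obtain ⟨g, hg1, hg2⟩ := ht u (o • u) u v (Ne.symm hu) (Ne.symm hv)
      refine ⟨⟨g * o * g⁻¹, (inferInstance : O.Normal).conj_mem _ ho g⟩, ?_⟩
      show (g * (o : Γ) * g⁻¹) • u = v
      rw [mul_smul, mul_smul, show g⁻¹ • u = u from by rw [inv_smul_eq_iff, hg1]]
      exact hg2
    have h1 : Nat.card (orbit O u) ∣ Nat.card O := by
      rw [Nat.card_congr (orbitEquivQuotientStabilizer O u)]
      exact Subgroup.card_quotient_dvd_card _
    rw [horb, Nat.card_univ] at h1
    exact hOodd (heven.two_dvd.trans h1)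
  -- so `Γ` is abelian
  have htop : (W : Subgroup Γ) = ⊤ := by
    have h := MonoidHom.ker_transferSylow_isComplement' W hNC
    rw [show (MonoidHom.transferSylow W hNC).ker = ⊥ from hObot] at h
    exact Subgroup.isComplement'_bot_left.1 h
  have hcomm : ∀ g h : Γ, g * h = h * g := by
    intro g h
    have := (IsCyclic.isMulCommutative (α := (W : Subgroup Γ))).is_comm.comm ⟨g, htop ▸ Subgroup.mem_top g⟩
      ⟨h, htop ▸ Subgroup.mem_top h⟩
    exact congrArg Subtype.val this
  obtain ⟨g, hga, hgb⟩ := ht a b a c hab hac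
  obtain ⟨k, hk⟩ := htr a b
  exact hbc (by rw [← hgb, ← hk, ← mul_smul, hcomm g k, mul_smul, hga])

end Cfsg.Agent.Lib.CycZFactor60
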