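import Cfsg.Agent.Lib.CycZFactor60.Key
import Cfsg.Agent.Lib.GorensteinWalter.Sylow
import Cfsg.Agent.Lib.Cores.Pi

/-!
# The even permutations have dihedral Sylow 2-subgroups

Owner: helper60 (row S3252).
-/

set_option autoImplicit false
set_option linter.unusedSectionVars false
set_option linter.style.haveILetI false

universe u

namespace Cfsg.Agent.Lib.CycZFactor60

open MulAction
open Cfsg.Agent.Lib.GorensteinWalter (CycDih HasDihedralSylow cycDih_of_pair)

/-- The subgroups of exponent two have order at most four. -/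
def NoEight (G : Type u) [Group G] : Prop :=
  ∀ E : Subgroup G, (∀ a ∈ E, a * a = 1) → Nat.card E ≤ 4

section Pair

variable {G : Type u} [Group G] [Finite G] [Fact (Nat.Prime 2)] {P : Subgroup G} {z r : G}

/-- A 2-group with a cyclic subgroup of index two has no subgroup of order eight and exponent two. -/
theorem pair_bound (hP : IsPGroup 2 P) (hz : z ∈ P) (hz1 : z ≠ 1) (hr2 : r * r = 1)
    (hcov : ∀ g ∈ P, g ∈ Subgroup.zpowers z ∨ r * g ∈ Subgroup.zpowers z)
    (hconj : r * z * r ∈ Subgroup.zpowers z) {E : Subgroup G} (hEP : E ≤ P)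
    (hE : ∀ a ∈ E, a * a = 1) : Nat.card E ≤ 4 := by
  classical
  obtain ⟨k, hk⟩ := IsPGroup.iff_orderOf.1 hP ⟨z, hz⟩
  rw [Subgroup.orderOf_mk] at hk
  have hk1 : 1 ≤ k := by
    rcases Nat.eq_zero_or_pos k with h | h
    · rw [h, pow_zero, orderOf_eq_one_iff] at hk; exact absurd hk hz1
    · exact h
  set a := z ^ 2 ^ (k - 1) with ha
  have hZ : ∀ g ∈ E, g ∈ Subgroup.zpowers z → g = 1 ∨ g = a := fun g hg hgz =>
    sq_one_cases hk1 hk hgz (hE g hg)
  by_cases hall : ∀ g ∈ E, g ∈ Subgroup.zpowers z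
  · have hsub : (E : Set G) ⊆ ({1, a} : Finset G) := fun g hg => by
      simpa using hZ g hg (hall g hg)
    calc Nat.card E ≤ Nat.card (({1, a} : Finset G) : Set G) :=
          Nat.card_mono (Finset.finite_toSet _) hsub
      _ ≤ 4 := by
          rw [Nat.card_coe_set_eq, Set.ncard_coe_finset]
          exact Finset.card_le_two.trans (by norm_num)
  push Not at hall
  obtain ⟨e₀, he₀, he₀z⟩ := hall
  have hr : r⁻¹ = r := inv_eq_of_mul_eq_one_right hr2
  have hsub : (E : Set G) ⊆ ({1, a, e₀, e₀ * a} : Finset G) := by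
    intro g hg
    simp only [Finset.coe_insert, Finset.coe_singleton, Set.mem_insert_iff, Set.mem_singleton_iff]
    by_cases hgz : g ∈ Subgroup.zpowers z
    · rcases hZ g hg hgz with h | h
      · exact Or.inl h
      · exact Or.inr (Or.inl h)
    obtain ⟨i, hi⟩ := Subgroup.mem_zpowers_iff.1 ((hcov _ (hEP he₀)).resolve_left he₀z)
    obtain ⟨j, hj⟩ := Subgroup.mem_zpowers_iff.1 ((hcov _ (hEP hg)).resolve_left hgz)
    have he : e₀ * g ∈ Subgroup.zpowers z := by
      have h1 : e₀ * g = (r * z ^ i * r) * z ^ j := by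
        rw [hi, hj, ← mul_assoc r r e₀, hr2, one_mul, mul_assoc, ← mul_assoc r r g, hr2, one_mul]
      have h2 : r * z ^ i * r = (r * z * r) ^ i := by
        have h3 : (r * z * r⁻¹) ^ i = r * z ^ i * r⁻¹ := conj_zpow
        rw [hr] at h3
        exact h3.symm
      rw [h1, h2]
      exact mul_mem (Subgroup.zpow_mem _ hconj i) (Subgroup.zpow_mem_zpowers _ _)
    have hg' : g = e₀ * (e₀ * g) := by rw [← mul_assoc, hE e₀ he₀, one_mul]
    rcases hZ _ (mul_mem he₀ hg) he with h | h
    · exact Or.inr (Or.inr (Or.inl (by rw [hg', h, mul_one])))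
    · exact Or.inr (Or.inr (Or.inr (by rw [hg', h])))
  calc Nat.card E ≤ Nat.card (({1, a, e₀, e₀ * a} : Finset G) : Set G) :=
        Nat.card_mono (Finset.finite_toSet _) hsub
    _ ≤ 4 := by
        rw [Nat.card_coe_set_eq, Set.ncard_coe_finset]
        exact Finset.card_le_four

/-- The kernel part of such a group is cyclic, dihedral, or has at most one involution. -/
theorem pair_cases (ε : G →* ℤˣ) (hP : IsPGroup 2 P) (hz : z ∈ P) (hr : r ∈ P) (hr2 : r * r = 1)
    (hεz : ε z = -1) (hεr : ε r = -1)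
    (hcov : ∀ g ∈ P, g ∈ Subgroup.zpowers z ∨ r * g ∈ Subgroup.zpowers z)
    (hconj : r * z * r ∈ Subgroup.zpowers z) :
    CycDih ↥(P ⊓ ε.ker) ∨
      ∀ u w : ↥(P ⊓ ε.ker), u * u = 1 → w * w = 1 → u ≠ 1 → w ≠ 1 → u = w := by
  classical
  have hrinv : r⁻¹ = r := inv_eq_of_mul_eq_one_right hr2
  have hpar : ∀ i : ℤ, (ε (z ^ i) = 1 → z ^ i ∈ Subgroup.zpowers (z * z)) ∧
      (ε (z ^ i) = -1 → Odd i) := by
    intro i
    rcases Int.even_or_odd' i with ⟨k, rfl | rfl⟩
    · refine ⟨fun _ => ⟨k, ?_⟩, fun h => ?_⟩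
      · show (z * z) ^ k = z ^ (2 * k)
        rw [zpow_mul, zpow_ofNat, sq]
      · rw [map_zpow, hεz, zpow_mul] at h
        norm_num at h
    · refine ⟨fun h => ?_, fun _ => ⟨k, rfl⟩⟩
      rw [map_zpow, hεz, zpow_add, zpow_mul] at h
      norm_num at h
  set s := z * r with hsdef
  have hsP : s ∈ P := mul_mem hz hr
  have hεs : ε s = 1 := by rw [hsdef, map_mul, hεz, hεr]; rfl
  have hcoset : ∀ g ∈ P ⊓ ε.ker, g ∈ Subgroup.zpowers (z * z) ∨
      ∃ i : ℤ, Odd i ∧ r * g = z ^ i ∧ s * g ∈ Subgroup.zpowers (z * z) := by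
    intro g hg
    rcases hcov g hg.1 with h | h
    · obtain ⟨i, rfl⟩ := Subgroup.mem_zpowers_iff.1 h
      exact Or.inl ((hpar i).1 (MonoidHom.mem_ker.1 hg.2))
    · obtain ⟨i, hi⟩ := Subgroup.mem_zpowers_iff.1 h
      have hodd : Odd i := (hpar i).2 (by
        rw [hi, map_mul, hεr, MonoidHom.mem_ker.1 hg.2, mul_one])
      refine Or.inr ⟨i, hodd, hi.symm, ?_⟩
      have h1 : s * g = z ^ (i + 1) := by
        rw [hsdef, mul_assoc, ← hi, zpow_add, zpow_one]
        exact (Commute.self_zpow z i).eq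
      obtain ⟨m, rfl⟩ := hodd
      refine ⟨m + 1, ?_⟩
      show (z * z) ^ (m + 1) = s * g
      rw [h1, ← sq, ← zpow_natCast z 2, ← zpow_mul]
      congr 1
      push_cast
      ring
  obtain ⟨v, hv⟩ := Subgroup.mem_zpowers_iff.1 hconj
  by_cases hss : s * s = 1
  · left
    have hinv : r * z * r = z⁻¹ := by
      have h1 : z * (r * z * r) = 1 := by rw [← hss, hsdef]; group
      exact eq_inv_of_mul_eq_one_right h1
    let a : ↥(P ⊓ ε.ker) := ⟨z * z, mul_mem hz hz, MonoidHom.mem_ker.2 (by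
      rw [map_mul, hεz]; rfl)⟩
    let b : ↥(P ⊓ ε.ker) := ⟨s, hsP, MonoidHom.mem_ker.2 hεs⟩
    refine cycDih_of_pair a b (Subtype.ext hss) (Subtype.ext ?_) ?_
    · show s * (z * z) * s⁻¹ = (z * z)⁻¹
      calc s * (z * z) * s⁻¹ = z * ((r * z * r⁻¹) * (r * z * r⁻¹)) * z⁻¹ := by rw [hsdef]; group
        _ = z * (z⁻¹ * z⁻¹) * z⁻¹ := by rw [hrinv, hinv]
        _ = (z * z)⁻¹ := by group
    · rintro ⟨g, hg⟩
      rcases hcoset g hg with h | ⟨i, -, -, h⟩
      · obtain ⟨m, hm⟩ := Subgroup.mem_zpowers_iff.1 h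
        exact Or.inl ⟨m, Subtype.ext (by simpa [a] using hm)⟩
      · obtain ⟨m, hm⟩ := Subgroup.mem_zpowers_iff.1 h
        exact Or.inr ⟨m, Subtype.ext (by simpa [a, b] using hm)⟩
  · right
    obtain ⟨k, hk⟩ := IsPGroup.iff_orderOf.1 hP ⟨z, hz⟩
    rw [Subgroup.orderOf_mk] at hk
    have hk1 : 1 ≤ k := by
      rcases Nat.eq_zero_or_pos k with h | h
      · rw [h, pow_zero, orderOf_eq_one_iff] at hk
        rw [hk, map_one] at hεz
        exact absurd hεz (by decide)
      · exact h
    have hmem : ∀ g ∈ P ⊓ ε.ker, g * g = 1 → g ∈ Subgroup.zpowers z := by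
      intro g hg hg2
      rcases hcoset g hg with h | ⟨i, hi, hgi, -⟩
      · exact Subgroup.zpowers_le.2 (mul_mem (Subgroup.mem_zpowers z) (Subgroup.mem_zpowers z)) h
      exfalso
      have hg' : g = r * z ^ i := by rw [← hgi, ← mul_assoc, hr2, one_mul]
      have hcm : Commute (r * z * r) z := by rw [← hv]; exact Commute.zpow_self z v
      have h1 : g * g = (s * s) ^ i := by
        have h2 : r * z ^ i * r = (r * z * r) ^ i := by
          have h3 : (r * z * r⁻¹) ^ i = r * z ^ i * r⁻¹ := conj_zpow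
          rw [hrinv] at h3
          exact h3.symm
        calc g * g = (r * z ^ i * r) * z ^ i := by rw [hg']; group
          _ = (r * z * r) ^ i * z ^ i := by rw [h2]
          _ = ((r * z * r) * z) ^ i := (hcm.mul_zpow i).symm
          _ = (s * s) ^ i := by
            rw [hcm.eq, hsdef]
            congr 1
            group
      rw [hg2] at h1
      obtain ⟨m, hm⟩ := hP ⟨s * s, mul_mem hsP hsP⟩
      have hm' : (s * s) ^ 2 ^ m = 1 := congrArg Subtype.val hm
      have h4 := mem_zpowers_odd hm' hi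
      rw [← h1, Subgroup.zpowers_one_eq_bot, Subgroup.mem_bot] at h4
      exact hss h4
    rintro ⟨u, hu⟩ ⟨w, hw⟩ hu2 hw2 hu1 hw1
    have hu2' : u * u = 1 := congrArg Subtype.val hu2
    have hw2' : w * w = 1 := congrArg Subtype.val hw2
    have hu' := (sq_one_cases hk1 hk (hmem u hu hu2') hu2').resolve_left
      fun h => hu1 (Subtype.ext h)
    have hw' := (sq_one_cases hk1 hk (hmem w hw hw2') hw2').resolve_left
      fun h => hw1 (Subtype.ext h)
    exact Subtype.ext (hu'.trans hw'.symm)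

end Pair

variable {G : Type u} [Group G] [Finite G] {Ω : Type u} [Finite Ω] [MulAction G Ω]
  [FaithfulSMul G Ω] {e : ℕ} [Fact (Nat.Prime 2)]

/-- A normal subgroup whose order is prime to the degree is trivial. -/
theorem eq_bot_of_odd (H : Hyp G Ω e) (he : 1 ≤ e) {N : Subgroup G} (hN : N.Normal)
    (hodd : Odd (Nat.card N)) : N = ⊥ := by
  by_contra hne
  obtain ⟨o, ho, hn⟩ := H.card
  have hpos : 0 < Nat.card Ω := by rw [hn]; exact Nat.mul_pos (pow_pos two_pos e) ho.pos
  obtain ⟨α⟩ := (Finite.card_pos_iff.1 hpos)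
  have horb : orbit N α = Set.univ := Set.eq_univ_of_forall fun b => by
    obtain ⟨g, hg, hgb⟩ := transitive_of_normal H hN hne α b
    exact ⟨⟨g, hg⟩, hgb⟩
  have h1 : Nat.card (orbit N α) ∣ Nat.card N := by
    rw [Nat.card_congr (orbitEquivQuotientStabilizer N α)]
    exact Subgroup.card_quotient_dvd_card _
  rw [horb, Nat.card_univ] at h1
  exact (Nat.not_even_iff_odd.2 hodd) (even_iff_two_dvd.2
    (((hn ▸ (dvd_pow_self 2 (by omega : e ≠ 0)).mul_right o) : 2 ∣ Nat.card Ω).trans h1))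

/-- The subgroup of even permutations has dihedral Sylow 2-subgroups and trivial odd core. -/
theorem dihedral_part (H : Hyp G Ω e) (he : 1 ≤ e) (hn : 2 < Nat.card Ω)
    (hG : ¬ Group.IsSolvable G) :
    NoEight G ∧ ∃ G₀ : Subgroup G, G₀.Normal ∧ G₀.index = 2 ∧ HasDihedralSylow G₀ ∧
      Cfsg.oddCore G₀ = ⊥ := by
  classical
  haveI : Fintype Ω := Fintype.ofFinite Ω
  haveI : Nonempty Ω := Finite.card_pos_iff.1 (by omega)
  obtain ⟨D, -⟩ := H.exists_fac' he (Classical.arbitrary Ω)
  set ε : G →* ℤˣ := sgn (Ω := Ω) with hεdef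
  have hεx : ε D.x = -1 := D.sgn_x H he
  have hεy : ε D.y = -1 := D.sgn_y H he hn
  obtain ⟨f, hf⟩ := D.exists_ord_y
  have hxpow : ∀ i : ℤ, orderOf D.x = 2 → D.x ^ i = 1 ∨ D.x ^ i = D.x := by
    intro i h
    rcases Int.even_or_odd' i with ⟨k, rfl | rfl⟩
    · left; rw [zpow_mul, zpow_ofNat, ← h, pow_orderOf_eq_one, one_zpow]
    · right; rw [zpow_add, zpow_mul, zpow_ofNat, ← h, pow_orderOf_eq_one, one_zpow, one_mul, zpow_one]
  -- a cyclic subgroup of index two
  obtain ⟨z, r, hz, hr, hr2, hεz, hεr, hcov, hconj⟩ : ∃ z r : G, z ∈ (D.P : Subgroup G) ∧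
      r ∈ (D.P : Subgroup G) ∧ r * r = 1 ∧ ε z = -1 ∧ ε r = -1 ∧
      (∀ g ∈ (D.P : Subgroup G), g ∈ Subgroup.zpowers z ∨ r * g ∈ Subgroup.zpowers z) ∧
      r * z * r ∈ Subgroup.zpowers z := by
    rcases Nat.lt_or_ge e 2 with he1 | he2
    · -- `x` is an involution
      obtain rfl : e = 1 := by omega
      have hx : orderOf D.x = 2 := by rw [D.ordx, pow_one]
      have hx2 : D.x * D.x = 1 := by rw [← sq, ← hx, pow_orderOf_eq_one]
      have hx1 : D.x ≠ 1 := fun h => by rw [h, orderOf_one] at hx; omega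
      have hcov : ∀ g ∈ (D.P : Subgroup G), g ∈ Subgroup.zpowers D.y ∨
          D.x * g ∈ Subgroup.zpowers D.y := by
        intro g hg
        obtain ⟨i, j, rfl⟩ := D.decomp hg
        rcases hxpow i hx with h | h <;> rw [h]
        · exact Or.inl (by rw [one_mul]; exact Subgroup.zpow_mem_zpowers _ _)
        · exact Or.inr (by rw [← mul_assoc, hx2, one_mul]; exact Subgroup.zpow_mem_zpowers _ _)
      refine ⟨D.y, D.x, D.ymem, D.xmem, hx2, hεy, hεx, hcov, ?_⟩
      rcases hcov _ (mul_mem (mul_mem D.xmem D.ymem) D.xmem) with h | h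
      · exact h
      · exfalso
        rw [← mul_assoc, ← mul_assoc, hx2, one_mul] at h
        have hmem : D.x ∈ Subgroup.zpowers D.y := by
          have := mul_mem (inv_mem (Subgroup.mem_zpowers D.y)) h
          rwa [inv_mul_cancel_left] at this
        obtain ⟨j, hj⟩ := Subgroup.mem_zpowers_iff.1 hmem
        have h1 : D.x ^ (1 : ℤ) = 1 := D.free D.α 1 (by rw [zpow_one, ← hj, D.y_fix])
        exact hx1 (by rwa [zpow_one] at h1)
    · -- `y` is an involution
      have hy2 : D.y * D.y = 1 := key H he2 D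
      have hy1 : D.y ≠ 1 := fun h => by
        rw [h, map_one] at hεy
        exact absurd hεy (by decide)
      have hyj : ∀ j : ℤ, D.y ^ j = 1 ∨ D.y ^ j = D.y := by
        intro j
        rcases Int.even_or_odd' j with ⟨k, rfl | rfl⟩
        · left; rw [zpow_mul, zpow_ofNat, sq, hy2, one_zpow]
        · right; rw [zpow_add, zpow_mul, zpow_ofNat, sq, hy2, one_zpow, one_mul, zpow_one]
      have hyinv : D.y⁻¹ = D.y := inv_eq_of_mul_eq_one_right hy2
      have hconj : D.y * D.x * D.y ∈ Subgroup.zpowers D.x := by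
        obtain ⟨i, j, hij⟩ := D.decomp (mul_mem (mul_mem D.ymem D.xmem) D.ymem)
        rcases hyj j with h | h <;> rw [h] at hij
        · rw [hij, mul_one]; exact Subgroup.zpow_mem_zpowers _ _
        · exfalso
          have h1 : D.y * D.x = D.x ^ i := mul_right_cancel hij
          have h2 : D.y = D.x ^ (i - 1) := by
            rw [zpow_sub, zpow_one, ← h1, mul_inv_cancel_right]
          have h3 : D.x ^ (i - 1) • D.α = D.α := by
            have := D.y_fix 1
            rw [zpow_one, h2] at this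
            exact this
          exact hy1 (h2.trans (D.free _ _ h3))
      refine ⟨D.x, D.y, D.xmem, D.ymem, hy2, hεx, hεy, fun g hg => ?_, hconj⟩
      obtain ⟨i, j, rfl⟩ := D.decomp hg
      rcases hyj j with h | h <;> rw [h]
      · exact Or.inl (by rw [mul_one]; exact Subgroup.zpow_mem_zpowers _ _)
      · refine Or.inr ?_
        have h3 : (D.y * D.x * D.y⁻¹) ^ i = D.y * D.x ^ i * D.y⁻¹ := conj_zpow
        rw [hyinv] at h3
        rw [← mul_assoc, ← h3]
        exact Subgroup.zpow_mem _ hconj i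
  have hz1 : z ≠ 1 := fun h => by
    rw [h, map_one] at hεz
    exact absurd hεz (by decide)
  constructor
  · intro E hE
    have hEp : IsPGroup 2 E := fun a => ⟨1, Subtype.ext (by
      show (a : G) ^ 2 ^ 1 = 1
      rw [pow_one, sq, hE _ a.2])⟩
    obtain ⟨Q, hQ⟩ := hEp.exists_le_sylow
    obtain ⟨g, hg⟩ := exists_smul_eq G Q D.P
    have hle : E.map (MulAut.conj g).toMonoidHom ≤ (D.P : Subgroup G) := by
      rintro _ ⟨a, ha, rfl⟩
      rw [← hg, Sylow.coe_subgroup_smul]
      exact Subgroup.smul_mem_pointwise_smul a (MulAut.conj g) _ (hQ ha)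
    rw [← Subgroup.card_map_of_injective (f := (MulAut.conj g).toMonoidHom) (MulEquiv.injective _)]
    refine pair_bound D.P.2 hz hz1 hr2 hcov hconj hle ?_
    rintro _ ⟨a, ha, rfl⟩
    rw [← map_mul, hE a ha, map_one]
  set G₀ := ε.ker with hG₀
  have hidx : G₀.index = 2 := by
    rw [hG₀, Subgroup.index_ker]
    have htop : ε.range = ⊤ := by
      refine eq_top_iff.2 fun u _ => ?_
      rcases Int.units_eq_one_or u with rfl | rfl
      · exact one_mem _
      · exact ⟨_, hεz⟩
    rw [htop, Subgroup.card_top, Nat.card_eq_fintype_card, Fintype.card_units_int]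
  have hcore : Cfsg.oddCore G₀ = ⊥ := by
    haveI : G₀.Normal := MonoidHom.normal_ker ε
    haveI hchar : (Cfsg.oddCore G₀).Characteristic := Cores.pPrimeCore_characteristic 2
    have h1 := eq_bot_of_odd H he (Cores.normal_map_subtype G₀ (Cfsg.oddCore G₀)) (by
      rw [Subgroup.card_map_of_injective G₀.subtype_injective]
      exact Cores.oddCore_odd)
    exact (Subgroup.map_eq_bot_iff_of_injective _ G₀.subtype_injective).1 h1
  refine ⟨G₀, MonoidHom.normal_ker ε, hidx, ?_, hcore⟩
  have hG0sol : ¬ Group.IsSolvable G₀ := by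
    intro hs
    refine hG ?_
    haveI := hs
    exact Group.isSolvable_of_ker_le_range G₀.subtype ε (by rw [Subgroup.range_subtype])
  -- every Sylow 2-subgroup of `G₀` embeds in the even part of `P`
  have hemb : ∀ S : Sylow 2 G₀, ∃ φ : (S : Subgroup G₀) →* ↥((D.P : Subgroup G) ⊓ ε.ker),
      Function.Injective φ := by
    intro S
    obtain ⟨Q, hQ⟩ := (S.2.map G₀.subtype).exists_le_sylow
    obtain ⟨g, hg⟩ := exists_smul_eq G Q D.P
    refine ⟨((MulAut.conj g).toMonoidHom.comp (G₀.subtype.comp (S : Subgroup G₀).subtype)).codRestrict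
      _ fun s => ⟨?_, ?_⟩, fun a b hab => ?_⟩
    · rw [SetLike.mem_coe, ← hg, Sylow.coe_subgroup_smul]
      exact Subgroup.smul_mem_pointwise_smul _ (MulAut.conj g) _ (hQ ⟨_, s.2, rfl⟩)
    · exact (MonoidHom.normal_ker ε).conj_mem _ (s : G₀).2 g
    · have h := (MulAut.conj g).injective (congrArg Subtype.val hab :)
      exact Subtype.ext (Subtype.ext h)
  -- no Sylow 2-subgroup of `G₀` has a unique involution
  have hfin : ∀ S : Sylow 2 G₀,
      (∀ u w : (S : Subgroup G₀), u * u = 1 → w * w = 1 → u ≠ 1 → w ≠ 1 → u = w) → False := by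
    intro S huniq
    have h2 : 2 ∣ Nat.card (S : Subgroup G₀) := by
      obtain ⟨k, hk⟩ := IsPGroup.iff_card.1 S.2
      rcases Nat.eq_zero_or_pos k with h | h
      · exfalso
        refine hG0sol (Cfsg.Agent.S0205.result ?_)
        rw [h, pow_zero] at hk
        rw [← Nat.not_even_iff_odd, even_iff_two_dvd]
        have h1 := S.not_dvd_index
        rw [← Subgroup.card_mul_index (S : Subgroup G₀), hk, one_mul]
        exact h1
      · exact hk ▸ dvd_pow_self 2 h.ne'
    obtain ⟨u, hu⟩ := exists_prime_orderOf_dvd_card' 2 h2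
    have hu2 : u * u = 1 := by
      have := pow_orderOf_eq_one u
      rwa [hu, sq] at this
    have hu1 : u ≠ 1 := fun h => by rw [h, orderOf_one] at hu; omega
    obtain ⟨N, hN, hNodd, hcen⟩ := Cfsg.Agent.S0215.result S (u : G₀)
      (by rw [Subgroup.orderOf_coe, hu]) u.2 (fun g hg => by
        have h1 := huniq ⟨_, hg⟩ u (Subtype.ext (by
            show g * (u : G₀) * g⁻¹ * (g * (u : G₀) * g⁻¹) = 1
            rw [show g * (u : G₀) * g⁻¹ * (g * (u : G₀) * g⁻¹) = g * ((u : G₀) * u) * g⁻¹ by group,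
              show (u : G₀) * u = 1 from congrArg Subtype.val hu2, mul_one, mul_inv_cancel])) hu2
          (fun h => hu1 (Subtype.ext (conj_eq_one_iff.1 (congrArg Subtype.val h)))) hu1
        exact congrArg Subtype.val h1)
    haveI := hN
    have hNbot : N = ⊥ := le_bot_iff.1 (hcore ▸ Cores.le_oddCore hNodd)
    have hcentral : (u : G₀) ∈ Subgroup.center G₀ := Subgroup.mem_center_iff.2 fun g => by
      have := hcen g
      rw [hNbot, Subgroup.mem_bot, mul_inv_eq_one, mul_inv_eq_iff_eq_mul] at this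
      exact this.symm
    haveI : G₀.Normal := MonoidHom.normal_ker ε
    have hne : (Subgroup.center G₀).map G₀.subtype ≠ ⊥ := by
      rw [Ne, Subgroup.map_eq_bot_iff_of_injective _ G₀.subtype_injective, Subgroup.eq_bot_iff_forall]
      exact fun h => hu1 (Subtype.ext (h _ hcentral))
    have hnorm := Cores.normal_map_subtype G₀ (Subgroup.center G₀)
    -- a transitive centre is the whole group
    have hall : ∀ g : G₀, g ∈ Subgroup.center G₀ := by
      intro g
      obtain ⟨_, ⟨c, hc, rfl⟩, hcg⟩ := transitive_of_normal H hnorm hne D.α ((g : G) • D.α)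
      suffices hgc : g = c from hgc ▸ hc
      refine Subtype.ext (FaithfulSMul.eq_of_smul_eq_smul fun ω : Ω => ?_)
      obtain ⟨_, ⟨d, hd, rfl⟩, hdω⟩ := transitive_of_normal H hnorm hne D.α ω
      have hcd : (g : G) * (d : G) = (d : G) * g :=
        congrArg Subtype.val (Subgroup.mem_center_iff.1 hd g)
      have hcd' : (c : G) * (d : G) = (d : G) * c :=
        congrArg Subtype.val (Subgroup.mem_center_iff.1 hd c)
      simp only [Subgroup.coe_subtype] at hcg hdω
      rw [← hdω, ← mul_smul, ← mul_smul, hcd, hcd', mul_smul, mul_smul, hcg]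
    exact hG0sol (Group.isSolvable_of_comm fun a b => (Subgroup.mem_center_iff.1 (hall b) a))
  intro S
  obtain ⟨φ, hφ⟩ := hemb S
  rcases pair_cases ε D.P.2 hz hr hr2 hεz hεr hcov hconj with h | h
  · rcases h.of_injective φ hφ with hc | hd
    · exfalso
      refine hfin S ?_
      obtain ⟨w, hw⟩ := hc.exists_generator
      obtain ⟨k, hk⟩ := IsPGroup.iff_orderOf.1 S.2 w
      intro u v hu hv hu1 hv1
      have hk1 : 1 ≤ k := by
        rcases Nat.eq_zero_or_pos k with h0 | h0
        · exfalso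
          rw [h0, pow_zero, orderOf_eq_one_iff] at hk
          obtain ⟨i, hi⟩ := hw u
          exact hu1 (by rw [← hi]; simp [hk])
        · exact h0
      rw [(sq_one_cases hk1 hk (hw u) hu).resolve_left hu1,
        (sq_one_cases hk1 hk (hw v) hv).resolve_left hv1]
    · exact hd
  · exact (hfin S fun u w hu hw hu1 hw1 => hφ (h (φ u) (φ w)
      (by rw [← map_mul, hu, map_one]) (by rw [← map_mul, hw, map_one])
      (fun e => hu1 (hφ (e.trans (map_one φ).symm))) (fun e => hw1 (hφ (e.trans (map_one φ).symm))))).elim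

end Cfsg.Agent.Lib.CycZFactor60
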