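import Cfsg.Agent.S0205
import Mathlib.GroupTheory.SpecificGroups.ZGroup
import Cfsg.Agent.Lib.PrimePowerClass.Radical

/-!
# Products of a cyclic group and a Z-group: quotients, subgroups, Sylow 2-subgroups

Owner: helper60 (row S3252).
-/

set_option autoImplicit false
set_option linter.unusedSectionVars false
set_option linter.style.haveILetI false

universe u

namespace Cfsg.Agent.Lib.CycZFactor60

/-- `G = AB` with `A` cyclic and `B` a Z-group. -/
def Factor (G : Type u) [Group G] (A B : Subgroup G) : Prop :=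
  IsCyclic A ∧ IsZGroup B ∧ ∀ g : G, ∃ a ∈ A, ∃ b ∈ B, g = a * b

variable {G : Type u} [Group G] [Finite G]

theorem Factor.map {Q : Type u} [Group Q] {A B : Subgroup G} (h : Factor G A B) (f : G →* Q)
    (hf : Function.Surjective f) : Factor Q (A.map f) (B.map f) := by
  obtain ⟨hA, hB, hAB⟩ := h
  haveI := hA
  haveI := hB
  refine ⟨isCyclic_of_surjective (f.subgroupMap A) (f.subgroupMap_surjective A),
    IsZGroup.of_surjective (f.subgroupMap_surjective B), fun q => ?_⟩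
  obtain ⟨g, rfl⟩ := hf q
  obtain ⟨a, ha, b, hb, rfl⟩ := hAB g
  exact ⟨f a, ⟨a, ha, rfl⟩, f b, ⟨b, hb, rfl⟩, map_mul f a b⟩

theorem Factor.restrict {A B : Subgroup G} (h : Factor G A B) {M : Subgroup G} (hBM : B ≤ M) :
    Factor M (A.subgroupOf M) (B.subgroupOf M) := by
  obtain ⟨hA, hB, hAB⟩ := h
  haveI := hA
  haveI := hB
  refine ⟨isCyclic_of_injective
      (((M.subtype).comp (A.subgroupOf M).subtype).codRestrict A fun x => x.2)
      fun a b hab => Subtype.ext (Subtype.ext (congrArg Subtype.val hab :)),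
    IsZGroup.of_injective (f := (Subgroup.subgroupOfEquivOfLe hBM).toMonoidHom)
      (Subgroup.subgroupOfEquivOfLe hBM).injective, fun g => ?_⟩
  obtain ⟨a, ha, b, hb, hg⟩ := hAB g
  have haM : a ∈ M := by
    have h1 := mul_mem g.2 (inv_mem (hBM hb))
    rwa [hg, mul_inv_cancel_right] at h1
  exact ⟨⟨a, haM⟩, ha, ⟨b, hBM hb⟩, hb, Subtype.ext hg⟩

/-- A group with cyclic Sylow 2-subgroups is solvable. -/
theorem solvable_of_cyclic_two (S : Sylow 2 G) [hS : IsCyclic (S : Subgroup G)] :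
    Group.IsSolvable G := by
  haveI : Fact (Nat.Prime 2) := ⟨Nat.prime_two⟩
  by_cases hG : Odd (Nat.card G)
  · exact Cfsg.Agent.S0205.result hG
  rw [Nat.not_odd_iff_even, even_iff_two_dvd] at hG
  have hmin : (Nat.card G).minFac = 2 := (Nat.minFac_eq_two_iff _).2 hG
  have hNC := IsCyclic.normalizer_le_centralizer (P := S) hmin hS
  set f := MonoidHom.transferSylow S hNC
  haveI : Group.IsSolvable f.ker := Cfsg.Agent.S0205.result (Nat.not_even_iff_odd.1 fun h =>
    MonoidHom.not_dvd_card_ker_transferSylow S hNC (even_iff_two_dvd.1 h))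
  haveI : Group.IsSolvable (S : Subgroup G) :=
    Group.isSolvable_of_comm fun a b => IsCyclic.isMulCommutative.is_comm.comm a b
  exact Group.isSolvable_of_ker_le_range f.ker.subtype f (by rw [Subgroup.range_subtype])

/-- A noncyclic 2-group has a normal subgroup of index at least four containing all squares. -/
theorem exists_four_index {P : Type u} [Group P] [Finite P] (hP : IsPGroup 2 P)
    (hnc : ¬ IsCyclic P) :
    ∃ N : Subgroup P, N.Normal ∧ (∀ g : P, g * g ∈ N) ∧ 4 ≤ N.index := by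
  haveI : Fact (Nat.Prime 2) := ⟨Nat.prime_two⟩
  haveI := hP.isNilpotent
  haveI hne : Nontrivial P := by
    by_contra h
    haveI := not_nontrivial_iff_subsingleton.1 h
    exact hnc inferInstance
  have hcoatom : ∀ M : Subgroup P, IsCoatom M → M.Normal ∧ M.index = 2 := by
    intro M hM
    haveI hn : M.Normal := Subgroup.NormalizerCondition.normal_of_coatom M
      Group.normalizerCondition_of_isNilpotent hM
    refine ⟨hn, ?_⟩
    obtain ⟨k, hk⟩ := hP.index M
    haveI : Nontrivial (P ⧸ M) := by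
      rw [← Finite.one_lt_card_iff_nontrivial, ← Subgroup.index_eq_card]
      exact Subgroup.one_lt_index_of_ne_top hM.1
    obtain ⟨q, hq⟩ := exists_prime_orderOf_dvd_card' (G := P ⧸ M) 2 (by
      rw [← Subgroup.index_eq_card, hk]
      refine dvd_pow_self 2 fun h0 => ?_
      have := Subgroup.one_lt_index_of_ne_top hM.1
      rw [hk, h0, pow_zero] at this
      omega)
    have htop : Subgroup.zpowers q = ⊤ := by
      have hle : M < (Subgroup.zpowers q).comap (QuotientGroup.mk' M) := by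
        refine lt_of_le_of_ne (fun m hm => ?_) fun heq => ?_
        · rw [Subgroup.mem_comap, QuotientGroup.mk'_apply, (QuotientGroup.eq_one_iff m).2 hm]
          exact one_mem _
        · obtain ⟨g, rfl⟩ := QuotientGroup.mk_surjective q
          have hg : g ∈ M := heq ▸ Subgroup.mem_comap.2 (Subgroup.mem_zpowers _)
          rw [(QuotientGroup.eq_one_iff g).2 hg, orderOf_one] at hq
          omega
      rw [← Subgroup.map_comap_eq_self_of_surjective (QuotientGroup.mk'_surjective M)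
        (Subgroup.zpowers q), hM.2 _ hle, Subgroup.map_top_of_surjective _ (QuotientGroup.mk'_surjective M)]
    rw [Subgroup.index_eq_card, ← Subgroup.card_top, ← htop, Nat.card_zpowers, hq]
  obtain ⟨M₁, hM₁, -⟩ := (eq_top_or_exists_le_coatom (⊥ : Subgroup P)).resolve_left bot_ne_top
  obtain ⟨g, hg⟩ : ∃ g, g ∉ M₁ := by
    by_contra h
    push Not at h
    exact hM₁.1 (eq_top_iff.2 fun x _ => h x)
  obtain ⟨M₂, hM₂, hgM⟩ := (eq_top_or_exists_le_coatom (Subgroup.zpowers g)).resolve_left fun h =>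
    hnc (⟨g, fun x => Subgroup.mem_zpowers_iff.1 (h ▸ Subgroup.mem_top x)⟩)
  obtain ⟨hn₁, hi₁⟩ := hcoatom M₁ hM₁
  obtain ⟨hn₂, hi₂⟩ := hcoatom M₂ hM₂
  refine ⟨M₁ ⊓ M₂, inferInstance, fun x => ⟨Subgroup.mul_self_mem_of_index_two hi₁ x,
    Subgroup.mul_self_mem_of_index_two hi₂ x⟩, ?_⟩
  have h1 := Subgroup.relIndex_mul_index (inf_le_left : M₁ ⊓ M₂ ≤ M₁)
  rw [Subgroup.inf_relIndex_left, hi₁] at h1
  rw [← h1]
  suffices M₂.relIndex M₁ ≠ 1 ∧ M₂.relIndex M₁ ≠ 0 by omega
  refine ⟨fun h => ?_, Subgroup.index_ne_zero_of_finite⟩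
  rcases lt_or_eq_of_le (Subgroup.relIndex_eq_one.1 h) with hlt | heq
  · exact hM₂.1 (hM₁.2 _ hlt)
  · exact hg (heq ▸ hgM (Subgroup.mem_zpowers g))

/-- A Sylow 2-subgroup of `AB` is the product of two cyclic subgroups. -/
theorem exists_sylow_product {A B : Subgroup G} (h : Factor G A B) :
    ∃ (P : Sylow 2 G) (a b : G), a ∈ (P : Subgroup G) ∧ b ∈ (P : Subgroup G) ∧
      ∀ p ∈ (P : Subgroup G), ∃ i j : ℤ, p = a ^ i * b ^ j := by
  haveI : Fact (Nat.Prime 2) := ⟨Nat.prime_two⟩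
  obtain ⟨hA, hB, hAB⟩ := h
  haveI := hA
  haveI := hB
  obtain ⟨SA⟩ : Nonempty (Sylow 2 A) := inferInstance
  obtain ⟨SB⟩ : Nonempty (Sylow 2 B) := inferInstance
  set A₂ := (SA : Subgroup A).map A.subtype with hA₂
  obtain ⟨P₀, hP₀⟩ := (SA.2.map A.subtype).exists_le_sylow
  obtain ⟨P₁, hP₁⟩ := (SB.2.map B.subtype).exists_le_sylow
  obtain ⟨g, hg⟩ := MulAction.exists_smul_eq G P₀ P₁
  obtain ⟨a', ha', b', hb', hab⟩ := hAB g⁻¹
  set B₂ := ((SB : Subgroup B).map B.subtype).map (MulAut.conj b').toMonoidHom with hB₂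
  set P := a'⁻¹ • P₀ with hP
  have hA₂A : A₂ ≤ A := Subgroup.map_subtype_le _
  have hB₂B : B₂ ≤ B := by
    rintro _ ⟨x, hx, rfl⟩
    exact mul_mem (mul_mem hb' (Subgroup.map_subtype_le _ hx)) (inv_mem hb')
  have hA₂P : A₂ ≤ (P : Subgroup G) := by
    intro x hx
    rw [hP, Sylow.coe_subgroup_smul]
    have h1 : x = a'⁻¹ * x * a' := by
      have hc : (⟨x, hA₂A hx⟩ : A) * ⟨a', ha'⟩ = ⟨a', ha'⟩ * ⟨x, hA₂A hx⟩ :=
        IsCyclic.isMulCommutative.is_comm.comm _ _
      have hc' : x * a' = a' * x := congrArg Subtype.val hc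
      rw [mul_assoc, hc', inv_mul_cancel_left]
    rw [h1, show a'⁻¹ * x * a' = (MulAut.conj a'⁻¹) x from by simp]
    exact Subgroup.smul_mem_pointwise_smul x (MulAut.conj a'⁻¹) _ (hP₀ hx)
  have hB₂P : B₂ ≤ (P : Subgroup G) := by
    rintro _ ⟨x, hx, rfl⟩
    have hx1 := hP₁ hx
    rw [← hg, Sylow.coe_subgroup_smul] at hx1
    obtain ⟨w, hw, rfl⟩ := hx1
    rw [hP, Sylow.coe_subgroup_smul]
    refine ⟨w, hw, ?_⟩
    show a'⁻¹ * w * a'⁻¹⁻¹ = b' * (g * w * g⁻¹) * b'⁻¹
    rw [inv_inv, show g = b'⁻¹ * a'⁻¹ by rw [← mul_inv_rev, ← hab, inv_inv]]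
    group
  haveI hA₂c : IsCyclic A₂ := Subgroup.isCyclic_of_le hA₂A
  haveI hSBc : IsCyclic (SB : Subgroup B) := inferInstance
  haveI hB₂c : IsCyclic B₂ := by
    haveI : IsCyclic ((SB : Subgroup B).map B.subtype) :=
      isCyclic_of_surjective (B.subtype.subgroupMap (SB : Subgroup B))
        (B.subtype.subgroupMap_surjective _)
    exact isCyclic_of_surjective ((MulAut.conj b').toMonoidHom.subgroupMap _)
      ((MulAut.conj b').toMonoidHom.subgroupMap_surjective _)
  -- counting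
  have hdvd : B₂.relIndex (P : Subgroup G) ∣ B.relIndex A₂ := by
    have hoddA : ¬ 2 ∣ A₂.relIndex A := by
      rw [hA₂, Subgroup.relIndex, Subgroup.subgroupOf,
        Subgroup.comap_map_eq_self_of_injective A.subtype_injective]
      exact SA.not_dvd_index
    have hoddB : ¬ 2 ∣ B₂.relIndex B := by
      have hcard : Nat.card B₂ = Nat.card (SB : Subgroup B) := by
        rw [hB₂, Subgroup.card_map_of_injective (MulEquiv.injective _),
          Subgroup.card_map_of_injective B.subtype_injective]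
      have h1 := Subgroup.relIndex_mul_relIndex ⊥ B₂ B bot_le hB₂B
      rw [Subgroup.relIndex_bot_left, Subgroup.relIndex_bot_left, hcard,
        ← Subgroup.card_mul_index (SB : Subgroup B)] at h1
      rw [Nat.eq_of_mul_eq_mul_left Nat.card_pos h1]
      exact SB.not_dvd_index
    have htrans : B.relIndex A = B.index := by
      let f := Subgroup.quotientSubgroupOfEmbeddingOfLE B (le_top : A ≤ ⊤)
      rw [← Subgroup.relIndex_top_right]
      refine Nat.card_eq_of_bijective f ⟨f.injective, fun x => ?_⟩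
      induction x using QuotientGroup.induction_on with
      | H x =>
        obtain ⟨a, ha, b, hb, hxab⟩ := hAB (x : G)
        refine ⟨QuotientGroup.mk ⟨a, ha⟩, ?_⟩
        apply Quotient.sound'
        rw [QuotientGroup.leftRel_apply, Subgroup.mem_subgroupOf]
        show a⁻¹ * (x : G) ∈ B
        rw [hxab, inv_mul_cancel_left]
        exact hb
    obtain ⟨k, hk⟩ : ∃ k, B₂.relIndex (P : Subgroup G) = 2 ^ k := by
      obtain ⟨k, -, hk⟩ := (Nat.dvd_prime_pow Nat.prime_two).1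
        ((Subgroup.relIndex_dvd_card B₂ (P : Subgroup G)).trans
          (IsPGroup.iff_card.1 P.2).choose_spec.dvd)
      exact ⟨k, hk⟩
    have h1 : 2 ^ k ∣ B₂.relIndex B * B.index := by
      rw [Subgroup.relIndex_mul_index hB₂B, ← hk, ← Subgroup.relIndex_mul_index hB₂P]
      exact Dvd.intro _ rfl
    have h2 : B.relIndex A ∣ A₂.relIndex A * B.relIndex A₂ := by
      have h := Subgroup.relIndex_mul_relIndex (B ⊓ A₂) (B ⊓ A) A
        (le_inf inf_le_left (inf_le_right.trans hA₂A)) inf_le_right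
      have h' := Subgroup.relIndex_mul_relIndex (B ⊓ A₂) A₂ A inf_le_right hA₂A
      rw [Subgroup.inf_relIndex_right] at h h'
      rw [mul_comm, h', ← h]
      exact Dvd.intro_left _ rfl
    rw [hk]
    have hco : ∀ {m : ℕ}, ¬ 2 ∣ m → Nat.Coprime (2 ^ k) m := fun hm =>
      Nat.Coprime.pow_left k ((Nat.prime_two.coprime_iff_not_dvd).2 hm)
    refine (hco hoddA).dvd_of_dvd_mul_left (((hco hoddB).dvd_of_dvd_mul_left h1).trans ?_)
    rw [← htrans]
    exact h2
  obtain ⟨a, ha⟩ := (Subgroup.isCyclic_iff_exists_zpowers_eq_top A₂).1 hA₂c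
  obtain ⟨b, hb⟩ := (Subgroup.isCyclic_iff_exists_zpowers_eq_top B₂).1 hB₂c
  refine ⟨P, a, b, hA₂P (ha ▸ Subgroup.mem_zpowers a), hB₂P (hb ▸ Subgroup.mem_zpowers b),
    fun p hp => ?_⟩
  let f := Subgroup.quotientSubgroupOfEmbeddingOfLE B₂ hA₂P
  have hle : B₂.relIndex (P : Subgroup G) ≤ B₂.relIndex A₂ := by
    refine le_trans (Nat.le_of_dvd (Nat.pos_of_ne_zero Subgroup.index_ne_zero_of_finite) hdvd) ?_
    exact Subgroup.relIndex_le_of_le_left hB₂B Subgroup.index_ne_zero_of_finite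
  have hbij : Function.Bijective f :=
    f.injective.bijective_of_nat_card_le hle
  obtain ⟨q, hq⟩ := hbij.2 (QuotientGroup.mk ⟨p, hp⟩)
  obtain ⟨⟨x, hx⟩, rfl⟩ := QuotientGroup.mk_surjective q
  have hq' := QuotientGroup.eq.1 hq
  rw [Subgroup.mem_subgroupOf] at hq'
  obtain ⟨i, hi⟩ := Subgroup.mem_zpowers_iff.1 (ha.ge hx)
  obtain ⟨j, hj⟩ := Subgroup.mem_zpowers_iff.1 (hb.ge hq')
  exact ⟨i, j, by rw [hi, hj]; simp⟩

/-- No group with two such quotients. -/
theorem no_two_factors {A B : Subgroup G} (h : Factor G A B) (N₁ N₂ : Subgroup G) [N₁.Normal]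
    [N₂.Normal] (hinf : N₁ ⊓ N₂ = ⊥) (h₁ : ¬ Group.IsSolvable (G ⧸ N₁))
    (h₂ : ¬ Group.IsSolvable (G ⧸ N₂))
    (hcard : Nat.card (G ⧸ N₁) * Nat.card (G ⧸ N₂) ≤ 2 * Nat.card G) : False := by
  classical
  haveI : Fact (Nat.Prime 2) := ⟨Nat.prime_two⟩
  obtain ⟨P, a, b, ha, hb, hcov⟩ := exists_sylow_product h
  let P₁ := P.mapSurjective (QuotientGroup.mk'_surjective N₁)
  let P₂ := P.mapSurjective (QuotientGroup.mk'_surjective N₂)
  obtain ⟨W₁, hW₁n, hW₁s, hW₁i⟩ := exists_four_index P₁.2 fun hc =>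
    h₁ (by haveI := hc; exact solvable_of_cyclic_two P₁)
  obtain ⟨W₂, hW₂n, hW₂s, hW₂i⟩ := exists_four_index P₂.2 fun hc =>
    h₂ (by haveI := hc; exact solvable_of_cyclic_two P₂)
  haveI := hW₁n
  haveI := hW₂n
  let q₁ : (P : Subgroup G) →* (P₁ : Subgroup (G ⧸ N₁)) :=
    ((QuotientGroup.mk' N₁).comp (P : Subgroup G).subtype).codRestrict _ fun x => by
      rw [Sylow.coe_mapSurjective]
      exact Subgroup.mem_map_of_mem _ x.2
  let q₂ : (P : Subgroup G) →* (P₂ : Subgroup (G ⧸ N₂)) :=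
    ((QuotientGroup.mk' N₂).comp (P : Subgroup G).subtype).codRestrict _ fun x => by
      rw [Sylow.coe_mapSurjective]
      exact Subgroup.mem_map_of_mem _ x.2
  set U := W₁.comap q₁ ⊓ W₂.comap q₂ with hU
  -- at most four cosets
  have hsq : ∀ x : (P : Subgroup G), x * x ∈ U := fun x =>
    ⟨by show q₁ (x * x) ∈ W₁; rw [map_mul]; exact hW₁s _,
      by show q₂ (x * x) ∈ W₂; rw [map_mul]; exact hW₂s _⟩
  have hidx : U.index ≤ 4 := by
    set a' : (P : Subgroup G) := ⟨a, ha⟩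
    set b' : (P : Subgroup G) := ⟨b, hb⟩
    let π := QuotientGroup.mk' U
    have hpi : ∀ x, π x * π x = 1 := fun x => by
      rw [← map_mul]
      exact (QuotientGroup.eq_one_iff _).2 (hsq x)
    have hz : ∀ (x : (P : Subgroup G)) (i : ℤ), π x ^ i = 1 ∨ π x ^ i = π x := by
      intro x i
      rcases Int.even_or_odd' i with ⟨k, rfl | rfl⟩
      · left; rw [zpow_mul, zpow_ofNat, sq, hpi, one_zpow]
      · right; rw [zpow_add, zpow_mul, zpow_ofNat, sq, hpi, one_zpow, one_mul, zpow_one]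
    have hall : ∀ q : (P : Subgroup G) ⧸ U,
        q ∈ ({1, π a', π b', π a' * π b'} : Finset ((P : Subgroup G) ⧸ U)) := by
      intro q
      obtain ⟨⟨x, hx⟩, rfl⟩ := QuotientGroup.mk_surjective q
      obtain ⟨i, j, hij⟩ := hcov x hx
      have h1 : (⟨x, hx⟩ : (P : Subgroup G)) = a' ^ i * b' ^ j := Subtype.ext (by simp [a', b', hij])
      have h2 : ((⟨x, hx⟩ : (P : Subgroup G)) : (P : Subgroup G) ⧸ U) = π a' ^ i * π b' ^ j := by
        rw [h1, ← map_zpow, ← map_zpow, ← map_mul]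
        rfl
      simp only [Finset.mem_insert, Finset.mem_singleton]
      rcases hz a' i with e1 | e1 <;> rcases hz b' j with e2 | e2 <;> rw [h2, e1, e2] <;> simp
    haveI : Fintype ((P : Subgroup G) ⧸ U) := Fintype.ofFinite _
    rw [Subgroup.index_eq_card, Nat.card_eq_fintype_card, ← Finset.card_univ]
    exact (Finset.card_le_card fun q _ => hall q).trans Finset.card_le_four
  -- the embedding
  have hUW : Nat.card U ≤ Nat.card W₁ * Nat.card W₂ := by
    rw [← Nat.card_prod]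
    refine Nat.card_le_card_of_injective
      (fun u : U => ((⟨q₁ u, u.2.1⟩ : W₁), (⟨q₂ u, u.2.2⟩ : W₂))) ?_
    intro u v huv
    simp only [Prod.mk.injEq, Subtype.mk.injEq] at huv
    have e1 : ((u : (P : Subgroup G)) : G)⁻¹ * (v : (P : Subgroup G)) ∈ N₁ :=
      QuotientGroup.eq.1 (congrArg (fun w : W₁ => ((w : (P₁ : Subgroup (G ⧸ N₁))) : G ⧸ N₁)) huv.1 :)
    have e2 : ((u : (P : Subgroup G)) : G)⁻¹ * (v : (P : Subgroup G)) ∈ N₂ :=
      QuotientGroup.eq.1 (congrArg (fun w : W₂ => ((w : (P₂ : Subgroup (G ⧸ N₂))) : G ⧸ N₂)) huv.2 :)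
    have := Subgroup.mem_inf.2 ⟨e1, e2⟩
    rw [hinf, Subgroup.mem_bot, inv_mul_eq_one] at this
    exact Subtype.ext (Subtype.ext this)
  -- the two parts
  have hprod : Nat.card (P₁ : Subgroup (G ⧸ N₁)) * Nat.card (P₂ : Subgroup (G ⧸ N₂)) ≤
      2 * Nat.card (P : Subgroup G) := by
    obtain ⟨i, hi⟩ := IsPGroup.iff_card.1 P₁.2
    obtain ⟨j, hj⟩ := IsPGroup.iff_card.1 P₂.2
    have hdvd : Nat.card G ∣ Nat.card (G ⧸ N₁) * Nat.card (G ⧸ N₂) := by
      rw [← Nat.card_prod]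
      refine Subgroup.card_dvd_of_injective ((QuotientGroup.mk' N₁).prod (QuotientGroup.mk' N₂)) ?_
      rw [← MonoidHom.ker_eq_bot_iff, MonoidHom.ker_prod, QuotientGroup.ker_mk',
        QuotientGroup.ker_mk', hinf]
    have h3 : Nat.card (P₁ : Subgroup (G ⧸ N₁)) * Nat.card (P₂ : Subgroup (G ⧸ N₂)) ∣
        2 * Nat.card G := by
      have h4 : Nat.card (G ⧸ N₁) * Nat.card (G ⧸ N₂) ∣ 2 * Nat.card G := by
        obtain ⟨k, hk⟩ := hdvd
        rw [hk, mul_comm 2]
        refine Nat.mul_dvd_mul_left _ ?_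
        have hk2 : k ≤ 2 := by
          refine Nat.le_of_mul_le_mul_left ?_ (Nat.card_pos (α := G))
          rw [← hk, mul_comm (Nat.card G) 2]
          exact hcard
        rcases (show k = 0 ∨ k = 1 ∨ k = 2 by omega) with rfl | rfl | rfl
        · exfalso
          rw [mul_zero] at hk
          exact (Nat.mul_pos Nat.card_pos Nat.card_pos).ne' hk
        · exact one_dvd _
        · exact dvd_rfl
      exact (mul_dvd_mul (Subgroup.card_subgroup_dvd_card _) (Subgroup.card_subgroup_dvd_card _)).trans h4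
    rw [hi, hj, ← pow_add] at h3 ⊢
    rcases Nat.eq_zero_or_pos (i + j) with h0 | h0
    · rw [h0, pow_zero]
      have := Nat.card_pos (α := (P : Subgroup G))
      omega
    obtain ⟨m, hm⟩ : ∃ m, i + j = m + 1 := ⟨i + j - 1, by omega⟩
    rw [hm, pow_succ'] at h3 ⊢
    exact Nat.mul_le_mul_left 2 (Nat.le_of_dvd Nat.card_pos
      (P.pow_dvd_card_of_pow_dvd_card (Nat.dvd_of_mul_dvd_mul_left two_pos h3)))
  have hW : 16 * (Nat.card W₁ * Nat.card W₂) ≤
      Nat.card (P₁ : Subgroup (G ⧸ N₁)) * Nat.card (P₂ : Subgroup (G ⧸ N₂)) := by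
    rw [← W₁.card_mul_index, ← W₂.card_mul_index]
    calc 16 * (Nat.card W₁ * Nat.card W₂) = (Nat.card W₁ * 4) * (Nat.card W₂ * 4) := by ring
      _ ≤ (Nat.card W₁ * W₁.index) * (Nat.card W₂ * W₂.index) :=
        Nat.mul_le_mul (Nat.mul_le_mul_left _ hW₁i) (Nat.mul_le_mul_left _ hW₂i)
  have h5 := U.card_mul_index
  have h6 : Nat.card U * U.index ≤ Nat.card U * 4 := Nat.mul_le_mul_left _ hidx
  have := Nat.card_pos (α := U)
  omega

end Cfsg.Agent.Lib.CycZFactor60
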