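import Cfsg.Agent.Lib.CycZFactor60.Local

/-!
# The fixed points of the involution of a point stabiliser

Owner: helper60 (row S3252).

`KeyProp`: if `2 ≤ e`, the 2-elements of point stabilisers square to one.  Under the induction
hypothesis, `y ^ 2` fixes every fixed point of the involution `t` of `⟨y⟩`.
-/

set_option autoImplicit false
set_option linter.unusedSectionVars false

universe u v

namespace Cfsg.Agent.Lib.CycZFactor60

open MulAction

variable {G : Type u} [Group G] {Ω : Type v} [MulAction G Ω] {e : ℕ}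

/-- A 2-element fixing `α` lies in the stabiliser part of some `Fac` at `α`. -/
theorem Hyp.exists_fac_mem [Finite G] [Finite Ω] [Fact (Nat.Prime 2)] (H : Hyp G Ω e) (he : 1 ≤ e)
    (α : Ω) {g : G} (hg : g • α = α) {k : ℕ} (hgk : g ^ 2 ^ k = 1) :
    ∃ D : Fac G Ω e, D.α = α ∧ g ∈ Subgroup.zpowers D.y := by
  set S : Subgroup G := stabilizer G α
  have hp : IsPGroup 2 (Subgroup.zpowers (⟨g, hg⟩ : S)) := by
    intro w
    obtain ⟨i, hi⟩ := Subgroup.mem_zpowers_iff.1 w.2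
    refine ⟨k, Subtype.ext (Subtype.ext ?_)⟩
    show ((w : S) : G) ^ 2 ^ k = 1
    rw [← hi, SubgroupClass.coe_zpow, ← zpow_natCast, ← zpow_mul, mul_comm, zpow_mul, zpow_natCast,
      hgk, one_zpow]
  obtain ⟨R, hR⟩ := hp.exists_le_sylow
  have hle : (R : Subgroup S).map S.subtype ≤ S := Subgroup.map_subtype_le _
  obtain ⟨D, hD, -, hDy⟩ := H.exists_fac he α (W := (R : Subgroup S).map S.subtype) (R.2.map _) (by
    intro T hT hTS hle'
    rw [inf_eq_left.2 hle] at hle' ⊢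
    refine le_antisymm (fun g hg => ?_) hle'
    have h1 : T.subgroupOf S = (R : Subgroup S) := R.3 (hT.comap_subtype) fun r hr =>
      Subgroup.mem_subgroupOf.2 (hle' ⟨r, hr, rfl⟩)
    exact ⟨⟨g, hTS hg⟩, h1 ▸ Subgroup.mem_subgroupOf.2 hg, rfl⟩)
  refine ⟨D, hD, ?_⟩
  rw [hDy, inf_eq_left.2 hle]
  exact ⟨⟨g, hg⟩, hR (Subgroup.mem_zpowers _), rfl⟩

/-- If `2 ≤ e`, the generator of the stabiliser part squares to one. -/
def KeyProp (n : ℕ) : Prop :=
  ∀ (G : Type v) [Group G] [Finite G] (Ω : Type v) [Finite Ω] [MulAction G Ω] [FaithfulSMul G Ω]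
    (e : ℕ), Hyp G Ω e → 2 ≤ e → ∀ D : Fac G Ω e, Nat.card Ω = n → D.y * D.y = 1

namespace Fac

variable (D : Fac G Ω e)

/-- The involution of `⟨y⟩` for `orderOf y = 2 ^ f`. -/
def t (f : ℕ) : G := D.y ^ 2 ^ (f - 1)

theorem t_invol {f : ℕ} (hf : 1 ≤ f) (hy : orderOf D.y = 2 ^ f) :
    D.t f * D.t f = 1 ∧ D.t f ≠ 1 := invol_pow hf hy

theorem t_fix (f : ℕ) : D.t f • D.α = D.α := by
  unfold t; rw [← zpow_natCast]; exact D.y_fix _

theorem t_mem (f : ℕ) : D.t f ∈ (D.P : Subgroup G) := pow_mem D.ymem _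

theorem t_comm_y (f : ℕ) (j : ℤ) : D.y ^ j * D.t f = D.t f * D.y ^ j :=
  ((Commute.refl D.y).zpow_left j).pow_right _

/-- An element of `⟨y⟩` killed by half of the order is a power of `y ^ 2`. -/
theorem mem_sq {f : ℕ} (hf : 1 ≤ f) (hy : orderOf D.y = 2 ^ f) {w : G}
    (hw : w ∈ Subgroup.zpowers D.y) (hk : w ^ 2 ^ (f - 1) = 1) :
    w ∈ Subgroup.zpowers (D.y * D.y) := by
  obtain ⟨j, rfl⟩ := Subgroup.mem_zpowers_iff.1 hw
  rw [← zpow_natCast, ← zpow_mul, ← orderOf_dvd_iff_zpow_eq_one, hy] at hk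
  have h2 : ((2 ^ f : ℕ) : ℤ) = 2 * ((2 ^ (f - 1) : ℕ) : ℤ) := by
    push_cast; rw [← pow_succ']; congr 1; omega
  rw [h2] at hk
  obtain ⟨k, hk'⟩ := Int.dvd_of_mul_dvd_mul_right (by positivity) hk
  refine Subgroup.mem_zpowers_iff.2 ⟨k, ?_⟩
  rw [hk', ← sq, ← zpow_natCast, ← zpow_mul]
  rfl

variable [Finite G] [Finite Ω] [Fact (Nat.Prime 2)]

/-- Some power of `x` other than `1`, `a` normalises `⟨y ^ 2⟩` and centralises `t`. -/
theorem exists_normalising (H : Hyp G Ω e) (he : 2 ≤ e) {f : ℕ} (hf : 2 ≤ f)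
    (hy : orderOf D.y = 2 ^ f) :
    ∃ i : ℤ, D.x ^ i ≠ 1 ∧ D.x ^ i ≠ D.a ∧
      D.x ^ i * D.t f = D.t f * D.x ^ i := by
  set S := Subgroup.zpowers D.y
  set SP := S.subgroupOf (D.P : Subgroup G) with hSP
  set N₁ := Subgroup.normalizer (SP : Set (D.P : Subgroup G)) with hN₁
  haveI : Group.IsNilpotent (D.P : Subgroup G) := D.P.2.isNilpotent
  -- the normaliser of `⟨y⟩` in `P` is `{1, a}⟨y⟩`
  have hdesc : ∀ g ∈ N₁, ∀ i j : ℤ, (g : G) = D.x ^ i * D.y ^ j → D.x ^ i = 1 ∨ D.x ^ i = D.a := by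
    intro g hg i j hij
    have hmem : ((g⁻¹ * ⟨D.y, D.ymem⟩ * g : (D.P : Subgroup G)) : G) ∈ S := by
      have h := (Subgroup.mem_normalizer_iff.1 (inv_mem hg) ⟨D.y, D.ymem⟩).1
        (Subgroup.mem_subgroupOf.2 (Subgroup.mem_zpowers D.y))
      simpa using Subgroup.mem_subgroupOf.1 h
    obtain ⟨k, hk⟩ := Subgroup.mem_zpowers_iff.1 hmem
    have hfix : D.y • ((g : G) • D.α) = (g : G) • D.α := by
      rw [← mul_smul, show D.y * (g : G) = (g : G) * D.y ^ k by rw [hk]; simp [mul_assoc], mul_smul, D.y_fix]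
    rw [D.fix_y H (by omega), hij, D.xy_fix] at hfix
    rcases hfix with h | h
    · exact Or.inl (D.free D.α i h)
    · right
      have h1 : D.x ^ (-(2 ^ (e - 1) : ℕ) + i : ℤ) = 1 := D.free D.α _ (by
        rw [zpow_add, mul_smul, h, zpow_neg, zpow_natCast]; exact inv_smul_smul _ _)
      rw [zpow_add, zpow_neg, zpow_natCast, inv_mul_eq_one] at h1
      exact h1.symm
  have hlt : N₁ < ⊤ := lt_top_iff_ne_top.2 fun htop => by
    rcases hdesc ⟨D.x, D.xmem⟩ (htop ▸ Subgroup.mem_top _) 1 0 (by simp) with h | h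
    · have h1 := orderOf_eq_one_iff.2 ((zpow_one D.x).symm.trans h)
      have h3 : 2 ^ 2 ≤ 2 ^ e := Nat.pow_le_pow_right two_pos he
      rw [D.ordx] at h1
      omega
    · rw [zpow_one] at h
      have h1 := orderOf_dvd_of_pow_eq_one (show D.x ^ 2 = 1 by
        rw [sq, h]; exact (D.a_invol (by omega)).1)
      have h3 : 2 ^ 2 ≤ 2 ^ e := Nat.pow_le_pow_right two_pos he
      rw [D.ordx] at h1
      have := Nat.le_of_dvd two_pos h1
      omega
  obtain ⟨⟨g, hgP⟩, hgN, hgS⟩ := SetLike.exists_of_lt (normalizerCondition_of_isNilpotent N₁ hlt)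
  -- its square normalises to the squares of `⟨y⟩`
  obtain ⟨i, j, rfl⟩ := D.decomp hgP
  set g' : (D.P : Subgroup G) := ⟨D.x ^ i * D.y ^ j, hgP⟩
  have hyN : (⟨D.y, D.ymem⟩ : (D.P : Subgroup G)) ∈ N₁ :=
    Subgroup.le_normalizer (Subgroup.mem_subgroupOf.2 (Subgroup.mem_zpowers D.y))
  have hc : g' * ⟨D.y, D.ymem⟩ * g'⁻¹ ∈ N₁ := (Subgroup.mem_normalizer_iff.1 hgN _).1 hyN
  obtain ⟨k, l, hkl⟩ := D.decomp (g' * ⟨D.y, D.ymem⟩ * g'⁻¹).2
  have hxN : (⟨D.x ^ k, D.xpow_mem k⟩ : (D.P : Subgroup G)) ∈ N₁ := by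
    have h := mul_mem hc (inv_mem (zpow_mem hyN l))
    convert h using 1
    refine Subtype.ext ?_
    simp only [Subgroup.coe_mul, Subgroup.coe_inv, SubgroupClass.coe_zpow]
    have hkl' : (g' : G) * D.y * (g' : G)⁻¹ = D.x ^ k * D.y ^ l := hkl
    rw [hkl']
    group
  have hsq : (D.x ^ k * D.y ^ l) * (D.x ^ k * D.y ^ l) ∈ S := by
    have h1 := (Subgroup.mem_normalizer_iff.1 hxN ⟨D.y ^ l, D.ypow_mem l⟩).1
      (Subgroup.mem_subgroupOf.2 (Subgroup.zpow_mem_zpowers D.y l))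
    have h1' : D.x ^ k * D.y ^ l * (D.x ^ k)⁻¹ ∈ S := Subgroup.mem_subgroupOf.1 h1
    have h2 : D.x ^ k * D.x ^ k = 1 := by
      rcases hdesc _ hxN k 0 (by simp) with h | h <;> rw [h]
      · exact mul_one 1
      · exact (D.a_invol (by omega)).1
    have h3 : (D.x ^ k * D.y ^ l) * (D.x ^ k * D.y ^ l) =
        D.x ^ k * D.y ^ l * (D.x ^ k)⁻¹ * D.y ^ l := by
      have : (D.x ^ k)⁻¹ = D.x ^ k := inv_eq_of_mul_eq_one_right h2
      rw [this]; group
    rw [h3]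
    exact mul_mem h1' (Subgroup.zpow_mem_zpowers D.y l)
  have hg : (D.x ^ i * D.y ^ j) * (D.y * D.y) * (D.x ^ i * D.y ^ j)⁻¹ ∈ S := by
    have h4 : (D.x ^ i * D.y ^ j) * (D.y * D.y) * (D.x ^ i * D.y ^ j)⁻¹ =
        ((g' * ⟨D.y, D.ymem⟩ * g'⁻¹ : (D.P : Subgroup G)) : G) *
          ((g' * ⟨D.y, D.ymem⟩ * g'⁻¹ : (D.P : Subgroup G)) : G) := by
      simp [g', mul_assoc]
    rw [h4, hkl]
    exact hsq
  have hxi : D.x ^ i * (D.y * D.y) * (D.x ^ i)⁻¹ ∈ S := by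
    have : (D.x ^ i * D.y ^ j) * (D.y * D.y) * (D.x ^ i * D.y ^ j)⁻¹ =
        D.x ^ i * (D.y * D.y) * (D.x ^ i)⁻¹ := by
      rw [show D.x ^ i * D.y ^ j * (D.y * D.y) * (D.x ^ i * D.y ^ j)⁻¹ =
        D.x ^ i * (D.y ^ j * (D.y * D.y) * (D.y ^ j)⁻¹) * (D.x ^ i)⁻¹ by group,
        (show Commute (D.y ^ j) (D.y * D.y) from
          ((Commute.refl D.y).mul_right (Commute.refl D.y)).zpow_left j).eq, mul_inv_cancel_right]
    rwa [this] at hg
  refine ⟨i, ?_, ?_, ?_⟩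
  · intro h
    refine hgS ?_
    show g' ∈ N₁
    have he' : g' = (⟨D.y, D.ymem⟩ : (D.P : Subgroup G)) ^ j := Subtype.ext (by simp [g', h])
    exact he' ▸ zpow_mem hyN j
  · intro h
    refine hgS ?_
    show g' ∈ N₁
    have haN : (⟨D.x ^ i, D.xpow_mem i⟩ : (D.P : Subgroup G)) ∈ N₁ := by
      refine Subgroup.mem_normalizer_fintype (S := (SP : Set (D.P : Subgroup G))) fun s hs => ?_
      obtain ⟨m, hm⟩ := Subgroup.mem_zpowers_iff.1 (Subgroup.mem_subgroupOf.1 hs)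
      refine Subgroup.mem_subgroupOf.2 (D.mem_y (SetLike.coe_mem _) ?_)
      show (D.x ^ i * (s : G) * (D.x ^ i)⁻¹) • D.α = D.α
      have haa : (D.x ^ i)⁻¹ = D.x ^ i := by rw [h]; exact inv_eq_of_mul_eq_one_right (D.a_invol (by omega)).1
      rw [← hm, haa, mul_smul, mul_smul, h]
      have hfix : D.y ^ m • (D.a • D.α) = D.a • D.α :=
        mem_stabilizer_iff.1 (Subgroup.zpow_mem (stabilizer G (D.a • D.α))
          (mem_stabilizer_iff.2 ((D.fix_y H (by omega)).2 (Or.inr rfl))) m)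
      rw [hfix, ← mul_smul, (D.a_invol (by omega)).1, one_smul]
    have he' : g' = (⟨D.x ^ i, D.xpow_mem i⟩ : (D.P : Subgroup G)) * ⟨D.y, D.ymem⟩ ^ j :=
      Subtype.ext (by simp [g'])
    exact he' ▸ mul_mem haN (zpow_mem hyN j)
  · obtain ⟨ht, ht1⟩ := D.t_invol (by omega : 1 ≤ f) hy
    have hpow : D.t f = (D.y * D.y) ^ 2 ^ (f - 2) := by
      unfold t; rw [← sq, ← pow_mul, ← pow_succ']; congr 2; omega
    have hmem : D.x ^ i * D.t f * (D.x ^ i)⁻¹ ∈ S := by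
      rw [hpow, ← conj_pow]; exact pow_mem hxi _
    rcases sq_one_cases (by omega : 1 ≤ f) hy hmem (by
        rw [show D.x ^ i * D.t f * (D.x ^ i)⁻¹ * (D.x ^ i * D.t f * (D.x ^ i)⁻¹) =
          D.x ^ i * (D.t f * D.t f) * (D.x ^ i)⁻¹ by group, ht]; group) with h | h
    · exact absurd (conj_eq_one_iff.1 h) ht1
    · exact mul_inv_eq_iff_eq_mul.1 h

/-- Under the induction hypothesis, the structure of `C_P(t)`. -/
theorem fixset [FaithfulSMul G Ω] (H : Hyp G Ω e) (he : 2 ≤ e) {f : ℕ} (hf : 2 ≤ f)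
    (hy : orderOf D.y = 2 ^ f) (IH : ∀ m < Nat.card Ω, KeyProp.{v} m)
    (hC : ∀ W : Subgroup G, IsPGroup 2 W → W ≤ Subgroup.centralizer ({D.t f} : Set G) →
      (D.P : Subgroup G) ⊓ Subgroup.centralizer ({D.t f} : Set G) ≤ W →
        W = (D.P : Subgroup G) ⊓ Subgroup.centralizer ({D.t f} : Set G)) :
    ∃ (x₁ : G) (e' : ℕ), 2 ≤ e' ∧ orderOf x₁ = 2 ^ e' ∧ x₁ ∈ Subgroup.zpowers D.x ∧
      (∀ i : ℤ, D.x ^ i * D.t f = D.t f * D.x ^ i → D.x ^ i ∈ Subgroup.zpowers x₁) ∧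
      (x₁ * D.t f = D.t f * x₁) ∧
      ∀ i : ℤ, x₁ ^ i * (D.y * D.y) * (x₁ ^ i)⁻¹ ∈ Subgroup.zpowers (D.y * D.y) := by
  classical
  set C := Subgroup.centralizer ({D.t f} : Set G) with hCdef
  have hmemC : ∀ {g : G}, g ∈ C ↔ g * D.t f = D.t f * g := fun {g} =>
    Subgroup.mem_centralizer_singleton_iff
  obtain ⟨ht, ht1⟩ := D.t_invol (by omega : 1 ≤ f) hy
  -- the generator of `⟨x⟩ ∩ C`
  obtain ⟨x₁, hx₁⟩ : ∃ x₁, Subgroup.zpowers x₁ = Subgroup.zpowers D.x ⊓ C := by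
    haveI : IsCyclic (Subgroup.zpowers D.x ⊓ C : Subgroup G) :=
      isCyclic_of_injective (Subgroup.inclusion (inf_le_left : _ ≤ Subgroup.zpowers D.x))
        (Subgroup.inclusion_injective _)
    exact (Subgroup.isCyclic_iff_exists_zpowers_eq_top _).1 ‹_›
  have hx₁m : x₁ ∈ Subgroup.zpowers D.x ⊓ C := hx₁ ▸ Subgroup.mem_zpowers x₁
  have hxiff : ∀ i : ℤ, D.x ^ i * D.t f = D.t f * D.x ^ i → D.x ^ i ∈ Subgroup.zpowers x₁ :=
    fun i hi => hx₁ ▸ ⟨Subgroup.zpow_mem_zpowers _ _, hmemC.2 hi⟩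
  obtain ⟨e', he'e, hord⟩ : ∃ e', e' ≤ e ∧ orderOf x₁ = 2 ^ e' := by
    obtain ⟨i, hi⟩ := Subgroup.mem_zpowers_iff.1 hx₁m.1
    refine (Nat.dvd_prime_pow Nat.prime_two).1 (orderOf_dvd_of_pow_eq_one ?_)
    rw [← hi, ← zpow_natCast, ← zpow_mul, mul_comm, zpow_mul, zpow_natCast, D.xpow_two_pow, one_zpow]
  have he' : 2 ≤ e' := by
    obtain ⟨i, hi1, hia, hic⟩ := D.exists_normalising H he hf hy
    by_contra hlt
    have hx2 : x₁ ^ 2 = 1 := by
      rw [← orderOf_dvd_iff_pow_eq_one, hord]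
      calc 2 ^ e' ∣ 2 ^ 1 := pow_dvd_pow 2 (by omega)
        _ = 2 := rfl
    obtain ⟨k, hk⟩ := Subgroup.mem_zpowers_iff.1 (hxiff i hic)
    have h2 : D.x ^ i * D.x ^ i = 1 := by
      rw [← hk, ← zpow_add, ← two_mul, zpow_mul, zpow_ofNat, hx2, one_zpow]
    rcases sq_one_cases (by omega : 1 ≤ e) D.ordx (Subgroup.zpow_mem_zpowers _ _) h2 with h | h
    · exact hi1 h
    · exact hia h
  -- the action of `C` on the fixed points of `t`
  let T : Set Ω := {ω | D.t f • ω = ω}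
  have hαT : D.α ∈ T := D.t_fix f
  have hTstable : ∀ (c : C) (ω : Ω), ω ∈ T → (c : G) • ω ∈ T := fun c ω hω => by
    show D.t f • (c : G) • ω = (c : G) • ω
    rw [← mul_smul, ← hmemC.1 c.2, mul_smul]
    exact congrArg ((c : G) • ·) hω
  letI : MulAction C T :=
    { smul := fun c ω => ⟨(c : G) • (ω : Ω), hTstable c ω ω.2⟩
      one_smul := fun ω => Subtype.ext (one_smul G (ω : Ω))
      mul_smul := fun c d ω => Subtype.ext (mul_smul (c : G) (d : G) (ω : Ω)) }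
  set ρ := toPermHom C T with hρ
  have hρapply : ∀ (c : C) (ω : T), ((ρ c) ω : Ω) = (c : G) • (ω : Ω) := fun _ _ => rfl
  have htr : ∀ a b c d : T, a ≠ b → c ≠ d → ∃ g : C, g • a = c ∧ g • b = d := by
    intro a b c d hab hcd
    have hS : IsPGroup 2 (Subgroup.zpowers (D.t f)) := D.P.2.to_le (Subgroup.zpowers_le.2 (D.t_mem f))
    have hfix : ∀ ω : T, ∀ s ∈ Subgroup.zpowers (D.t f), s • (ω : Ω) = ω := fun ω s hs => by
      obtain ⟨k, rfl⟩ := Subgroup.mem_zpowers_iff.1 hs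
      exact mem_stabilizer_iff.1 (Subgroup.zpow_mem (stabilizer G (ω : Ω))
        (mem_stabilizer_iff.2 ω.2) k)
    obtain ⟨g, hg, hga, hgb⟩ := H.witt hS (fun h => hab (Subtype.ext h)) (fun h => hcd (Subtype.ext h))
      (hfix a) (hfix b) (hfix c) (hfix d)
    obtain ⟨k, hk⟩ := Subgroup.mem_zpowers_iff.1
      ((Subgroup.mem_normalizer_iff.1 hg (D.t f)).1 (Subgroup.mem_zpowers _))
    have hgC : g ∈ C := by
      refine hmemC.2 (mul_inv_eq_iff_eq_mul.1 ?_)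
      have hs : g * D.t f * g⁻¹ ∈ Subgroup.zpowers D.y := by
        rw [← hk]
        exact zpow_mem (Subgroup.npow_mem_zpowers D.y _) k
      rcases sq_one_cases (by omega : 1 ≤ f) hy hs (by
          rw [show g * D.t f * g⁻¹ * (g * D.t f * g⁻¹) = g * (D.t f * D.t f) * g⁻¹ by group, ht,
            mul_one, mul_inv_cancel]) with h | h
      · exact absurd (conj_eq_one_iff.1 h) ht1
      · exact h
    exact ⟨⟨g, hgC⟩, Subtype.ext hga, Subtype.ext hgb⟩
  haveI : Nonempty T := ⟨⟨D.α, hαT⟩⟩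
  have haT : D.a • D.α ∈ T := by
    show D.t f • D.a • D.α = D.a • D.α
    unfold t
    exact mem_stabilizer_iff.1 (pow_mem (mem_stabilizer_iff.2
      ((D.fix_y H (by omega)).2 (Or.inr rfl)) : D.y ∈ stabilizer G (D.a • D.α)) _)
  have hne2 : ∀ ω : T, ∃ ω', ω' ≠ ω := fun ω => by
    by_cases h : (ω : Ω) = D.α
    · exact ⟨⟨_, haT⟩, fun hh => D.a_free (by omega) D.α ((congrArg Subtype.val hh).trans h)⟩
    · exact ⟨⟨D.α, hαT⟩, fun hh => h (congrArg Subtype.val hh).symm⟩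
  haveI hpre : IsPretransitive C T := ⟨fun a b => by
    obtain ⟨a', ha'⟩ := hne2 a
    obtain ⟨b', hb'⟩ := hne2 b
    exact (htr a a' b b' ha'.symm hb'.symm).imp fun g hg => hg.1⟩
  -- the 2-part of the number of fixed points
  have hx₁T : x₁ ∈ C := hx₁m.2
  obtain ⟨k, o₃, ho₃, hT⟩ := Nat.exists_eq_two_pow_mul_odd (n := Nat.card T) Nat.card_pos.ne'
  set PC := (D.P : Subgroup G) ⊓ C with hPC
  have hyC : ∀ j : ℤ, D.y ^ j ∈ C := fun j => hmemC.2 (D.t_comm_y f j)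
  have hmem₁ : ∀ {g : G}, g ∈ Subgroup.zpowers x₁ → g ∈ Subgroup.zpowers D.x ⊓ C :=
    fun {g} hg => hx₁ ▸ hg
  have hcardPC : Nat.card PC = 2 ^ e' * Nat.card (Subgroup.zpowers D.y) := by
    rw [← hord, ← Nat.card_zpowers, ← Nat.card_prod]
    symm
    refine Nat.card_eq_of_bijective
      (fun p : Subgroup.zpowers x₁ × Subgroup.zpowers D.y => (⟨p.1 * p.2,
        ⟨mul_mem (Subgroup.zpowers_le.2 D.xmem (hmem₁ p.1.2).1)
          (Subgroup.zpowers_le.2 D.ymem p.2.2),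
        mul_mem (hmem₁ p.1.2).2 (Subgroup.zpowers_le.2 (by simpa using hyC 1) p.2.2)⟩⟩ : PC))
      ⟨?_, ?_⟩
    · rintro ⟨⟨u, hu⟩, ⟨w, hw⟩⟩ ⟨⟨u', hu'⟩, ⟨w', hw'⟩⟩ h
      obtain ⟨i, rfl⟩ := Subgroup.mem_zpowers_iff.1 (hmem₁ hu).1
      obtain ⟨i', rfl⟩ := Subgroup.mem_zpowers_iff.1 (hmem₁ hu').1
      obtain ⟨j, rfl⟩ := Subgroup.mem_zpowers_iff.1 hw
      obtain ⟨j', rfl⟩ := Subgroup.mem_zpowers_iff.1 hw'
      obtain ⟨h1, h2⟩ := D.unique (congrArg Subtype.val h)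
      exact Prod.ext (Subtype.ext h1) (Subtype.ext h2)
    · rintro ⟨g, hgP, hgC⟩
      obtain ⟨i, j, rfl⟩ := D.decomp hgP
      have hxiC : D.x ^ i ∈ C := by
        have := mul_mem (show D.x ^ i * D.y ^ j ∈ C from hgC) (inv_mem (hyC j))
        rwa [mul_inv_cancel_right] at this
      exact ⟨(⟨_, hxiff i (hmemC.1 hxiC)⟩, ⟨_, Subgroup.zpow_mem_zpowers _ j⟩), rfl⟩
  have hk : k = e' := by
    obtain ⟨R, hR⟩ := ((D.P.2.to_le inf_le_left : IsPGroup 2 PC).comap_subtype (K := C)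
      : IsPGroup 2 (PC.subgroupOf C)).exists_le_sylow
    have hRPC : (R : Subgroup C).map C.subtype = PC := hC _ (R.2.map _) (Subgroup.map_subtype_le _)
      fun z hz => ⟨⟨z, hz.2⟩, hR (Subgroup.mem_subgroupOf.2 hz), rfl⟩
    set Sα := stabilizer C (⟨D.α, hαT⟩ : T) with hSα
    have h1 := (R : Subgroup C).card_mul_index
    have h2 := Sα.card_mul_index
    rw [index_stabilizer_of_transitive, hT] at h2
    rw [← Subgroup.card_map_of_injective C.subtype_injective, hRPC, hcardPC] at h1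
    -- `⟨y⟩` is a Sylow 2-subgroup of the stabiliser in `C`
    obtain ⟨Q, hQ⟩ := ((D.P.2.to_le (Subgroup.zpowers_le.2 D.ymem) :
      IsPGroup 2 (Subgroup.zpowers D.y)).comap_subtype (K := C) |>.comap_subtype (K := Sα)
        : IsPGroup 2 (((Subgroup.zpowers D.y).subgroupOf C).subgroupOf Sα)).exists_le_sylow
    have hQy : ((Q : Subgroup Sα).map Sα.subtype).map C.subtype = Subgroup.zpowers D.y := by
      refine D.stab_max H (by omega) ((Q.2.map _).map _) ?_ ?_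
      · rintro _ ⟨c, ⟨s, -, rfl⟩, rfl⟩
        exact congrArg Subtype.val (mem_stabilizer_iff.1 s.2)
      · intro z hz
        obtain ⟨j, rfl⟩ := Subgroup.mem_zpowers_iff.1 hz
        exact ⟨⟨_, hyC j⟩, ⟨⟨⟨_, hyC j⟩, mem_stabilizer_iff.2 (Subtype.ext (D.y_fix j))⟩,
          hQ (Subgroup.mem_subgroupOf.2 (Subgroup.mem_subgroupOf.2 (Subgroup.zpow_mem_zpowers _ j))), rfl⟩, rfl⟩
    have h3 := (Q : Subgroup Sα).card_mul_index
    rw [← Subgroup.card_map_of_injective Sα.subtype_injective,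
      ← Subgroup.card_map_of_injective C.subtype_injective, hQy] at h3
    rw [← h3] at h2
    have hQodd : Odd (Q : Subgroup Sα).index := by
      rw [← Nat.not_even_iff_odd, even_iff_two_dvd]; exact Q.not_dvd_index
    have hRodd : Odd (R : Subgroup C).index := by
      rw [← Nat.not_even_iff_odd, even_iff_two_dvd]; exact R.not_dvd_index
    refine two_pow_mul_odd_inj (hQodd.mul ho₃) hRodd ?_
    refine Nat.eq_of_mul_eq_mul_left (Nat.card_pos : 0 < Nat.card (Subgroup.zpowers D.y)) ?_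
    calc Nat.card (Subgroup.zpowers D.y) * (2 ^ k * ((Q : Subgroup Sα).index * o₃)) = Nat.card C := by
          rw [← h2]; ring
      _ = _ := by rw [← h1]; ring
  subst hk
  -- the induced group satisfies the hypothesis
  have hH : Hyp ρ.range T k := by
    refine ⟨?_, ?_, ?_, ⟨o₃, ho₃, hT⟩⟩
    · intro a b c d hab hcd
      obtain ⟨g, h1, h2⟩ := htr a b c d hab hcd
      exact ⟨⟨ρ g, g, rfl⟩, h1, h2⟩
    · intro a U hU hUa
      set pre := U.comap ρ.rangeRestrict with hpre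
      obtain ⟨R⟩ : Nonempty (Sylow 2 pre) := inferInstance
      let ψ : pre →* U := ρ.rangeRestrict.subgroupComap U
      have hψ : Function.Surjective ψ :=
        MonoidHom.subgroupComap_surjective_of_surjective _ _ ρ.rangeRestrict_surjective
      haveI : Finite U := inferInstance
      set Rm := R.mapSurjective (f := ψ) hψ
      have htop : (Rm : Subgroup U) = ⊤ := (Rm.3 (hU.to_subgroup ⊤) le_top).symm
      set RG := (((R : Subgroup pre).map pre.subtype).map C.subtype)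
      have hRGp : IsPGroup 2 RG := (R.2.map _).map _
      haveI hcyc : IsCyclic RG := H.cyclic (a : Ω) RG hRGp (by
        rintro _ ⟨c, ⟨r, -, rfl⟩, rfl⟩
        have h := hUa (r.2 : ρ.rangeRestrict (r : C) ∈ U)
        exact congrArg Subtype.val (mem_stabilizer_iff.1 h))
      haveI : IsCyclic (R : Subgroup pre) := isCyclic_of_injective
        ((Subgroup.equivMapOfInjective _ C.subtype C.subtype_injective).toMonoidHom.comp
          (Subgroup.equivMapOfInjective (R : Subgroup pre) pre.subtype pre.subtype_injective).toMonoidHom)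
        ((MulEquiv.injective _).comp (MulEquiv.injective _))
      have hs : Function.Surjective (ψ.comp (R : Subgroup pre).subtype) := fun w => by
        have hw : w ∈ (Rm : Subgroup U) := htop ▸ Subgroup.mem_top w
        rw [Sylow.coe_mapSurjective] at hw
        obtain ⟨r, hr, hrw⟩ := hw
        exact ⟨⟨r, hr⟩, hrw⟩
      exact isCyclic_of_surjective _ hs
    · refine ⟨⟨ρ ⟨x₁, hx₁T⟩, ⟨_, rfl⟩⟩, ?_, ?_⟩
      · rw [← hord]
        refine orderOf_eq_orderOf_iff.2 fun m => ?_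
        constructor
        · intro h
          have h1 := congrArg (fun g : ρ.range => ((g : Equiv.Perm T) ⟨D.α, hαT⟩ : Ω)) h
          change ((ρ ⟨x₁, hx₁T⟩ ^ m) ⟨D.α, hαT⟩ : Ω) = D.α at h1
          rw [← map_pow, hρapply, SubmonoidClass.mk_pow] at h1
          obtain ⟨i, hi⟩ := Subgroup.mem_zpowers_iff.1 hx₁m.1
          have h2 : D.x ^ (i * m) = 1 := D.free D.α _ (by rw [zpow_mul, hi, zpow_natCast]; exact h1)
          rwa [zpow_mul, hi, zpow_natCast] at h2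
        · intro h
          refine Subtype.ext ?_
          show (ρ ⟨x₁, hx₁T⟩) ^ m = 1
          rw [← map_pow, show (⟨x₁, hx₁T⟩ : C) ^ m = 1 from Subtype.ext h, map_one]
      · intro w m hw
        have h1 : x₁ ^ m • (w : Ω) = w := by
          have h := congrArg Subtype.val hw
          change (((ρ ⟨x₁, hx₁T⟩) ^ m : Equiv.Perm T) w : Ω) = w at h
          rwa [← map_zpow, hρapply] at h
        obtain ⟨i, hi⟩ := Subgroup.mem_zpowers_iff.1 hx₁m.1
        have h2 : D.x ^ (i * m) = 1 := D.free _ _ (by rw [zpow_mul, hi]; exact h1)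
        refine Subtype.ext ?_
        show (ρ ⟨x₁, hx₁T⟩) ^ m = 1
        rw [← map_zpow, show (⟨x₁, hx₁T⟩ : C) ^ m = 1 from Subtype.ext (by rw [zpow_mul, hi] at h2; exact h2), map_one]
  -- the induction
  have hlt : Nat.card T < Nat.card Ω := by
    rw [Nat.card_coe_set_eq]
    calc T.ncard < (Set.univ : Set Ω).ncard := Set.ncard_lt_ncard ((Set.ssubset_univ_iff).2 fun h => ht1
          (FaithfulSMul.eq_of_smul_eq_smul fun ω : Ω => by
            rw [one_smul]; exact (h ▸ Set.mem_univ ω : ω ∈ T))) Set.finite_univ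
      _ = Nat.card Ω := Set.ncard_univ Ω
  have hy1C : D.y ∈ C := by simpa using hyC 1
  set ybar : ρ.range := ⟨ρ ⟨D.y, hy1C⟩, ⟨_, rfl⟩⟩
  have hybar : ybar • (⟨D.α, hαT⟩ : T) = ⟨D.α, hαT⟩ := Subtype.ext (by show D.y • D.α = D.α; simpa using D.y_fix 1)
  have hybarpow : ybar ^ 2 ^ f = 1 := by
    refine Subtype.ext ?_
    show (ρ ⟨D.y, hy1C⟩) ^ 2 ^ f = 1
    rw [← map_pow, show (⟨D.y, hy1C⟩ : C) ^ 2 ^ f = 1 from Subtype.ext (hy ▸ pow_orderOf_eq_one D.y),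
      map_one]
  obtain ⟨D₁, -, hD₁⟩ := hH.exists_fac_mem (by omega) ⟨D.α, hαT⟩ hybar hybarpow
  have hsq := IH _ hlt ρ.range T k hH he' D₁ rfl
  obtain ⟨m, hm⟩ := Subgroup.mem_zpowers_iff.1 hD₁
  have hy2 : ∀ ω ∈ T, (D.y * D.y) • ω = ω := by
    intro ω hω
    have h1 : ybar * ybar = 1 := by
      rw [← hm, ← (Commute.refl D₁.y).mul_zpow, hsq, one_zpow]
    exact congrArg (fun g : ρ.range => (((g : Equiv.Perm T) ⟨ω, hω⟩ : T) : Ω)) h1 |>.trans rfl |> fun h => by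
      rw [mul_smul]; exact h
  refine ⟨x₁, k, he', hord, hx₁m.1, hxiff, hmemC.1 hx₁T, fun i => ?_⟩
  obtain ⟨l, hl⟩ := Subgroup.mem_zpowers_iff.1 (Subgroup.zpow_mem _ hx₁m.1 (-i) : x₁ ^ (-i) ∈ Subgroup.zpowers D.x)
  have hT' : x₁ ^ (-i) • D.α ∈ T := hTstable ⟨_, zpow_mem hx₁T _⟩ D.α hαT
  have hfix : (x₁ ^ i * (D.y * D.y) * (x₁ ^ i)⁻¹) • D.α = D.α := by
    rw [← zpow_neg, mul_smul, mul_smul, hy2 _ hT', ← mul_smul, ← zpow_add, add_neg_cancel, zpow_zero,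
      one_smul]
  have hxP : x₁ ^ i ∈ (D.P : Subgroup G) := zpow_mem (Subgroup.zpowers_le.2 D.xmem hx₁m.1) i
  refine D.mem_sq (by omega) hy (D.mem_y (mul_mem (mul_mem hxP (mul_mem D.ymem D.ymem)) (inv_mem hxP)) hfix) ?_
  rw [conj_pow, ← sq, ← pow_mul, ← pow_succ', Nat.sub_add_cancel (by omega), ← hy, pow_orderOf_eq_one,
    mul_one, mul_inv_cancel]

end Fac

end Cfsg.Agent.Lib.CycZFactor60
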