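import Mathlib

/-!
# Commutators modulo a normalised subgroup, and classes of involutions in a coset of an abelian group

Owner: helper60 (row S3252).
-/

set_option autoImplicit false
set_option linter.unusedSectionVars false

namespace Cfsg.Agent.Lib.CycZFactor60

variable {G : Type*} [Group G]

/-- Modulo a subgroup normalised by `g` and `h`: if `g` fixes `h`, it fixes its powers. -/
theorem comm_pow {A : Subgroup G} {g h : G} (hh : h ∈ Subgroup.normalizer (A : Set G))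
    (hgh : g * h * g⁻¹ * h⁻¹ ∈ A) (i : ℤ) : g * h ^ i * g⁻¹ * (h ^ i)⁻¹ ∈ A := by
  have hinv : (g * h⁻¹ * g⁻¹ * h) ∈ A := by
    have h1 := (Subgroup.mem_normalizer_iff.1 (inv_mem hh) _).1 (inv_mem hgh)
    convert h1 using 1
    group
  induction i using Int.induction_on with
  | zero => simp
  | succ k ih =>
    have h1 := mul_mem ih ((Subgroup.mem_normalizer_iff.1 (zpow_mem hh (k : ℤ)) _).1 hgh)
    convert h1 using 1
    rw [zpow_add, zpow_one]
    group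
  | pred k ih =>
    have h1 := mul_mem ih ((Subgroup.mem_normalizer_iff.1 (zpow_mem hh (-(k : ℤ))) _).1 hinv)
    convert h1 using 1
    rw [zpow_sub, zpow_one]
    group

/-- Five involutions in a coset `q₀ A` of an abelian group with at most four square roots of one:
two of them are conjugate under `A`. -/
theorem exists_conj_pair [Finite G] {A : Subgroup G} (hA : ∀ a ∈ A, ∀ b ∈ A, a * b = b * a)
    (h4 : Nat.card {a : G // a ∈ A ∧ a * a = 1} ≤ 4) {q₀ : G} (hq₀ : q₀ * q₀ = 1) (w : Fin 5 → G)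
    (hw : ∀ i, q₀ * w i ∈ A) (hw2 : ∀ i, w i * w i = 1) :
    ∃ i j, i ≠ j ∧ ∃ χ ∈ A, χ⁻¹ * w i * χ = w j ∧ w i * w j = χ * χ := by
  classical
  let J : Subgroup G :=
    { carrier := {φ | φ ∈ A ∧ q₀ * φ * q₀ = φ⁻¹}
      one_mem' := ⟨one_mem A, by rw [mul_one, hq₀, inv_one]⟩
      mul_mem' := by
        rintro φ ψ ⟨hφ, hφ'⟩ ⟨hψ, hψ'⟩
        refine ⟨mul_mem hφ hψ, ?_⟩
        calc q₀ * (φ * ψ) * q₀ = q₀ * φ * (q₀ * q₀) * ψ * q₀ := by rw [hq₀]; group
          _ = (q₀ * φ * q₀) * (q₀ * ψ * q₀) := by group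
          _ = (φ * ψ)⁻¹ := by rw [hφ', hψ', mul_inv_rev, hA _ (inv_mem hφ) _ (inv_mem hψ)]
      inv_mem' := by
        rintro φ ⟨hφ, hφ'⟩
        refine ⟨inv_mem hφ, ?_⟩
        rw [inv_inv]
        calc q₀ * φ⁻¹ * q₀ = q₀⁻¹ * φ⁻¹ * q₀⁻¹ := by rw [inv_eq_of_mul_eq_one_right hq₀]
          _ = (q₀ * φ * q₀)⁻¹ := by group
          _ = φ := by rw [hφ', inv_inv] }
  letI : CommGroup J :=
    { (inferInstance : Group J) with mul_comm := fun a b => Subtype.ext (hA _ a.2.1 _ b.2.1) }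
  let sq : J →* J := powMonoidHom 2
  have hker : Nat.card sq.ker ≤ 4 := by
    refine le_trans (Nat.card_le_card_of_injective
      (fun a : sq.ker => (⟨((a : J) : G), (a : J).2.1, by
        have := congrArg Subtype.val (MonoidHom.mem_ker.1 a.2)
        simpa [sq, pow_two] using this⟩ : {a : G // a ∈ A ∧ a * a = 1})) ?_) h4
    intro a b h
    simp only [Subtype.mk.injEq] at h
    exact Subtype.ext (Subtype.ext h)
  have hQ : Nat.card (J ⧸ sq.range) ≤ 4 := by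
    refine le_of_eq_of_le ?_ hker
    have h1 := sq.range.card_mul_index
    have h2 := sq.ker.card_mul_index
    rw [Subgroup.index_ker] at h2
    rw [← h2, mul_comm (Nat.card sq.ker)] at h1
    exact Nat.eq_of_mul_eq_mul_left Nat.card_pos h1
  have hJ : ∀ i, q₀ * w i ∈ J := fun i => ⟨hw i, by
    rw [mul_inv_rev, inv_eq_of_mul_eq_one_right hq₀, inv_eq_of_mul_eq_one_right (hw2 i),
      ← mul_assoc q₀, hq₀, one_mul]⟩
  haveI : Fintype (J ⧸ sq.range) := Fintype.ofFinite _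
  obtain ⟨i, j, hij, heq⟩ := Fintype.exists_ne_map_eq_of_card_lt
    (fun i => ((⟨_, hJ i⟩ : J) : J ⧸ sq.range)) (by
      rw [Fintype.card_fin, ← Nat.card_eq_fintype_card]; omega)
  obtain ⟨χ, hχ⟩ := QuotientGroup.eq.1 heq
  have hχ' : ((χ : G) * χ) = (q₀ * w i)⁻¹ * (q₀ * w j) := by
    have := congrArg Subtype.val hχ
    simpa [sq, pow_two] using this
  have hwj : w j = w i * ((χ : G) * χ) := by
    rw [hχ']; group
  refine ⟨i, j, hij, χ, χ.2.1, ?_, by rw [hwj, ← mul_assoc, hw2, one_mul]⟩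
  -- `w i` inverts `χ`
  have h1 : q₀ * χ * q₀ = (χ : G)⁻¹ := χ.2.2
  have h2 : χ * (q₀ * w i) = (q₀ * w i) * χ := hA _ χ.2.1 _ (hw i)
  have h3 : w i * χ * (w i)⁻¹ = q₀ * χ * q₀⁻¹ := by
    calc w i * χ * (w i)⁻¹ = q₀⁻¹ * ((q₀ * w i) * χ) * (w i)⁻¹ := by group
      _ = q₀⁻¹ * χ * q₀ := by rw [← h2]; group
      _ = q₀ * χ * q₀⁻¹ := by rw [inv_eq_of_mul_eq_one_right hq₀]
  rw [inv_eq_of_mul_eq_one_right hq₀, h1, inv_eq_of_mul_eq_one_right (hw2 i)] at h3
  calc (χ : G)⁻¹ * w i * χ = (χ : G)⁻¹ * (w i * χ * w i) * w i := by rw [mul_assoc, mul_assoc, mul_assoc, hw2, mul_one, ← mul_assoc]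
    _ = (χ : G)⁻¹ * (χ : G)⁻¹ * w i := by rw [h3]
    _ = (w i * ((χ : G) * χ) * (w i)⁻¹)⁻¹⁻¹ * w i := by
      rw [inv_inv, show w i * ((χ : G) * χ) * (w i)⁻¹ = (w i * χ * (w i)⁻¹) * (w i * χ * (w i)⁻¹) by
        group, inv_eq_of_mul_eq_one_right (hw2 i), h3]
    _ = w j := by rw [inv_inv, inv_mul_cancel_right, ← hwj]

end Cfsg.Agent.Lib.CycZFactor60
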