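import Cfsg.Agent.Lib.CycZFactor60.Abelian
import Cfsg.Agent.Lib.CycZFactor60.Pigeon

/-!
# The case in which `x` centralises `t`

Owner: helper60 (row S3252).
-/

set_option autoImplicit false
set_option linter.unusedSectionVars false

universe u v

namespace Cfsg.Agent.Lib.CycZFactor60

open MulAction

variable {G : Type u} [Group G] [Finite G] {Ω : Type v} [Fintype Ω] [DecidableEq Ω] [MulAction G Ω]
  [FaithfulSMul G Ω] [Fact (Nat.Prime 2)] {e : ℕ} {D : Fac G Ω e} {f e' : ℕ} {x₁ : G}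

namespace Mid

variable (M : Mid D f e' x₁)
include M

/-- `x₁` generates `⟨x⟩`. -/
theorem exists_x_eq (hxt : D.x * D.t f = D.t f * D.x) : ∃ l : ℕ, x₁ ^ l = D.x := by
  have h := M.cover 1 (by rw [zpow_one]; exact hxt)
  rw [zpow_one, ← mem_powers_iff_mem_zpowers] at h
  exact (Submonoid.mem_powers_iff _ _).1 h

theorem hc_fixed (H : Hyp G Ω e) (hxt : D.x * D.t f = D.t f * D.x) :
    Commute (D.x * D.x) (D.y * D.y) := by
  obtain ⟨l, hl⟩ := M.exists_x_eq hxt
  rw [← hl, ← (Commute.refl x₁).mul_pow]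
  exact (M.comm_sq H).pow_left l

theorem x_norm (hxt : D.x * D.t f = D.t f * D.x) (i : ℤ) {z : G}
    (hz : z ∈ Subgroup.zpowers (D.y * D.y)) :
    D.x ^ i * z * (D.x ^ i)⁻¹ ∈ Subgroup.zpowers (D.y * D.y) := by
  obtain ⟨l, hl⟩ := M.exists_x_eq hxt
  rw [← hl, ← zpow_natCast, ← zpow_mul]
  exact M.conj_sq _ hz

/-- `y x y⁻¹ ∈ x ^ u ⟨y ^ 2⟩`, `u ≡ 3 (mod 4)`. -/
theorem conj_yx (H : Hyp G Ω e) (hxt : D.x * D.t f = D.t f * D.x) :
    ∃ m : ℤ, ∃ z ∈ Subgroup.zpowers (D.y * D.y), D.y * D.x * D.y⁻¹ = D.x ^ (4 * m + 3) * z := by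
  obtain ⟨l, hl⟩ := M.exists_x_eq hxt
  obtain ⟨m, z, hz, h⟩ := M.conj_y H
  obtain ⟨z', hz', h'⟩ := M.pow_coset (4 * m + 3) hz l
  refine ⟨m, z', hz', ?_⟩
  conv_lhs => rw [← hl]
  rw [← conj_pow, h, h', mul_comm, zpow_mul, zpow_natCast, hl]

theorem t_central (hxt : D.x * D.t f = D.t f * D.x) :
    ∀ p ∈ (D.P : Subgroup G), p * D.t f = D.t f * p := by
  intro p hp
  obtain ⟨i, j, rfl⟩ := D.decomp hp
  exact ((show Commute D.x (D.t f) from hxt).zpow_left i).mul_left (D.t_comm_y f j)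

theorem A_norm (H : Hyp G Ω e) (hxt : D.x * D.t f = D.t f * D.x) {g : G}
    (hg : g ∈ (D.P : Subgroup G)) :
    g ∈ Subgroup.normalizer (D.A (M.hc_fixed H hxt) : Set G) := by
  set hc := M.hc_fixed H hxt
  refine Subgroup.mem_normalizer_fintype (S := (D.A hc : Set G)) fun w hw => ?_
  refine D.A_normal hc ?_ ?_ hg hw
  · have := M.x_norm hxt 1 (Subgroup.mem_zpowers (D.y * D.y))
    rw [zpow_one] at this
    exact D.sq_mem_A hc this
  · obtain ⟨l, hl⟩ := M.exists_x_eq hxt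
    obtain ⟨m, z, hz, h⟩ := M.conj_y H
    obtain ⟨z', hz', h'⟩ := M.pow_coset (4 * m + 3) hz (2 * l)
    have h1 : D.y * (D.x * D.x) * D.y⁻¹ = x₁ ^ ((4 * m + 3) * ((2 * l : ℕ) : ℤ)) * z' := by
      rw [← h', ← h, conj_pow, ← hl, ← pow_add, two_mul]
    rw [h1]
    refine mul_mem ?_ (D.sq_mem_A hc hz')
    rw [show (4 * m + 3) * ((2 * l : ℕ) : ℤ) = (l : ℤ) * (2 * (4 * m + 3)) by push_cast; ring,
      zpow_mul, zpow_natCast, hl, ← D.xsq_zpow]
    exact zpow_mem (D.xx_mem hc) _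

/-- `P` is abelian modulo `A`. -/
theorem mul_mem_A (H : Hyp G Ω e) (hxt : D.x * D.t f = D.t f * D.x) {i j k l : ℤ}
    (hik : Even (i + k)) (hjl : Even (j + l)) :
    D.x ^ i * D.y ^ j * (D.x ^ k * D.y ^ l) ∈ D.A (M.hc_fixed H hxt) := by
  set hc := M.hc_fixed H hxt
  obtain ⟨m, z, hz, h⟩ := M.conj_yx H hxt
  have h0 : D.y * D.x * D.y⁻¹ * D.x⁻¹ ∈ D.A hc := by
    rw [h, show D.x ^ (4 * m + 3) * z * D.x⁻¹ = D.x ^ (2 * (2 * m + 1)) * (D.x * z * D.x⁻¹) by
      rw [show 4 * m + 3 = 2 * (2 * m + 1) + 1 by ring, zpow_add, zpow_one]; group, ← D.xsq_zpow]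
    refine mul_mem (zpow_mem (D.xx_mem hc) _) (D.sq_mem_A hc ?_)
    have := M.x_norm hxt 1 hz
    rwa [zpow_one] at this
  have h1 : D.x * D.y * D.x⁻¹ * D.y⁻¹ ∈ D.A hc := by
    have := inv_mem h0
    convert this using 1
    group
  have h2 := comm_pow (M.A_norm H hxt D.ymem) h1 j
  have h3 : D.y ^ j * D.x * (D.y ^ j)⁻¹ * D.x⁻¹ ∈ D.A hc := by
    have := inv_mem h2
    convert this using 1
    group
  have h4 := comm_pow (M.A_norm H hxt D.xmem) h3 k
  have heq : D.x ^ i * D.y ^ j * (D.x ^ k * D.y ^ l) =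
      D.x ^ (i + k) * ((D.x ^ k)⁻¹ * (D.y ^ j * D.x ^ k * (D.y ^ j)⁻¹ * (D.x ^ k)⁻¹) * D.x ^ k) *
        D.y ^ (j + l) := by
    rw [zpow_add, zpow_add]; group
  rw [heq]
  refine mul_mem (mul_mem ?_ ?_) ?_
  · simpa using D.mem_A_of_even hc hik (Even.zero : Even (0 : ℤ))
  · have := (Subgroup.mem_normalizer_iff.1 (inv_mem (M.A_norm H hxt (D.xpow_mem k))) _).1 h4
    simpa using this
  · simpa using D.mem_A_of_even hc (Even.zero : Even (0 : ℤ)) hjl

/-- `[w, x]` is not a square in `A` for `w` outside both maximal subgroups. -/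
theorem not_sq_comm (H : Hyp G Ω e) (hxt : D.x * D.t f = D.t f * D.x) {i j : ℤ} (hj : ¬ Even j)
    {χ : G} (hχ : χ ∈ D.A (M.hc_fixed H hxt)) :
    (D.x ^ i * D.y ^ j)⁻¹ * (D.x⁻¹ * (D.x ^ i * D.y ^ j) * D.x) ≠ χ * χ := by
  intro hcon
  have he := M.he
  set hc := M.hc_fixed H hxt
  obtain ⟨a', b', rfl⟩ := hχ
  obtain ⟨m, z, hz, h⟩ := M.conj_yx H hxt
  obtain ⟨n, hn⟩ := Int.not_even_iff_odd.1 hj
  have hyj : D.y ^ (-j) = D.y * D.y ^ (2 * (-n - 1)) := by
    conv_rhs => arg 1; rw [← zpow_one D.y]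
    rw [← zpow_add, hn]; ring_nf
  set w := D.y ^ (2 * (-n - 1)) with hw
  have hwz : w ∈ Subgroup.zpowers (D.y * D.y) :=
    Subgroup.mem_zpowers_iff.2 ⟨-n - 1, by rw [D.sq_zpow]⟩
  set z₃ := D.x⁻¹ * w * D.x * w⁻¹ with hz₃
  have hz₃m : z₃ ∈ Subgroup.zpowers (D.y * D.y) := by
    refine mul_mem ?_ (inv_mem hwz)
    have := M.x_norm hxt (-1) hwz
    rwa [zpow_neg_one, inv_inv] at this
  have hyz₃ : Commute D.y z₃ := by
    obtain ⟨k, hk⟩ := Subgroup.mem_zpowers_iff.1 hz₃m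
    rw [← hk]
    exact ((Commute.refl D.y).mul_right (Commute.refl D.y)).zpow_right k
  have h1 : D.y ^ (-j) * D.x * D.y ^ j = D.x ^ (4 * m + 3) * (z * z₃) := by
    calc D.y ^ (-j) * D.x * D.y ^ j = D.y ^ (-j) * D.x * (D.y ^ (-j))⁻¹ := by
          rw [zpow_neg, inv_inv]
      _ = D.y * D.x * z₃ * D.y⁻¹ := by rw [hyj, hz₃]; group
      _ = D.y * D.x * D.y⁻¹ * z₃ := by
          rw [mul_assoc _ z₃, ← hyz₃.inv_left.eq, ← mul_assoc]
      _ = _ := by rw [h, mul_assoc]
  have h2 : (D.x ^ i * D.y ^ j)⁻¹ * (D.x⁻¹ * (D.x ^ i * D.y ^ j) * D.x) =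
      (z * z₃)⁻¹ * D.x ^ (2 * (-(2 * m + 1))) := by
    calc (D.x ^ i * D.y ^ j)⁻¹ * (D.x⁻¹ * (D.x ^ i * D.y ^ j) * D.x)
        = (D.y ^ (-j) * D.x * D.y ^ j)⁻¹ * D.x := by rw [zpow_neg]; group
      _ = _ := by
        rw [h1, mul_inv_rev, mul_assoc, show 2 * (-(2 * m + 1)) = -(4 * m + 3) + 1 by ring,
          zpow_add D.x (-(4 * m + 3)) 1, zpow_neg, zpow_one]
  rw [h2, ← D.xsq_zpow, D.A_comm hc (inv_mem (D.sq_mem_A hc (mul_mem hz hz₃m)))
    (zpow_mem (D.xx_mem hc) _), ((hc.zpow_zpow a' b').symm).mul_mul_mul_comm, ← zpow_add, ← zpow_add,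
    D.xsq_zpow, D.xsq_zpow] at hcon
  obtain ⟨k, hk⟩ := Subgroup.mem_zpowers_iff.1 (inv_mem (mul_mem hz hz₃m))
  rw [← hk, D.sq_zpow, D.sq_zpow] at hcon
  obtain ⟨h5, -⟩ := D.unique hcon
  have h6 : D.x ^ (2 * (-(2 * m + 1)) - 2 * (a' + a')) = 1 := by rw [zpow_sub, h5, mul_inv_cancel]
  rw [← orderOf_dvd_iff_zpow_eq_one, D.ordx] at h6
  have h7 : (4 : ℤ) ∣ ((2 ^ e : ℕ) : ℤ) := by
    have : (2 ^ 2 : ℕ) ∣ 2 ^ e := pow_dvd_pow 2 he
    exact_mod_cast this
  have := h7.trans h6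
  omega

/-- The case `x t = t x` is impossible. -/
theorem fixed_false (H : Hyp G Ω e) (hxt : D.x * D.t f = D.t f * D.x) : False := by
  have he := M.he
  have hf := M.hf
  have he' := M.he'
  have hy := M.ordy
  set hc := M.hc_fixed H hxt with hcdef
  obtain ⟨ht, ht1⟩ := D.t_invol (by omega : 1 ≤ f) hy
  obtain ⟨haa, ha1⟩ := D.a_invol (by omega : 1 ≤ e)
  set a := D.a with hadef
  set t := D.t f with htdef
  have htP := M.t_central hxt
  have htc : ∀ p ∈ (D.P : Subgroup G), p * t = t * p := htP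
  have hat : Commute a t := htc a D.a_mem
  have hax : Commute D.x a := (Commute.refl D.x).pow_right _
  have hata : a * t * (a * t) = 1 := by
    rw [(show Commute t a from hat.symm).mul_mul_mul_comm, haa, ht, one_mul]
  have hafree := D.a_free (Ω := Ω) (by omega : 1 ≤ e)
  have ha_t : a ≠ t := fun h => hafree D.α (by rw [← hadef, h]; exact D.t_fix f)
  have hat1 : a * t ≠ 1 := fun h => ha_t ((mul_eq_one_iff_eq_inv.1 h).trans (inv_eq_of_mul_eq_one_right ht))
  have haA : a ∈ D.A hc := D.a_mem_A hc he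
  have htA : t ∈ D.A hc := D.t_mem_A hc hf
  have hnat : ∀ g : G, g * a * g⁻¹ ≠ t := fun g h => hafree (g⁻¹ • D.α) (by
    have h2 : a = g⁻¹ * t * g := by rw [← h]; group
    rw [show D.a = g⁻¹ * t * g from h2, ← mul_smul, mul_assoc, mul_inv_cancel, mul_one, mul_smul,
      D.t_fix f])
  have hevA : ∀ {w : G}, w ∈ D.A hc → sgn (Ω := Ω) w = 1 := by
    rintro w ⟨i, j, rfl⟩
    rw [map_mul, map_zpow, map_zpow, sgn_mul_self, sgn_mul_self, one_zpow, one_zpow, one_mul]
  have hsqA : ∀ w ∈ (D.P : Subgroup G), w * w ∈ D.A hc := by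
    intro w hw
    obtain ⟨i, j, rfl⟩ := D.decomp hw
    exact M.mul_mem_A H hxt ⟨i, rfl⟩ ⟨j, rfl⟩
  have hcommA : ∀ g ∈ (D.P : Subgroup G), ∀ h ∈ (D.P : Subgroup G), g⁻¹ * h⁻¹ * g * h ∈ D.A hc := by
    intro g hg h hh
    have h1 : h * g * (g * h) ∈ D.A hc := by
      rw [show h * g * (g * h) = h * h * (h⁻¹ * (g * g) * h) by group]
      refine mul_mem (hsqA h hh) ?_
      have := (Subgroup.mem_normalizer_iff.1 (inv_mem (M.A_norm H hxt hh)) _).1 (hsqA g hg)
      simpa using this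
    rw [show g⁻¹ * h⁻¹ * g * h = (h * g * (h * g))⁻¹ * (h * g * (g * h)) by group]
    exact mul_mem (inv_mem (hsqA _ (mul_mem hh hg))) h1
  have hn2 : 2 < Nat.card Ω := by
    obtain ⟨o, ho, hn⟩ := H.card
    rw [hn]
    calc 2 < 2 ^ 2 * 1 := by norm_num
      _ ≤ 2 ^ e * o := Nat.mul_le_mul (Nat.pow_le_pow_right two_pos he) ho.pos
  -- involutions conjugate to one of `a`, `t`, `a t`
  have hclass : ∀ z ∈ D.A hc, z * z = 1 → z ≠ 1 → ∀ g : G, g * z * g⁻¹ ∈ (D.P : Subgroup G) →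
      (g * z * g⁻¹ = a ∨ g * z * g⁻¹ = t ∨ g * z * g⁻¹ = a * t) ∨
        ∃ i j : ℤ, ¬ Even i ∧ ¬ Even j ∧ g * z * g⁻¹ = D.x ^ i * D.y ^ j := by
    intro z hzA hzz hz1 g hgP
    obtain ⟨i, j, hij⟩ := D.decomp hgP
    have hev : Even (i + j) := D.even_add H he (by rw [← hij, sgn_conj]; exact hevA hzA)
    have hiff := Int.even_add.1 hev
    by_cases hi : Even i
    · left
      have hqq : g * z * g⁻¹ * (g * z * g⁻¹) = 1 := by
        rw [show g * z * g⁻¹ * (g * z * g⁻¹) = g * (z * z) * g⁻¹ by group, hzz, mul_one, mul_inv_cancel]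
      rcases D.omega_A hc (by omega) hy (by omega) (hij ▸ D.mem_A_of_even hc hi (hiff.1 hi)) hqq with
        h | h | h | h
      · exact absurd (conj_eq_one_iff.1 h) hz1
      · exact Or.inl h
      · exact Or.inr (Or.inl h)
      · exact Or.inr (Or.inr h)
    · exact Or.inr ⟨i, j, hi, fun hj => hi (hiff.2 hj), hij⟩
  have hyyA : ∀ {w : G}, w ∈ Subgroup.zpowers (D.y * D.y) → Commute a w := fun hw => M.a_comm_sq H hw
  rcases M.y_a H with hya | hya
  · -- `a` is central in `P`: too few classes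
    have hyac : Commute D.y a := mul_inv_eq_iff_eq_mul.1 hya
    have haP : ∀ p ∈ (D.P : Subgroup G), p * a = a * p := by
      intro p hp
      obtain ⟨i, j, rfl⟩ := D.decomp hp
      exact ((hax.zpow_left i).mul_left (hyac.zpow_left j)).eq
    let V : Set G := {a, t, a * t}
    have hVc : ∀ z ∈ V, (∀ p ∈ (D.P : Subgroup G), p * z = z * p) ∧ z ∈ D.A hc ∧ z * z = 1 ∧ z ≠ 1 := by
      rintro z (rfl | rfl | rfl)
      · exact ⟨haP, haA, haa, ha1⟩
      · exact ⟨htc, htA, ht, ht1⟩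
      · exact ⟨fun p hp => by rw [← mul_assoc, haP p hp, mul_assoc, htc p hp, mul_assoc],
          mul_mem haA htA, hata, hat1⟩
    -- conjugate elements of `V` are equal
    have hdist : ∀ z₁ ∈ V, ∀ z₂ ∈ V, ∀ g : G, g * z₁ * g⁻¹ = z₂ → z₁ = z₂ := by
      intro z₁ hz₁ z₂ hz₂ g hg
      by_contra hne
      obtain ⟨n, hn, hnz⟩ := D.P.conj_eq_normalizer_conj_of_mem_centralizer z₁ g⁻¹
        (Subgroup.mem_centralizer_iff.2 fun p hp => (hVc z₁ hz₁).1 p hp)
        (by rw [inv_inv, hg]; exact Subgroup.mem_centralizer_iff.2 fun p hp => (hVc z₂ hz₂).1 p hp)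
      rw [inv_inv, hg] at hnz
      set ν := n⁻¹ with hν
      have hνN : ν ∈ Subgroup.normalizer ((D.P : Subgroup G) : Set G) := inv_mem hn
      have hν12 : ν * z₁ * ν⁻¹ = z₂ := by rw [hν, inv_inv]; exact hnz.symm
      have hνV : ∀ z ∈ V, ν * z * ν⁻¹ ∈ V := by
        intro z hz
        obtain ⟨hzc, hzA, hzz, hz1⟩ := hVc z hz
        have hzP : ν * z * ν⁻¹ ∈ (D.P : Subgroup G) :=
          (Subgroup.mem_normalizer_iff.1 hνN z).1 (D.A_le hc hzA)
        rcases hclass z hzA hzz hz1 ν hzP with h | ⟨i, j, -, hj, hij⟩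
        · exact h
        exfalso
        have hcen : ∀ p ∈ (D.P : Subgroup G), Commute p (ν * z * ν⁻¹) := fun p hp => by
          have hp' : ν⁻¹ * p * ν ∈ (D.P : Subgroup G) := by
            simpa using (Subgroup.mem_normalizer_iff.1 (inv_mem hνN) p).1 hp
          have h1 := (show Commute (ν⁻¹ * p * ν) z from hzc _ hp').map (MulAut.conj ν).toMonoidHom
          simp only [MulEquiv.coe_toMonoidHom, MulAut.conj_apply] at h1
          rwa [show ν * (ν⁻¹ * p * ν) * ν⁻¹ = p by group] at h1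
        have hyx : Commute D.x (D.y ^ j) := by
          have h1 : Commute D.x (D.x ^ i * D.y ^ j) := hij ▸ hcen D.x D.xmem
          have := ((Commute.refl D.x).zpow_right i).inv_right.mul_right h1
          rwa [inv_mul_cancel_left] at this
        obtain ⟨k, hk⟩ := Subgroup.mem_zpowers_iff.1 (mem_zpowers_odd (k := f)
          (hy ▸ pow_orderOf_eq_one D.y) (Int.not_even_iff_odd.1 hj))
        have hyx' : Commute D.x D.y := by rw [← hk]; exact hyx.zpow_right k
        have hfix : D.y • (D.x • D.α) = D.x • D.α := by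
          rw [← mul_smul, ← hyx'.eq, mul_smul, show D.y • D.α = D.α by simpa using D.y_fix 1]
        have hx2 : D.x * D.x = 1 := by
          rcases (D.fix_y H (by omega)).1 hfix with h | h
          · have h1 := D.free D.α 1 (by rw [zpow_one]; exact h)
            rw [zpow_one] at h1; rw [h1, one_mul]
          · have h1 := D.free D.α (1 + -((2 ^ (e - 1) : ℕ) : ℤ)) (by
              rw [add_comm, zpow_add, mul_smul, zpow_one, h, zpow_neg, zpow_natCast]
              exact inv_smul_smul _ _)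
            rw [zpow_add, zpow_one, zpow_neg, zpow_natCast, mul_inv_eq_one] at h1
            calc D.x * D.x = a * a := by rw [hadef]; unfold Fac.a; rw [← h1]
              _ = 1 := haa
        have h2 := Nat.le_of_dvd two_pos (D.ordx ▸ orderOf_dvd_of_pow_eq_one (by rw [sq]; exact hx2))
        have h3 : 2 ^ 2 ≤ 2 ^ e := Nat.pow_le_pow_right two_pos he
        omega
      obtain ⟨k, m, hm, hνm⟩ := Nat.exists_eq_two_pow_mul_odd (orderOf_pos ν).ne'
      have hνmP : ν ^ m ∈ (D.P : Subgroup G) := by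
        set N := Subgroup.normalizer ((D.P : Subgroup G) : Set G)
        set S := Subgroup.zpowers (ν ^ m)
        have hSp : IsPGroup 2 S := IsPGroup.of_card (n := k) (by
          rw [Nat.card_zpowers, orderOf_pow' _ hm.pos.ne', hνm, Nat.gcd_eq_right (Dvd.intro_left _ rfl),
            Nat.mul_div_left _ hm.pos])
        have hSN : S ≤ N := Subgroup.zpowers_le.2 (pow_mem hνN m)
        have h1 := IsPGroup.to_sup_of_normal_right' hSp D.P.2 hSN
        exact (D.P.3 h1 le_sup_right).le ((le_sup_left : S ≤ _) (Subgroup.mem_zpowers _))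
      have hm1 : ν ^ m * z₁ * (ν ^ m)⁻¹ = z₁ := by
        rw [(hVc z₁ hz₁).1 _ hνmP, mul_inv_cancel_right]
      by_cases h21 : ν * z₂ * ν⁻¹ = z₁
      · have hev : ∀ r : ℕ, ν ^ (2 * r + 1) * z₁ * (ν ^ (2 * r + 1))⁻¹ = z₂ := by
          intro r
          induction r with
          | zero => simpa using hν12
          | succ r ih =>
            rw [show 2 * (r + 1) + 1 = 1 + (1 + (2 * r + 1)) by ring, pow_add, pow_add, pow_one,
              show ν * (ν * ν ^ (2 * r + 1)) * z₁ * (ν * (ν * ν ^ (2 * r + 1)))⁻¹ =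
                ν * (ν * (ν ^ (2 * r + 1) * z₁ * (ν ^ (2 * r + 1))⁻¹) * ν⁻¹) * ν⁻¹ by group,
              ih, h21, hν12]
        obtain ⟨r, hr⟩ := hm
        exact hne (hm1.symm.trans (hr ▸ hev r))
      · -- all three are conjugate
        set z₃ := ν * z₂ * ν⁻¹ with hz₃def
        have hz₃V : z₃ ∈ V := hνV z₂ hz₂
        have h32 : z₃ ≠ z₂ := fun h => hne (mul_left_cancel (a := ν) (mul_right_cancel (b := ν⁻¹)
          (hν12.trans h.symm)))
        have hall : ∀ z ∈ V, ∃ c : G, c * z₁ * c⁻¹ = z := by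
          intro z hz
          have h13 : (ν * ν) * z₁ * (ν * ν)⁻¹ = z₃ := by rw [hz₃def, ← hν12]; group
          have hz' : z = z₁ ∨ z = z₂ ∨ z = z₃ := by
            have hsub : ({z₁, z₂, z₃} : Set G) ⊆ V :=
              Set.insert_subset hz₁ (Set.insert_subset hz₂ (Set.singleton_subset_iff.2 hz₃V))
            have h3 : ({z₁, z₂, z₃} : Set G).ncard = 3 :=
              Set.ncard_eq_three.2 ⟨z₁, z₂, z₃, hne, fun h => h21 h.symm, fun h => h32 h.symm, rfl⟩
            have hV3 : V.ncard ≤ 3 := by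
              refine (Set.ncard_insert_le _ _).trans ?_
              have := Set.ncard_insert_le t ({a * t} : Set G)
              rw [Set.ncard_singleton] at this
              omega
            have heq := Set.eq_of_subset_of_ncard_le hsub (by omega) (Set.toFinite _)
            rw [← heq] at hz
            simpa using hz
          rcases hz' with rfl | rfl | rfl
          · exact ⟨1, by simp⟩
          · exact ⟨ν, hν12⟩
          · exact ⟨_, h13⟩
        obtain ⟨c₁, hc₁⟩ := hall a (Or.inl rfl)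
        obtain ⟨c₂, hc₂⟩ := hall t (Or.inr (Or.inl rfl))
        refine hnat (c₂ * c₁⁻¹) ?_
        rw [← hc₁, ← hc₂]; group
    -- conjugates outside `A`
    have hq : ∀ z ∈ V, ∃ g : G, ∃ i j : ℤ, ¬ Even i ∧ ¬ Even j ∧ g * z * g⁻¹ = D.x ^ i * D.y ^ j := by
      intro z hz
      obtain ⟨-, hzA, hzz, hz1⟩ := hVc z hz
      obtain ⟨g, hgP, hgz⟩ := exists_other_conj H (by omega) hn2 D.P hzz hz1 (D.A_le hc hzA)
      rcases hclass z hzA hzz hz1 g hgP with h | ⟨i, j, hi, hj, hij⟩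
      · exact absurd (hdist z hz _ h g rfl).symm hgz
      · exact ⟨g, i, j, hi, hj, hij⟩
    obtain ⟨g₀, i₀, j₀, hi₀, hj₀, hg₀⟩ := hq a (Or.inl rfl)
    obtain ⟨g₁, i₁, j₁, hi₁, hj₁, hg₁⟩ := hq t (Or.inr (Or.inl rfl))
    obtain ⟨g₂, i₂, j₂, hi₂, hj₂, hg₂⟩ := hq (a * t) (Or.inr (Or.inr rfl))
    set q₀ := g₀ * a * g₀⁻¹
    set q₁ := g₁ * t * g₁⁻¹
    set q₂ := g₂ * (a * t) * g₂⁻¹
    let z : Fin 5 → G := ![a, t, a * t, a, t]
    let g : Fin 5 → G := ![g₀, g₁, g₂, D.x⁻¹ * g₀, D.x⁻¹ * g₁]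
    let w : Fin 5 → G := fun k => g k * z k * (g k)⁻¹
    have hw3 : w 3 = D.x⁻¹ * q₀ * D.x := by simp [w, g, z, q₀, mul_assoc]
    have hw4 : w 4 = D.x⁻¹ * q₁ * D.x := by simp [w, g, z, q₁, mul_assoc]
    have hodd : ∀ k, q₀ * w k ∈ D.A hc := by
      have hb : ∀ i j : ℤ, ¬ Even i → ¬ Even j → q₀ * (D.x ^ i * D.y ^ j) ∈ D.A hc := fun i j hi hj => by
        rw [hg₀]
        exact M.mul_mem_A H hxt (Int.even_add.2 (iff_of_false hi₀ hi)) (Int.even_add.2 (iff_of_false hj₀ hj))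
      have hconjx : ∀ i j : ℤ, ¬ Even i → ¬ Even j →
          q₀ * (D.x⁻¹ * (D.x ^ i * D.y ^ j) * D.x) ∈ D.A hc := fun i j hi hj => by
        set v := D.x ^ i * D.y ^ j with hv
        have hvP : v ∈ (D.P : Subgroup G) := mul_mem (D.xpow_mem i) (D.ypow_mem j)
        rw [show q₀ * (D.x⁻¹ * v * D.x) = q₀ * v * (v⁻¹ * D.x⁻¹ * v * D.x) by group]
        exact mul_mem (hb i j hi hj) (hcommA v hvP D.x D.xmem)
      intro k
      fin_cases k
      · exact M.mul_mem_A H hxt (Int.even_add.2 (iff_of_false hi₀ hi₀))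
          (Int.even_add.2 (iff_of_false hj₀ hj₀)) |> fun h => by show q₀ * q₀ ∈ _; rw [hg₀]; exact h
      · show q₀ * q₁ ∈ _; rw [hg₁]; exact hb i₁ j₁ hi₁ hj₁
      · show q₀ * q₂ ∈ _; rw [hg₂]; exact hb i₂ j₂ hi₂ hj₂
      · show q₀ * w 3 ∈ _
        have := hconjx i₀ j₀ hi₀ hj₀
        rw [← hg₀] at this
        rw [hw3]; exact this
      · show q₀ * w 4 ∈ _
        rw [hw4, hg₁]; exact hconjx i₁ j₁ hi₁ hj₁
    have hw2 : ∀ k, w k * w k = 1 := by
      intro k
      have hzk : z k * z k = 1 := by fin_cases k <;> simp [z, haa, ht, hata]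
      rw [show w k * w k = g k * (z k * z k) * (g k)⁻¹ by simp [w, mul_assoc], hzk, mul_one, mul_inv_cancel]
    have h4 : Nat.card {u : G // u ∈ D.A hc ∧ u * u = 1} ≤ 4 := by
      let F : Bool × Bool → {u : G // u ∈ D.A hc ∧ u * u = 1} := fun p => match p with
        | (false, false) => ⟨1, one_mem _, one_mul 1⟩
        | (true, false) => ⟨a, haA, haa⟩
        | (false, true) => ⟨t, htA, ht⟩
        | (true, true) => ⟨a * t, mul_mem haA htA, hata⟩
      have hF : Function.Surjective F := by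
        rintro ⟨u, hu, hu2⟩
        rcases D.omega_A hc (by omega) hy (by omega) hu hu2 with rfl | rfl | rfl | rfl
        · exact ⟨(false, false), rfl⟩
        · exact ⟨(true, false), rfl⟩
        · exact ⟨(false, true), rfl⟩
        · exact ⟨(true, true), rfl⟩
      refine le_trans (Nat.card_le_card_of_surjective F hF) ?_
      simp [Nat.card_eq_fintype_card]
    obtain ⟨p, p', hpp', χ, hχA, hχ, hχsq⟩ := exists_conj_pair (fun u hu v hv => D.A_comm hc hu hv) h4
      (show q₀ * q₀ = 1 from hw2 0) w hodd hw2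
    have hzz' : z p = z p' := by
      have hVz : ∀ k, z k ∈ V := fun k => by fin_cases k <;> simp [z, V]
      refine hdist _ (hVz p) _ (hVz p') ((g p')⁻¹ * χ⁻¹ * g p) ?_
      calc (g p')⁻¹ * χ⁻¹ * g p * z p * ((g p')⁻¹ * χ⁻¹ * g p)⁻¹
          = (g p')⁻¹ * (χ⁻¹ * w p * χ) * g p' := by simp [w, mul_assoc]
        _ = z p' := by rw [hχ]; simp [w, mul_assoc]
    have hinvq₀ : q₀⁻¹ = q₀ := inv_eq_of_mul_eq_one_right (hw2 0)
    have hinvq₁ : q₁⁻¹ = q₁ := inv_eq_of_mul_eq_one_right (hw2 1)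
    have hswap : w p' * w p = χ⁻¹ * χ⁻¹ := by
      rw [← mul_inv_rev, ← hχsq, mul_inv_rev, inv_eq_of_mul_eq_one_right (hw2 p),
        inv_eq_of_mul_eq_one_right (hw2 p')]
    have key : ∀ (i j : ℤ), ¬ Even j → (D.x ^ i * D.y ^ j) * (D.x ^ i * D.y ^ j) = 1 →
        ∀ χ' ∈ D.A hc, (D.x ^ i * D.y ^ j) * (D.x⁻¹ * (D.x ^ i * D.y ^ j) * D.x) ≠ χ' * χ' := by
      intro i j hj hinv χ' hχ' hcon
      refine M.not_sq_comm H hxt (i := i) hj hχ' ?_
      rw [inv_eq_of_mul_eq_one_right hinv]; exact hcon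
    have h00 : q₀ * w 3 ≠ χ * χ := by
      rw [hw3, hg₀]; exact key i₀ j₀ hj₀ (hg₀ ▸ hw2 0) χ hχA
    have h00' : q₀ * w 3 ≠ χ⁻¹ * χ⁻¹ := by
      rw [hw3, hg₀]; exact key i₀ j₀ hj₀ (hg₀ ▸ hw2 0) χ⁻¹ (inv_mem hχA)
    have h11 : q₁ * w 4 ≠ χ * χ := by
      rw [hw4, hg₁]; exact key i₁ j₁ hj₁ (hg₁ ▸ hw2 1) χ hχA
    have h11' : q₁ * w 4 ≠ χ⁻¹ * χ⁻¹ := by
      rw [hw4, hg₁]; exact key i₁ j₁ hj₁ (hg₁ ▸ hw2 1) χ⁻¹ (inv_mem hχA)
    have hta : t ≠ a := fun h => ha_t h.symm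
    have hata' : a * t ≠ a := fun h => ht1 (mul_eq_left.1 h)
    have hatt : a * t ≠ t := fun h => ha1 (mul_eq_right.1 h)
    fin_cases p <;> fin_cases p' <;> first
      | exact hpp' rfl
      | exact ha_t hzz'
      | exact hta hzz'
      | exact hata' hzz'
      | exact hatt hzz'
      | exact hata' hzz'.symm
      | exact hatt hzz'.symm
      | exact h00 hχsq
      | exact h11 hχsq
      | exact h00' hswap
      | exact h11' hswap
  · -- `a` is not central: `t` is isolated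
    have hat' : a * t = D.y * a * D.y⁻¹ := hya.symm
    have hf3 : 3 ≤ f := by
      by_contra hlt
      obtain rfl : f = 2 := by omega
      obtain ⟨m, z, hz, h⟩ := M.conj_y H
      have hzcases : z = 1 ∨ z = D.t 2 := by
        refine sq_one_cases (by omega : 1 ≤ 2) hy (D.sq_le hz) ?_
        obtain ⟨k, rfl⟩ := Subgroup.mem_zpowers_iff.1 hz
        rw [← zpow_add, ← two_mul, zpow_mul, zpow_ofNat, sq,
          show D.y * D.y * (D.y * D.y) = D.y ^ (2 ^ 2) by rw [← sq, ← sq, ← pow_mul]; norm_num,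
          ← hy, pow_orderOf_eq_one, one_zpow]
      have hcomm : Commute (x₁ ^ (4 * m + 3)) z := by
        rcases hzcases with rfl | rfl
        · exact Commute.one_right _
        · exact Commute.zpow_left (show Commute x₁ (D.t 2) from M.comm) _
      have hz2 : z * z = 1 := by
        rcases hzcases with rfl | rfl
        · exact one_mul 1
        · exact ht
      have h2 : D.y * a * D.y⁻¹ = a := by
        rw [hadef, M.a_eq, ← conj_pow, h, hcomm.mul_pow,
          show 2 ^ (e' - 1) = 2 * 2 ^ (e' - 2) by rw [← pow_succ']; congr 1; omega, pow_mul z, sq z, hz2,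
          one_pow, mul_one, ← zpow_natCast, ← zpow_mul, mul_comm, zpow_mul, zpow_natCast,
          show 2 * 2 ^ (e' - 2) = 2 ^ (e' - 1) by rw [← pow_succ']; congr 1; omega, ← M.a_eq,
          show (4 * m + 3) = 2 * (2 * m + 1) + 1 by ring, zpow_add, zpow_mul, zpow_ofNat, sq,
          (D.a_invol (by omega)).1, one_zpow, one_mul, zpow_one]
      exact ha1 (by
        have h3 : a * D.t 2 = a := hya.symm.trans h2
        exact absurd (mul_eq_left.1 h3) ht1)
    have hat_free : ∀ ω : Ω, (a * t) • ω ≠ ω := fun ω h => by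
      rw [hat', mul_smul, mul_smul] at h
      exact hafree (D.y⁻¹ • ω) (eq_inv_smul_iff.2 h)
    have hsqt : ∀ w ∈ (D.P : Subgroup G), ∀ g : G, w * w = g * t * g⁻¹ → w * w = t := by
      intro w hw g hwg
      have h2 : w * w * (w * w) = 1 := by
        rw [hwg, show g * t * g⁻¹ * (g * t * g⁻¹) = g * (t * t) * g⁻¹ by group, ht, mul_one, mul_inv_cancel]
      have hgfix : (g * t * g⁻¹) • (g • D.α) = g • D.α := by
        rw [mul_smul, inv_smul_smul, mul_smul, D.t_fix f]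
      rcases D.omega_A hc (by omega) hy (by omega) (hsqA w hw) h2 with h | h | h | h
      · exact absurd (conj_eq_one_iff.1 (hwg.symm.trans h)) ht1
      · exact absurd (by rw [show D.a = g * t * g⁻¹ from h.symm.trans hwg]; exact hgfix) (hafree (g • D.α))
      · exact h
      · exact absurd (by rw [show a * t = g * t * g⁻¹ from h.symm.trans hwg]; exact hgfix)
          (hat_free (g • D.α))
    obtain ⟨g, hgP, hgt⟩ := exists_other_conj H (by omega) hn2 D.P ht ht1 (D.t_mem f)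
    set q := g * t * g⁻¹ with hqdef
    have hqq : q * q = 1 := by
      rw [hqdef, show g * t * g⁻¹ * (g * t * g⁻¹) = g * (t * t) * g⁻¹ by group, ht, mul_one, mul_inv_cancel]
    have hqfix : q • (g • D.α) = g • D.α := by
      rw [hqdef, mul_smul, inv_smul_smul, mul_smul, D.t_fix f]
    rcases hclass t htA ht ht1 g hgP with (h | h | h) | ⟨i, j, hi, hj, hij⟩
    · exact hafree (g • D.α) (by rw [← hadef, ← h]; exact hqfix)
    · exact hgt h
    · exact hat_free (g • D.α) (by rw [← h]; exact hqfix)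
    -- `q` carries `a` to `a t`
    have hqinv : q⁻¹ = q := inv_eq_of_mul_eq_one_right hqq
    obtain ⟨n, hn⟩ := Int.not_even_iff_odd.1 hj
    have hqa : q * a * q = a * t := by
      conv_lhs => arg 2; rw [← hqinv]
      have hyy : Commute (D.y ^ (2 * n)) a := by
        rw [← D.sq_zpow]; exact (hyyA (Subgroup.zpow_mem_zpowers _ n)).symm
      rw [show q = _ from hij, hn, zpow_add, zpow_one,
        show D.x ^ i * (D.y ^ (2 * n) * D.y) * a * (D.x ^ i * (D.y ^ (2 * n) * D.y))⁻¹ =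
          D.x ^ i * (D.y ^ (2 * n) * (D.y * a * D.y⁻¹) * (D.y ^ (2 * n))⁻¹) * (D.x ^ i)⁻¹ by group,
        hya, (hyy.mul_right (D.t_comm_y f (2 * n))).eq, mul_inv_cancel_right,
        ((hax.mul_right (show Commute D.x t from hxt)).zpow_left i).eq, mul_inv_cancel_right]
    set b := D.y ^ 2 ^ (f - 2) with hb
    have hbb : b * b = t := by
      rw [hb, ← pow_add, htdef]; unfold Fac.t
      congr 1; rw [← two_mul, ← pow_succ']; congr 1; omega
    have hbZ : b ∈ Subgroup.zpowers (D.y * D.y) := by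
      rw [hb, show 2 ^ (f - 2) = 2 * 2 ^ (f - 3) by rw [← pow_succ']; congr 1; omega, pow_mul, sq]
      exact Subgroup.npow_mem_zpowers _ _
    have hqbZ : q * b * q ∈ Subgroup.zpowers (D.y * D.y) := by
      conv => enter [2]; arg 2; rw [← hqinv]
      rw [show q = _ from hij, show D.x ^ i * D.y ^ j * b * (D.x ^ i * D.y ^ j)⁻¹ =
        D.x ^ i * (D.y ^ j * b * (D.y ^ j)⁻¹) * (D.x ^ i)⁻¹ by group,
        (show Commute (D.y ^ j) b from ((Commute.refl D.y).zpow_left j).pow_right _).eq,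
        mul_inv_cancel_right]
      exact M.x_norm hxt i hbZ
    set ε := b⁻¹ * (q * b * q) with hε
    have hqbqq : q * b * q * (q * b * q) = t := by
      rw [show q * b * q * (q * b * q) = q * b * (q * q) * b * q by group, hqq, mul_one,
        show q * b * b * q = q * (b * b) * q by group, hbb, htc q hgP, mul_assoc, hqq, mul_one]
    have hεε : ε * ε = 1 := by
      have hcm : Commute (q * b * q) b⁻¹ := by
        obtain ⟨u, hu⟩ := Subgroup.mem_zpowers_iff.1 hqbZ
        obtain ⟨v, hv⟩ := Subgroup.mem_zpowers_iff.1 (inv_mem hbZ)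
        rw [← hu, ← hv]; exact (Commute.refl _).zpow_zpow u v
      rw [hε, hcm.mul_mul_mul_comm, hqbqq, ← mul_inv_rev, hbb, inv_mul_cancel]
    have hroot : ∀ c : G, c ∈ (D.P : Subgroup G) → q * c * q = c → c * c = t → False := by
      intro c hcP hcq hcc
      refine hgt (eq_of_root D.P htc (D.t_mem f) hcP ?_ hcc (h := g⁻¹) (by rw [hqdef]; group) hsqt)
      calc c * q = q * c * q * q := by rw [hcq]
        _ = q * c := by rw [mul_assoc, hqq, mul_one]
    have hbP : b ∈ (D.P : Subgroup G) := pow_mem D.ymem _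
    rcases sq_one_cases (by omega : 1 ≤ f) hy (D.sq_le (mul_mem (inv_mem hbZ) hqbZ)) hεε with h | h
    · refine hroot b hbP ?_ hbb
      rw [inv_mul_eq_one] at h
      exact h.symm
    · refine hroot (b * a) (mul_mem hbP D.a_mem) ?_ ?_
      · have h' : q * b * q = b * t := by
          rw [show t = b⁻¹ * (q * b * q) from h.symm, mul_inv_cancel_left]
        calc q * (b * a) * q = q * b * (q * q) * a * q := by rw [hqq]; group
          _ = (q * b * q) * (q * a * q) := by group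
          _ = b * t * (a * t) := by rw [h', hqa]
          _ = b * a := by rw [hat.eq, mul_assoc, ← mul_assoc t, ht, one_mul]
      · rw [(hyyA hbZ).mul_mul_mul_comm, hbb, haa, mul_one]

end Mid

end Cfsg.Agent.Lib.CycZFactor60
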