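import Cfsg.Agent.Lib.CycZFactor60.Moved
import Cfsg.Agent.Lib.CycZFactor60.Fixed

/-!
# The key theorem: `e ≤ 1` or the stabiliser part has order at most two

Owner: helper60 (row S3252).
-/

set_option autoImplicit false
set_option linter.unusedSectionVars false

universe u v

namespace Cfsg.Agent.Lib.CycZFactor60

open MulAction

variable [Fact (Nat.Prime 2)]

/-- The induction. -/
theorem keyProp (n : ℕ) : KeyProp.{v} n := by
  induction n using Nat.strong_induction_on with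
  | _ n ih =>
  intro G _ _ Ω _ _ _ e H he D hn
  classical
  haveI : Fintype Ω := Fintype.ofFinite Ω
  obtain ⟨f, hy⟩ := D.exists_ord_y
  by_cases hf : f ≤ 1
  · rw [← sq, ← orderOf_dvd_iff_pow_eq_one, hy]
    calc 2 ^ f ∣ 2 ^ 1 := pow_dvd_pow 2 hf
      _ = 2 := rfl
  exfalso
  have hf2 : 2 ≤ f := by omega
  set C := Subgroup.centralizer ({D.t f} : Set G) with hC
  have hyC : Subgroup.zpowers D.y ≤ C := by
    refine Subgroup.zpowers_le.2 (Subgroup.mem_centralizer_singleton_iff.2 ?_)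
    simpa using D.t_comm_y f 1
  obtain ⟨W₀, hW₀⟩ := ((D.P.2.to_le (Subgroup.zpowers_le.2 D.ymem) :
    IsPGroup 2 (Subgroup.zpowers D.y)).comap_subtype (K := C) :
      IsPGroup 2 ((Subgroup.zpowers D.y).subgroupOf C)).exists_le_sylow
  set W := (W₀ : Subgroup C).map C.subtype with hW
  have hWC : W ≤ C := Subgroup.map_subtype_le _
  have hyW : Subgroup.zpowers D.y ≤ W := fun z hz =>
    ⟨⟨z, hyC hz⟩, hW₀ (Subgroup.mem_subgroupOf.2 hz), rfl⟩
  have hinf : W ⊓ stabilizer G D.α = Subgroup.zpowers D.y :=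
    D.stab_max H (by omega) ((W₀.2.map _).to_le inf_le_left) inf_le_right
      (le_inf hyW (Subgroup.zpowers_le.2 D.y_stab.2))
  obtain ⟨D', -, hWD', hD'y⟩ := H.exists_fac (by omega) D.α (W := W) (W₀.2.map _) (by
    intro T hT hTS hle
    rw [hinf] at hle ⊢
    exact D.stab_max H (by omega) hT hTS hle)
  rw [hinf] at hD'y
  have hy' : orderOf D'.y = 2 ^ f := by rw [← Nat.card_zpowers, hD'y, Nat.card_zpowers, hy]
  have ht : D'.t f = D.t f := by
    obtain ⟨h1, h2⟩ := D'.t_invol (by omega : 1 ≤ f) hy'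
    rcases sq_one_cases (by omega : 1 ≤ f) hy
      (show D'.t f ∈ Subgroup.zpowers D.y from hD'y ▸ Subgroup.npow_mem_zpowers _ _) h1 with h | h
    · exact absurd h h2
    · exact h
  have hPC : (D'.P : Subgroup G) ⊓ Subgroup.centralizer ({D'.t f} : Set G) = W := by
    rw [ht]
    refine le_antisymm ?_ (le_inf hWD' hWC)
    intro g hg
    have h1 : ((D'.P : Subgroup G) ⊓ C).subgroupOf C = (W₀ : Subgroup C) :=
      W₀.3 ((D'.P.2.to_le inf_le_left).comap_subtype) fun r hr =>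
        Subgroup.mem_subgroupOf.2 ⟨hWD' ⟨r, hr, rfl⟩, r.2⟩
    exact ⟨⟨g, hg.2⟩, h1 ▸ Subgroup.mem_subgroupOf.2 hg, rfl⟩
  have IH : ∀ m < Nat.card Ω, KeyProp.{v} m := fun m hm => ih m (hn ▸ hm)
  obtain ⟨x₁, e', he', hord, hmem, hcov, hcomm, hnorm⟩ := D'.fixset H he hf2 hy' IH (by
    intro T hT hTC hle
    rw [hPC] at hle ⊢
    rw [ht] at hTC
    refine le_antisymm (fun g hg => ?_) hle
    have h1 : T.subgroupOf C = (W₀ : Subgroup C) := W₀.3 hT.comap_subtype fun r hr =>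
      Subgroup.mem_subgroupOf.2 (hle ⟨r, hr, rfl⟩)
    exact ⟨⟨g, hTC hg⟩, h1 ▸ Subgroup.mem_subgroupOf.2 hg, rfl⟩)
  have M : Mid D' f e' x₁ := ⟨hf2, hy', he, he', hord, hmem, hcomm, hcov, hnorm⟩
  by_cases hxt : D'.x * D'.t f = D'.t f * D'.x
  · exact M.fixed_false H hxt
  · exact M.moved_false H hxt

/-- **Key theorem.**  If `2 ≤ e`, the stabiliser part has order at most two. -/
theorem key {G : Type v} [Group G] [Finite G] {Ω : Type v} [Finite Ω] [MulAction G Ω]
    [FaithfulSMul G Ω] {e : ℕ} (H : Hyp G Ω e) (he : 2 ≤ e) (D : Fac G Ω e) : D.y * D.y = 1 :=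
  keyProp _ G Ω e H he D rfl

end Cfsg.Agent.Lib.CycZFactor60
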