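import Cfsg.Agent.Lib.CycZFactor60.Basic
import Cfsg.Agent.S0215

/-!
# The factorised Sylow 2-subgroup: fixed points, parity, isolated involutions

Owner: helper60 (row S3252).
-/

set_option autoImplicit false
set_option linter.unusedSectionVars false

namespace Cfsg.Agent.Lib.CycZFactor60

open MulAction

section Cyclic

variable {G : Type*} [Group G]

/-- An odd power generates the same cyclic 2-group. -/
theorem mem_zpowers_odd {z : G} {k : ℕ} (hz : z ^ 2 ^ k = 1) {r : ℤ} (hr : Odd r) :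
    z ∈ Subgroup.zpowers (z ^ r) := by
  have hc : IsCoprime r ((2 : ℤ) ^ k) := by
    refine IsCoprime.pow_right ?_
    obtain ⟨m, rfl⟩ := hr
    exact ⟨1, -m, by ring⟩
  obtain ⟨u, v, huv⟩ := hc
  refine Subgroup.mem_zpowers_iff.2 ⟨u, ?_⟩
  have h2 : z ^ ((2 : ℤ) ^ k) = 1 := by
    rw [show ((2 : ℤ) ^ k) = ((2 ^ k : ℕ) : ℤ) by push_cast; rfl, zpow_natCast]; exact hz
  calc (z ^ r) ^ u = z ^ (r * u) := (zpow_mul z r u).symm
    _ = z ^ (1 - v * (2 : ℤ) ^ k) := by congr 1; linarith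
    _ = z := by rw [zpow_sub, zpow_one, mul_comm, zpow_mul, h2, one_zpow, inv_one, mul_one]

/-- The square roots of one in a cyclic 2-group. -/
theorem sq_one_cases {z : G} {k : ℕ} (hk : 1 ≤ k) (hz : orderOf z = 2 ^ k) {w : G}
    (hw : w ∈ Subgroup.zpowers z) (hw2 : w * w = 1) : w = 1 ∨ w = z ^ 2 ^ (k - 1) := by
  obtain ⟨i, rfl⟩ := Subgroup.mem_zpowers_iff.1 hw
  rw [← zpow_add, ← orderOf_dvd_iff_zpow_eq_one, hz] at hw2
  have hk2 : ((2 ^ k : ℕ) : ℤ) = 2 * 2 ^ (k - 1) := by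
    push_cast
    rw [← pow_succ']
    congr 1
    omega
  rw [hk2, ← two_mul] at hw2
  obtain ⟨m, hm⟩ := Int.dvd_of_mul_dvd_mul_left (by norm_num : (2 : ℤ) ≠ 0) hw2
  have hone : z ^ ((2 : ℤ) ^ (k - 1) * 2) = 1 := by
    rw [mul_comm, ← hk2, zpow_natCast, ← hz, pow_orderOf_eq_one]
  rcases Int.even_or_odd' m with ⟨l, hl | hl⟩
  · left
    rw [hm, hl, ← mul_assoc, zpow_mul, hone, one_zpow]
  · right
    rw [hm, hl, mul_add, mul_one, ← mul_assoc, zpow_add, zpow_mul, hone, one_zpow, one_mul,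
      show ((2 : ℤ) ^ (k - 1)) = ((2 ^ (k - 1) : ℕ) : ℤ) by push_cast; rfl, zpow_natCast]

theorem invol_pow {z : G} {k : ℕ} (hk : 1 ≤ k) (hz : orderOf z = 2 ^ k) :
    z ^ 2 ^ (k - 1) * z ^ 2 ^ (k - 1) = 1 ∧ z ^ 2 ^ (k - 1) ≠ 1 := by
  constructor
  · rw [← pow_add, show 2 ^ (k - 1) + 2 ^ (k - 1) = 2 ^ k by
      rw [← two_mul, ← pow_succ', Nat.sub_add_cancel hk], ← hz, pow_orderOf_eq_one]
  · intro h
    have h1 := Nat.le_of_dvd (pow_pos two_pos _) (hz ▸ orderOf_dvd_of_pow_eq_one h)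
    have h2 : 2 ^ (k - 1) < 2 ^ k := Nat.pow_lt_pow_right (by norm_num) (by omega)
    omega

/-- A nontrivial element of a cyclic 2-group has the involution as a power. -/
theorem invol_mem {z : G} {k : ℕ} (hz : orderOf z = 2 ^ k) {w : G}
    (hw : w ∈ Subgroup.zpowers z) (hw1 : w ≠ 1) : z ^ 2 ^ (k - 1) ∈ Subgroup.zpowers w := by
  obtain ⟨i, rfl⟩ := Subgroup.mem_zpowers_iff.1 hw
  have hz1 : z ^ 2 ^ k = 1 := hz ▸ pow_orderOf_eq_one z
  obtain ⟨j, hj, hr⟩ := (Nat.dvd_prime_pow Nat.prime_two).1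
    (show orderOf (z ^ i) ∣ 2 ^ k from orderOf_dvd_of_pow_eq_one (by
      rw [← zpow_natCast, ← zpow_mul, mul_comm, zpow_mul, zpow_natCast, hz1, one_zpow]))
  have hj1 : 1 ≤ j := by
    rcases Nat.eq_zero_or_pos j with h | h
    · exact absurd (orderOf_eq_one_iff.1 (by rw [hr, h, pow_zero])) hw1
    · exact h
  obtain ⟨h1, h2⟩ := invol_pow hj1 hr
  have hmem : (z ^ i) ^ 2 ^ (j - 1) ∈ Subgroup.zpowers z :=
    pow_mem (Subgroup.zpow_mem_zpowers z i) _
  rcases sq_one_cases (hj1.trans hj) hz hmem h1 with h | h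
  · exact absurd h h2
  · exact h ▸ Subgroup.npow_mem_zpowers _ _

end Cyclic

variable {G : Type*} [Group G] {Ω : Type*} [MulAction G Ω] {e : ℕ}

namespace Fac

variable (D : Fac G Ω e)

/-- The involution of `⟨x⟩`. -/
def a : G := D.x ^ 2 ^ (e - 1)

theorem y_stab : D.y ∈ (D.P : Subgroup G) ⊓ stabilizer G D.α := D.stab ▸ Subgroup.mem_zpowers _

theorem ymem : D.y ∈ (D.P : Subgroup G) := D.y_stab.1

theorem xpow_mem (i : ℤ) : D.x ^ i ∈ (D.P : Subgroup G) := zpow_mem D.xmem i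

theorem ypow_mem (j : ℤ) : D.y ^ j ∈ (D.P : Subgroup G) := zpow_mem D.ymem j

theorem y_fix (j : ℤ) : D.y ^ j • D.α = D.α :=
  mem_stabilizer_iff.1 (Subgroup.zpow_mem (stabilizer G D.α) D.y_stab.2 j)

theorem mem_y {g : G} (hg : g ∈ (D.P : Subgroup G)) (hfix : g • D.α = D.α) :
    g ∈ Subgroup.zpowers D.y := by
  rw [D.stab]; exact ⟨hg, hfix⟩

theorem xy_fix (i j : ℤ) : (D.x ^ i * D.y ^ j) • D.α = D.x ^ i • D.α := by
  rw [mul_smul, D.y_fix]

theorem decomp {g : G} (hg : g ∈ (D.P : Subgroup G)) : ∃ i j : ℤ, g = D.x ^ i * D.y ^ j := by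
  obtain ⟨i, hi⟩ := D.orbit g hg
  have h : ((D.x ^ i)⁻¹ * g) • D.α = D.α := by rw [mul_smul, ← hi, inv_smul_smul]
  obtain ⟨j, hj⟩ := Subgroup.mem_zpowers_iff.1 (D.mem_y (mul_mem (inv_mem (D.xpow_mem i)) hg) h)
  exact ⟨i, j, by rw [hj, mul_inv_cancel_left]⟩

theorem eq_one {i j : ℤ} (h : D.x ^ i * D.y ^ j = 1) : D.x ^ i = 1 ∧ D.y ^ j = 1 := by
  have h1 : D.x ^ i = 1 := D.free D.α i (by rw [← D.xy_fix i j, h, one_smul])
  exact ⟨h1, by rwa [h1, one_mul] at h⟩

theorem unique {i j k l : ℤ} (h : D.x ^ i * D.y ^ j = D.x ^ k * D.y ^ l) :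
    D.x ^ i = D.x ^ k ∧ D.y ^ j = D.y ^ l := by
  have h1 : D.x ^ (-k + i) = 1 := D.free D.α _ (by
    have h' := congrArg (fun g => g • D.α) h
    simp only [D.xy_fix] at h'
    rw [zpow_add, mul_smul, h', zpow_neg, inv_smul_smul])
  have h2 : D.x ^ i = D.x ^ k := by
    rw [zpow_add, zpow_neg, inv_mul_eq_one] at h1; exact h1.symm
  exact ⟨h2, by rwa [h2, mul_right_inj] at h⟩

theorem a_mem : D.a ∈ (D.P : Subgroup G) := pow_mem D.xmem _

theorem a_invol (he : 1 ≤ e) : D.a * D.a = 1 ∧ D.a ≠ 1 := invol_pow he D.ordx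

theorem a_free (he : 1 ≤ e) (ω : Ω) : D.a • ω ≠ ω := fun h =>
  (D.a_invol he).2 (by
    unfold a at h ⊢
    rw [← zpow_natCast] at h ⊢
    exact D.free ω _ h)

theorem xpow_two_pow : D.x ^ 2 ^ e = 1 := D.ordx ▸ pow_orderOf_eq_one _

variable [hp2 : Fact (Nat.Prime 2)]

theorem exists_ord_y : ∃ f, orderOf D.y = 2 ^ f := by
  obtain ⟨m, hm⟩ := D.P.2 ⟨D.y, D.ymem⟩
  have h : D.y ^ 2 ^ m = 1 := congrArg Subtype.val hm
  obtain ⟨f, -, hf⟩ := (Nat.dvd_prime_pow Nat.prime_two).1 (orderOf_dvd_of_pow_eq_one h)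
  exact ⟨f, hf⟩

variable [Finite G] [Finite Ω]

theorem card_P : Nat.card (D.P : Subgroup G) = 2 ^ e * Nat.card (Subgroup.zpowers D.y) := by
  have hzx : Nat.card (Subgroup.zpowers D.x) = 2 ^ e := by rw [Nat.card_zpowers, D.ordx]
  rw [← hzx, ← Nat.card_prod]
  symm
  refine Nat.card_eq_of_bijective
    (fun p : Subgroup.zpowers D.x × Subgroup.zpowers D.y =>
      (⟨p.1 * p.2, mul_mem (Subgroup.zpowers_le.2 D.xmem p.1.2)
        (Subgroup.zpowers_le.2 D.ymem p.2.2)⟩ : (D.P : Subgroup G))) ⟨?_, ?_⟩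
  · rintro ⟨⟨_, i, rfl⟩, ⟨_, j, rfl⟩⟩ ⟨⟨_, k, rfl⟩, ⟨_, l, rfl⟩⟩ h
    obtain ⟨h1, h2⟩ := D.unique (congrArg Subtype.val h)
    exact Prod.ext (Subtype.ext h1) (Subtype.ext h2)
  · rintro ⟨g, hg⟩
    obtain ⟨i, j, rfl⟩ := D.decomp hg
    exact ⟨(⟨_, i, rfl⟩, ⟨_, j, rfl⟩), rfl⟩

/-- `⟨y⟩` is a Sylow 2-subgroup of the stabiliser. -/
theorem stab_max (H : Hyp G Ω e) (he : 1 ≤ e) {T : Subgroup G} (hT : IsPGroup 2 T)
    (hTS : T ≤ stabilizer G D.α) (hle : Subgroup.zpowers D.y ≤ T) : T = Subgroup.zpowers D.y := by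
  haveI := H.pretransitive he
  obtain ⟨o, ho, hn⟩ := H.card
  refine (Subgroup.eq_of_le_of_card_ge hle ?_).symm
  obtain ⟨k, hk⟩ := IsPGroup.iff_card.1 hT
  have hodd : Odd (D.P : Subgroup G).index := by
    rw [← Nat.not_even_iff_odd, even_iff_two_dvd]; exact D.P.not_dvd_index
  have h1 := (D.P : Subgroup G).card_mul_index
  have h2 := (stabilizer G D.α).card_mul_index
  rw [index_stabilizer_of_transitive G D.α, hn] at h2
  rw [D.card_P, ← h2] at h1
  have h3 : Nat.card (Subgroup.zpowers D.y) * (D.P : Subgroup G).index =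
      Nat.card (stabilizer G D.α) * o := by
    refine Nat.eq_of_mul_eq_mul_left (pow_pos two_pos e) ?_
    rw [← mul_assoc, h1]; ring
  have h4 : 2 ^ k ∣ Nat.card (Subgroup.zpowers D.y) * (D.P : Subgroup G).index := by
    rw [h3, ← hk]
    exact (Subgroup.card_dvd_of_le hTS).mul_right o
  rw [hk]
  exact Nat.le_of_dvd Nat.card_pos
    ((Nat.Coprime.pow_left k hodd.coprime_two_left).dvd_of_dvd_mul_right h4)

/-- `⟨y⟩` fixes exactly the two points `α`, `aα`. -/
theorem fix_y (H : Hyp G Ω e) (he : 1 ≤ e) {ω : Ω} :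
    D.y • ω = ω ↔ ω = D.α ∨ ω = D.a • D.α := by
  classical
  set S := Subgroup.zpowers D.y with hS
  have hSp : IsPGroup 2 S := D.P.2.to_le (Subgroup.zpowers_le.2 D.ymem)
  let F : Set Ω := fixedPoints S Ω
  have hα : D.α ∈ F := fun s => by
    obtain ⟨j, hj⟩ := Subgroup.mem_zpowers_iff.1 s.2
    show (s : G) • D.α = D.α
    rw [← hj, D.y_fix]
  have hmemF : ∀ {ν : Ω}, ν ∈ F ↔ D.y • ν = ν := by
    intro ν
    refine ⟨fun h => h ⟨D.y, Subgroup.mem_zpowers _⟩, fun h s => ?_⟩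
    obtain ⟨j, hj⟩ := Subgroup.mem_zpowers_iff.1 s.2
    show (s : G) • ν = ν
    rw [← hj]
    exact mem_stabilizer_iff.1 (zpow_mem (mem_stabilizer_iff.2 h : D.y ∈ stabilizer G ν) j)
  -- `a` normalises `⟨y⟩`
  have haN : D.a ∈ Subgroup.normalizer (S : Set G) := by
    set SP := S.subgroupOf (D.P : Subgroup G)
    haveI : Group.IsNilpotent (D.P : Subgroup G) := D.P.2.isNilpotent
    have hlt : SP < ⊤ := lt_top_iff_ne_top.2 fun htop => by
      have hx : (⟨D.x, D.xmem⟩ : (D.P : Subgroup G)) ∈ SP := htop ▸ Subgroup.mem_top _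
      obtain ⟨j, hj⟩ := Subgroup.mem_zpowers_iff.1 (Subgroup.mem_subgroupOf.1 hx)
      have h := D.free D.α 1 (by rw [zpow_one]; conv_lhs => rw [show D.x = D.y ^ j from hj.symm]; exact D.y_fix j)
      have h2 : orderOf D.x = 1 := orderOf_eq_one_iff.2 (by simpa using h)
      have h3 : 2 ^ 1 ≤ 2 ^ e := Nat.pow_le_pow_right two_pos he
      rw [D.ordx] at h2
      omega
    obtain ⟨⟨g, hgP⟩, hgN, hgS⟩ := SetLike.exists_of_lt (normalizerCondition_of_isNilpotent SP hlt)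
    obtain ⟨i, j, rfl⟩ := D.decomp hgP
    have hyN : D.y ^ j ∈ Subgroup.normalizer (S : Set G) :=
      Subgroup.le_normalizer (Subgroup.zpow_mem_zpowers _ _)
    have hxN : D.x ^ i ∈ Subgroup.normalizer (S : Set G) := by
      have hg : D.x ^ i * D.y ^ j ∈ Subgroup.normalizer (S : Set G) := by
        refine Subgroup.mem_normalizer_fintype (S := (S : Set G)) fun s hs => ?_
        have hsP : s ∈ (D.P : Subgroup G) := Subgroup.zpowers_le.2 D.ymem hs
        exact (Subgroup.mem_normalizer_iff.1 hgN ⟨s, hsP⟩).1 hs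
      have := mul_mem hg (inv_mem hyN)
      rwa [mul_inv_cancel_right] at this
    have hne : D.x ^ i ≠ 1 := fun h => hgS (Subgroup.mem_subgroupOf.2 (by
      show D.x ^ i * D.y ^ j ∈ S
      rw [h, one_mul]; exact Subgroup.zpow_mem_zpowers _ _))
    exact (Subgroup.zpowers_le.2 hxN) (invol_mem D.ordx (Subgroup.zpow_mem_zpowers _ _) hne)
  have haα : D.a • D.α ∈ F := by
    rw [hmemF, ← mul_smul]
    have h : D.a⁻¹ * D.y * D.a ∈ S := by
      have := (Subgroup.mem_normalizer_iff.1 (inv_mem haN) D.y).1 (Subgroup.mem_zpowers _)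
      simpa using this
    obtain ⟨j, hj⟩ := Subgroup.mem_zpowers_iff.1 h
    rw [show D.y * D.a = D.a * (D.a⁻¹ * D.y * D.a) by group, ← hj, mul_smul, D.y_fix]
  have hne : D.α ≠ D.a • D.α := fun h => D.a_free he D.α h.symm
  -- there are exactly two fixed points
  haveI : Fintype Ω := Fintype.ofFinite Ω
  have heven : Even (Nat.card F) := by
    have h := hSp.card_modEq_card_fixedPoints Ω
    obtain ⟨o, -, hn⟩ := H.card
    have h2 : 2 ∣ Nat.card Ω := by
      rw [hn]; exact (dvd_pow_self 2 (by omega : e ≠ 0)).mul_right o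
    exact even_iff_two_dvd.2 ((Nat.ModEq.dvd_iff h dvd_rfl).1 h2)
  set N := Subgroup.normalizer (S : Set G) with hN
  have hstable : ∀ (n : N) (ν : Ω), ν ∈ F → (n : G) • ν ∈ F := by
    intro n ν hν
    rw [hmemF, ← mul_smul]
    have h : (n : G)⁻¹ * D.y * n ∈ S := by
      have := (Subgroup.mem_normalizer_iff.1 (inv_mem n.2) D.y).1 (Subgroup.mem_zpowers _)
      simpa using this
    rw [show D.y * n = (n : G) * ((n : G)⁻¹ * D.y * n) by group, mul_smul]
    exact congrArg ((n : G) • ·) (hν ⟨_, h⟩)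
  letI : MulAction N F :=
    { smul := fun n ν => ⟨(n : G) • (ν : Ω), hstable n ν ν.2⟩
      one_smul := fun ν => Subtype.ext (one_smul G (ν : Ω))
      mul_smul := fun n m ν => Subtype.ext (mul_smul (n : G) (m : G) (ν : Ω)) }
  set ρ := toPermHom N F with hρ
  obtain ⟨W₀⟩ : Nonempty (Sylow 2 N) := inferInstance
  set W := W₀.mapSurjective (f := ρ.rangeRestrict) ρ.rangeRestrict_surjective with hW
  -- the image of a Sylow 2-subgroup of the normaliser is cyclic
  have hSN : S ≤ N := Subgroup.le_normalizer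
  have hSW : S.subgroupOf N ≤ (W₀ : Subgroup N) := by
    have hp : IsPGroup 2 (S.subgroupOf N) := hSp.comap_subtype
    haveI : (S.subgroupOf N).Normal := Subgroup.normal_in_normalizer
    have h := IsPGroup.to_sup_of_normal_right W₀.2 hp
    rw [← W₀.3 h le_sup_left]
    exact le_sup_right
  set W' := (W₀ : Subgroup N).map N.subtype with hW'
  have hSW' : S ≤ W' := fun s hs =>
    ⟨⟨s, hSN hs⟩, hSW (Subgroup.mem_subgroupOf.2 hs), rfl⟩
  have hSstab : S ≤ stabilizer G D.α := fun s hs => (hα ⟨s, hs⟩ : s • D.α = D.α)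
  have hinf : W' ⊓ stabilizer G D.α = S :=
    D.stab_max H he ((W₀.2.map _).to_le inf_le_left) inf_le_right (le_inf hSW' hSstab)
  obtain ⟨D', hD'α, hWD', hD'y⟩ := H.exists_fac he D.α (W := W') (W₀.2.map _) (by
    intro T hT hTS hle
    rw [hinf] at hle ⊢
    exact D.stab_max H he hT hTS hle)
  have hcyc : IsCyclic (W : Subgroup ρ.range) := by
    set X := (Subgroup.zpowers D'.x).subgroupOf N
    haveI : IsCyclic X := isCyclic_of_injective
      ((N.subtype.comp X.subtype).codRestrict (Subgroup.zpowers D'.x) fun z => z.2)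
      fun u v huv => Subtype.ext (Subtype.ext (congrArg Subtype.val huv :))
    have hle : (W : Subgroup ρ.range) ≤ X.map ρ.rangeRestrict := by
      rw [hW, Sylow.coe_mapSurjective]
      rintro _ ⟨w, hw, rfl⟩
      obtain ⟨i, j, hij⟩ := D'.decomp (hWD' ⟨w, hw, rfl⟩)
      rw [hinf] at hD'y
      have hyS : D'.y ^ j ∈ S := hD'y ▸ Subgroup.zpow_mem_zpowers _ _
      have hxN : D'.x ^ i ∈ N := by
        have := mul_mem w.2 (inv_mem (hSN hyS))
        rwa [show (w : G) = _ from hij, mul_inv_cancel_right] at this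
      refine ⟨⟨D'.x ^ i, hxN⟩, Subgroup.mem_subgroupOf.2 (Subgroup.zpow_mem_zpowers _ _), ?_⟩
      refine Subtype.ext (Equiv.ext fun ν => Subtype.ext ?_)
      show D'.x ^ i • (ν : Ω) = (w : G) • (ν : Ω)
      rw [show (w : G) = _ from hij, mul_smul]
      exact congrArg (D'.x ^ i • ·) (ν.2 ⟨_, hyS⟩).symm
    haveI : IsCyclic (X.map ρ.rangeRestrict) :=
      isCyclic_of_surjective (ρ.rangeRestrict.subgroupMap X) (ρ.rangeRestrict.subgroupMap_surjective X)
    exact isCyclic_of_injective (Subgroup.inclusion hle) (Subgroup.inclusion_injective hle)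
  have hcard : Nat.card F = 2 := by
    haveI : Nonempty F := ⟨⟨D.α, hα⟩⟩
    refine card_eq_two_of_cyclic_sylow (Γ := ρ.range) (F := F) ?_ heven Nat.card_pos W hcyc
    intro u v w z huv hwz
    obtain ⟨g, hg, hg1, hg2⟩ := H.witt hSp (fun h => huv (Subtype.ext h)) (fun h => hwz (Subtype.ext h))
      (fun s hs => u.2 ⟨s, hs⟩) (fun s hs => v.2 ⟨s, hs⟩) (fun s hs => w.2 ⟨s, hs⟩) (fun s hs => z.2 ⟨s, hs⟩)
    exact ⟨⟨ρ ⟨g, hg⟩, ⟨g, hg⟩, rfl⟩, Subtype.ext hg1, Subtype.ext hg2⟩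
  have hF : F = {D.α, D.a • D.α} := by
    symm
    refine Set.eq_of_subset_of_ncard_le ?_ ?_
    · rintro ν (rfl | rfl)
      · exact hα
      · exact haα
    · rw [← Nat.card_coe_set_eq F, hcard, Set.ncard_pair hne]
  rw [← hmemF, hF]
  simp

end Fac

theorem transitive_of_normal [FaithfulSMul G Ω] (H : Hyp G Ω e) {N : Subgroup G} (hN : N.Normal)
    (hne : N ≠ ⊥) (a b : Ω) :
    ∃ g ∈ N, g • a = b := by
  by_cases hab : b = a
  · exact ⟨1, one_mem N, by rw [one_smul, hab]⟩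
  obtain ⟨⟨o, ho⟩, ho1⟩ := (Subgroup.ne_bot_iff_exists_ne_one (H := N)).1 hne
  obtain ⟨u, hu⟩ : ∃ u : Ω, o • u ≠ u := by
    by_contra hall
    push Not at hall
    exact ho1 (Subtype.ext (FaithfulSMul.eq_of_smul_eq_smul fun v : Ω => by
      show o • v = (1 : G) • v
      rw [hall v, one_smul]))
  obtain ⟨g, hg1, hg2⟩ := H.trans u (o • u) a b (Ne.symm hu) (Ne.symm hab)
  refine ⟨g * o * g⁻¹, hN.conj_mem _ ho g, ?_⟩
  rw [mul_smul, mul_smul, show g⁻¹ • a = u from by rw [inv_smul_eq_iff, hg1], hg2]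

section Parity

variable [Fintype Ω] [DecidableEq Ω]

/-- The parity of the permutation induced by an element. -/
def sgn : G →* ℤˣ := Equiv.Perm.sign.comp (toPermHom G Ω)

variable [Finite G] [FaithfulSMul G Ω] [hp2 : Fact (Nat.Prime 2)]

theorem Fac.sgn_x (D : Fac G Ω e) (H : Hyp G Ω e) (he : 1 ≤ e) : sgn (Ω := Ω) D.x = -1 := by
  obtain ⟨o, ho, hn⟩ := H.card
  set σ : Equiv.Perm Ω := toPerm D.x with hσ
  have hpow : ∀ (k : ℕ) (ω : Ω), (σ ^ k) ω = D.x ^ k • ω := fun k ω => by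
    rw [hσ, ← toPermHom_apply, ← map_pow]; rfl
  have hsupp : σ.support = Finset.univ := by
    refine Finset.eq_univ_of_forall fun ω => Equiv.Perm.mem_support.2 fun h => ?_
    have h1 : D.x ^ (1 : ℤ) = 1 := D.free ω 1 (by rw [zpow_one]; exact h)
    have h3 : 2 ^ 1 ≤ 2 ^ e := Nat.pow_le_pow_right two_pos he
    have h2 := D.ordx
    rw [zpow_one] at h1
    rw [h1, orderOf_one] at h2
    omega
  have hall : ∀ l ∈ σ.cycleType, l = 2 ^ e := by
    intro l hl
    rw [Equiv.Perm.cycleType_def, Multiset.mem_map] at hl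
    obtain ⟨c, hc, rfl⟩ := hl
    obtain ⟨hcy, hceq⟩ := Equiv.Perm.mem_cycleFactorsFinset_iff.1 hc
    obtain ⟨ω, hω⟩ := hcy.nonempty_support
    have hpc : ∀ k : ℕ, (c ^ k) ω = (σ ^ k) ω := by
      intro k
      induction k with
      | zero => rfl
      | succ k ih =>
        rw [pow_succ', pow_succ', Equiv.Perm.mul_apply, Equiv.Perm.mul_apply, ← ih]
        exact hceq _ (Equiv.Perm.pow_apply_mem_support.2 hω)
    refine Nat.dvd_antisymm ?_ ?_
    · have h1 : (c ^ 2 ^ e) ω = ω := by rw [hpc, hpow, D.xpow_two_pow, one_smul]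
      have h2 : c ^ 2 ^ e = 1 := (hcy.pow_eq_one_iff).2 ⟨ω, Equiv.Perm.mem_support.1 hω, h1⟩
      show c.support.card ∣ _
      exact hcy.orderOf ▸ orderOf_dvd_of_pow_eq_one h2
    · have h1 : (σ ^ c.support.card) ω = ω := by
        rw [← hpc, ← hcy.orderOf, pow_orderOf_eq_one]; rfl
      rw [hpow, ← zpow_natCast] at h1
      have h2 := D.free ω _ h1
      rw [zpow_natCast] at h2
      exact D.ordx ▸ orderOf_dvd_of_pow_eq_one h2
  have hrep := Multiset.eq_replicate_of_mem hall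
  have hsum : σ.cycleType.sum = Fintype.card Ω := by
    rw [Equiv.Perm.sum_cycleType, hsupp, Finset.card_univ]
  have hcount : Multiset.card σ.cycleType = o := by
    have h := hsum
    rw [hrep, Multiset.sum_replicate, smul_eq_mul, ← Nat.card_eq_fintype_card, hn, mul_comm] at h
    exact Nat.eq_of_mul_eq_mul_left (pow_pos two_pos e) h
  show Equiv.Perm.sign σ = -1
  rw [Equiv.Perm.sign_of_cycleType, hsum, hcount, ← Nat.card_eq_fintype_card, hn]
  refine Odd.neg_one_pow ?_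
  exact Even.add_odd ((Nat.even_pow.2 ⟨even_two, by omega⟩).mul_right o) ho

theorem Fac.sgn_y (D : Fac G Ω e) (H : Hyp G Ω e) (he : 1 ≤ e) (hn2 : 2 < Nat.card Ω) :
    sgn (Ω := Ω) D.y = -1 := by
  by_contra hne
  have hy : sgn (Ω := Ω) D.y = 1 := (Int.units_eq_one_or _).resolve_right hne
  haveI := H.pretransitive he
  -- the stabiliser consists of even permutations
  have hstab : ∀ g ∈ stabilizer G D.α, sgn (Ω := Ω) g = 1 := by
    intro g hg
    obtain ⟨k, m, hm, hgm⟩ := Nat.exists_eq_two_pow_mul_odd (orderOf_pos g).ne'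
    have h1 : sgn (Ω := Ω) g = sgn (Ω := Ω) (g ^ m) := by
      rw [map_pow]
      rcases Int.units_eq_one_or (sgn (Ω := Ω) g) with h | h <;> rw [h]
      · rw [one_pow]
      · rw [hm.neg_one_pow]
    rw [h1]
    -- a 2-element of the stabiliser is conjugate into `⟨y⟩`
    set S := stabilizer G D.α with hS
    have hsle : Subgroup.zpowers D.y ≤ S := Subgroup.zpowers_le.2 D.y_stab.2
    obtain ⟨R, hR⟩ := ((D.P.2.to_le (Subgroup.zpowers_le.2 D.ymem)).comap_subtype (K := S)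
      : IsPGroup 2 ((Subgroup.zpowers D.y).subgroupOf S)).exists_le_sylow
    have hRy : (R : Subgroup S).map S.subtype = Subgroup.zpowers D.y :=
      D.stab_max H he (R.2.map _) (Subgroup.map_subtype_le _)
        fun z hz => ⟨⟨z, hsle hz⟩, hR (Subgroup.mem_subgroupOf.2 hz), rfl⟩
    have hgp : IsPGroup 2 (Subgroup.zpowers (⟨g, hg⟩ ^ m : S)) := IsPGroup.of_card (n := k) (by
      rw [Nat.card_zpowers, ← Subgroup.orderOf_coe]
      show orderOf (g ^ m) = 2 ^ k
      rw [orderOf_pow' _ hm.pos.ne', hgm, Nat.gcd_eq_right (Dvd.intro_left _ rfl),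
        Nat.mul_div_left _ hm.pos])
    obtain ⟨Q, hQ⟩ := hgp.exists_le_sylow
    obtain ⟨h, hh⟩ := exists_smul_eq S Q R
    have hmem : h * (⟨g, hg⟩ ^ m : S) * h⁻¹ ∈ (R : Subgroup S) := by
      rw [← hh, Sylow.coe_subgroup_smul]
      exact Subgroup.smul_mem_pointwise_smul _ (MulAut.conj h) _ (hQ (Subgroup.mem_zpowers _))
    obtain ⟨j, hj⟩ : ∃ j : ℤ, D.y ^ j = (h : G) * g ^ m * (h : G)⁻¹ := by
      refine Subgroup.mem_zpowers_iff.1 (hRy ▸ ⟨_, hmem, ?_⟩)
      simp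
    have h2 := congrArg (sgn (Ω := Ω)) hj
    rw [map_zpow, hy, one_zpow, map_mul, map_mul, map_inv, mul_comm, inv_mul_cancel_left] at h2
    exact h2.symm
  -- so the even permutations, being transitive, are everything
  set G₀ := (sgn (G := G) (Ω := Ω)).ker with hG₀
  have hG0 : G₀ ≠ ⊥ := by
    intro hbot
    have hinj : Function.Injective (sgn (G := G) (Ω := Ω)) := (MonoidHom.ker_eq_bot_iff _).1 hbot
    have h1 := Nat.card_le_card_of_injective _ hinj
    rw [Nat.card_eq_fintype_card (α := ℤˣ), Fintype.card_units_int] at h1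
    have h3 : Nat.card Ω ≤ Nat.card G :=
      Nat.card_le_card_of_surjective (fun g : G => g • D.α) fun ω => exists_smul_eq G D.α ω
    omega
  obtain ⟨g, hg, hgx⟩ := transitive_of_normal H (inferInstance : G₀.Normal) hG0 D.α (D.x • D.α)
  have h1 := hstab (g⁻¹ * D.x) (by
    rw [mem_stabilizer_iff, mul_smul, ← hgx, inv_smul_smul])
  rw [map_mul, map_inv, MonoidHom.mem_ker.1 hg, inv_one, one_mul, D.sgn_x H he] at h1
  exact absurd h1 (by decide)

end Parity

section Isolated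

variable [Finite G] [Finite Ω] [FaithfulSMul G Ω] [hp2 : Fact (Nat.Prime 2)]

/-- Every involution of a Sylow 2-subgroup is conjugate to another element of it. -/
theorem exists_other_conj (H : Hyp G Ω e) (he : 1 ≤ e) (hn2 : 2 < Nat.card Ω) (P : Sylow 2 G) {u : G}
    (hu : u * u = 1) (hu1 : u ≠ 1) (huP : u ∈ (P : Subgroup G)) :
    ∃ g : G, g * u * g⁻¹ ∈ (P : Subgroup G) ∧ g * u * g⁻¹ ≠ u := by
  by_contra hno
  push Not at hno
  obtain ⟨N, hN, hodd, hcen⟩ := Cfsg.Agent.S0215.result P u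
    (orderOf_eq_prime (by rwa [sq]) hu1) huP hno
  haveI := H.pretransitive he
  obtain ⟨α⟩ : Nonempty Ω := Finite.card_pos_iff.1 (by omega)
  have hNbot : N = ⊥ := by
    by_contra hne
    have horb : orbit N α = Set.univ := Set.eq_univ_of_forall fun b => by
      obtain ⟨g, hg, hgb⟩ := transitive_of_normal H hN hne α b
      exact ⟨⟨g, hg⟩, hgb⟩
    have h1 : Nat.card (orbit N α) ∣ Nat.card N := by
      rw [Nat.card_congr (orbitEquivQuotientStabilizer N α)]
      exact Subgroup.card_quotient_dvd_card _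
    rw [horb, Nat.card_univ] at h1
    obtain ⟨o, -, hn⟩ := H.card
    exact (Nat.not_even_iff_odd.2 hodd) (even_iff_two_dvd.2
      (((hn ▸ (dvd_pow_self 2 (by omega : e ≠ 0)).mul_right o) : 2 ∣ Nat.card Ω).trans h1))
  have hc : ∀ g : G, u * g = g * u := by
    intro g
    have := hcen g
    rw [hNbot, Subgroup.mem_bot, mul_inv_eq_one, mul_inv_eq_iff_eq_mul] at this
    exact this
  obtain ⟨v, hv⟩ : ∃ v : Ω, u • v ≠ v := by
    by_contra hall
    push Not at hall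
    exact hu1 (FaithfulSMul.eq_of_smul_eq_smul fun v : Ω => by rw [hall v, one_smul])
  haveI := Fintype.ofFinite Ω
  classical
  obtain ⟨w, hw⟩ : ∃ w : Ω, w ∉ ({v, u • v} : Finset Ω) := by
    by_contra hall
    push Not at hall
    have h1 : Fintype.card Ω ≤ ({v, u • v} : Finset Ω).card :=
      Finset.card_le_card fun z _ => hall z
    rw [← Nat.card_eq_fintype_card] at h1
    have := h1.trans Finset.card_le_two
    omega
  simp only [Finset.mem_insert, Finset.mem_singleton, not_or] at hw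
  obtain ⟨g, hg1, hg2⟩ := H.trans v (u • v) v w (Ne.symm hv) (Ne.symm hw.1)
  exact hw.2 (by rw [← hg2, ← mul_smul, ← hc, mul_smul, hg1])

/-- A central involution with a square root commuting with a conjugate. -/
theorem eq_of_root (P : Sylow 2 G) {z q c : G}
    (hz : ∀ p ∈ (P : Subgroup G), p * z = z * p) (hzP : z ∈ (P : Subgroup G))
    (hc : c ∈ (P : Subgroup G)) (hcq : c * q = q * c) (hcc : c * c = z)
    {h : G} (hh : h * q * h⁻¹ = z)
    (hsq : ∀ w ∈ (P : Subgroup G), ∀ g : G, w * w = g * z * g⁻¹ → w * w = z) : q = z := by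
  set C := Subgroup.centralizer ({z} : Set G) with hC
  have hPC : (P : Subgroup G) ≤ C := fun p hp =>
    Subgroup.mem_centralizer_singleton_iff.2 (hz p hp)
  have hcC : h * c * h⁻¹ ∈ C := by
    rw [hC, Subgroup.mem_centralizer_singleton_iff, ← hh,
      show h * c * h⁻¹ * (h * q * h⁻¹) = h * (c * q) * h⁻¹ by group, hcq]
    group
  obtain ⟨m, hm⟩ := P.2 ⟨c, hc⟩
  have hp : IsPGroup 2 (Subgroup.zpowers (⟨_, hcC⟩ : C)) := by
    refine fun w => ?_
    obtain ⟨i, hi⟩ := Subgroup.mem_zpowers_iff.1 w.2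
    refine ⟨m, Subtype.ext (Subtype.ext ?_)⟩
    have hm' : c ^ 2 ^ m = 1 := congrArg Subtype.val hm
    have hi' : ((w : C) : G) = (h * c * h⁻¹) ^ i := by rw [← hi]; simp
    show ((w : C) : G) ^ 2 ^ m = 1
    rw [hi', ← zpow_natCast, ← zpow_mul, mul_comm, zpow_mul, zpow_natCast, conj_pow, hm', mul_one,
      mul_inv_cancel, one_zpow]
  obtain ⟨Q, hQ⟩ := hp.exists_le_sylow
  obtain ⟨k, hk⟩ := exists_smul_eq C Q (P.subtype hPC)
  have hmem : k * (⟨_, hcC⟩ : C) * k⁻¹ ∈ ((P.subtype hPC : Sylow 2 C) : Subgroup C) := by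
    rw [← hk, Sylow.coe_subgroup_smul]
    exact Subgroup.smul_mem_pointwise_smul _ (MulAut.conj k) _ (hQ (Subgroup.mem_zpowers _))
  rw [Sylow.coe_subtype, Subgroup.mem_subgroupOf] at hmem
  set g := (k : G) * h with hg
  have hgc : g * c * g⁻¹ ∈ (P : Subgroup G) := by
    convert hmem using 1
    simp [hg, mul_assoc]
  have hgq : g * q * g⁻¹ = z := by
    have hkz : (k : G) * z = z * k := Subgroup.mem_centralizer_singleton_iff.1 k.2
    rw [hg, show (k : G) * h * q * ((k : G) * h)⁻¹ = k * (h * q * h⁻¹) * (k : G)⁻¹ by group, hh, hkz,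
      mul_inv_cancel_right]
  have hsq' : g * c * g⁻¹ * (g * c * g⁻¹) = g * z * g⁻¹ := by rw [← hcc]; group
  have h2 := hsq _ hgc g hsq'
  rw [hsq'] at h2
  exact mul_left_cancel (a := g) (mul_right_cancel (b := g⁻¹) (hgq.trans h2.symm))

end Isolated

end Cfsg.Agent.Lib.CycZFactor60
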