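import Cfsg.Agent.Lib.CycZFactor60.FixSet

/-!
# The centraliser of the involution `t` inside `P = ⟨x⟩⟨y⟩`

Owner: helper60 (row S3252).
-/

set_option autoImplicit false
set_option linter.unusedSectionVars false

universe u v

namespace Cfsg.Agent.Lib.CycZFactor60

open MulAction

variable {G : Type u} [Group G] {Ω : Type v} [MulAction G Ω] {e : ℕ}

/-- What `Fac.fixset` gives. -/
structure Mid (D : Fac G Ω e) (f e' : ℕ) (x₁ : G) : Prop where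
  hf : 2 ≤ f
  ordy : orderOf D.y = 2 ^ f
  he : 2 ≤ e
  he' : 2 ≤ e'
  ord : orderOf x₁ = 2 ^ e'
  mem : x₁ ∈ Subgroup.zpowers D.x
  comm : x₁ * D.t f = D.t f * x₁
  cover : ∀ i : ℤ, D.x ^ i * D.t f = D.t f * D.x ^ i → D.x ^ i ∈ Subgroup.zpowers x₁
  norm : ∀ i : ℤ, x₁ ^ i * (D.y * D.y) * (x₁ ^ i)⁻¹ ∈ Subgroup.zpowers (D.y * D.y)

namespace Fac

variable (D : Fac G Ω e)

theorem sq_zpow (j : ℤ) : (D.y * D.y) ^ j = D.y ^ (2 * j) := by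
  rw [zpow_mul, zpow_ofNat, sq]

theorem sq_le : Subgroup.zpowers (D.y * D.y) ≤ Subgroup.zpowers D.y :=
  Subgroup.zpowers_le.2 (mul_mem (Subgroup.mem_zpowers _) (Subgroup.mem_zpowers _))

theorem fix_of_mem_sq {z : G} (hz : z ∈ Subgroup.zpowers (D.y * D.y)) : z • D.α = D.α := by
  obtain ⟨j, rfl⟩ := Subgroup.mem_zpowers_iff.1 hz
  rw [D.sq_zpow, D.y_fix]

/-- `y` is not a power of `y ^ 2`. -/
theorem y_notMem_sq {f : ℕ} (hf : 1 ≤ f) (hy : orderOf D.y = 2 ^ f) :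
    D.y ∉ Subgroup.zpowers (D.y * D.y) := by
  intro h
  obtain ⟨l, hl⟩ := Subgroup.mem_zpowers_iff.1 h
  rw [D.sq_zpow] at hl
  have h1 : D.y ^ (2 * l - 1) = 1 := by rw [zpow_sub, hl, zpow_one, mul_inv_cancel]
  rw [← orderOf_dvd_iff_zpow_eq_one, hy] at h1
  have h2 : (2 : ℤ) ∣ ((2 ^ f : ℕ) : ℤ) := by exact_mod_cast dvd_pow_self 2 (by omega : f ≠ 0)
  have := h2.trans h1
  omega

theorem t_eq {f : ℕ} (hf : 2 ≤ f) : D.t f = (D.y * D.y) ^ 2 ^ (f - 2) := by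
  unfold t
  rw [← sq, ← pow_mul, ← pow_succ']
  congr 2
  omega

end Fac

namespace Mid

variable [Finite G] [Finite Ω] [Fact (Nat.Prime 2)]
variable {D : Fac G Ω e} {f e' : ℕ} {x₁ : G}

theorem x₁_memP (M : Mid D f e' x₁) : x₁ ∈ (D.P : Subgroup G) := Subgroup.zpowers_le.2 D.xmem M.mem

theorem a_eq (M : Mid D f e' x₁) : D.a = x₁ ^ 2 ^ (e' - 1) := by
  have he' := M.he'
  obtain ⟨h1, h2⟩ := invol_pow (by omega : 1 ≤ e') M.ord
  rcases sq_one_cases (by have := M.he; omega : 1 ≤ e) D.ordx (pow_mem M.mem _) h1 with h | h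
  · exact absurd h h2
  · exact h.symm

/-- Normalising `⟨y ^ 2⟩`. -/
theorem conj_sq (M : Mid D f e' x₁) (i : ℤ) {z : G} (hz : z ∈ Subgroup.zpowers (D.y * D.y)) :
    x₁ ^ i * z * (x₁ ^ i)⁻¹ ∈ Subgroup.zpowers (D.y * D.y) := by
  obtain ⟨j, rfl⟩ := Subgroup.mem_zpowers_iff.1 hz
  rw [← conj_zpow]
  exact zpow_mem (M.norm i) j

theorem pow_coset (M : Mid D f e' x₁) (u : ℤ) {z : G} (hz : z ∈ Subgroup.zpowers (D.y * D.y)) (k : ℕ) :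
    ∃ z' ∈ Subgroup.zpowers (D.y * D.y), (x₁ ^ u * z) ^ k = x₁ ^ (u * k) * z' := by
  induction k with
  | zero => exact ⟨1, one_mem _, by simp⟩
  | succ k ih =>
    obtain ⟨z', hz', h⟩ := ih
    refine ⟨x₁ ^ (-u) * z' * (x₁ ^ (-u))⁻¹ * z, mul_mem (M.conj_sq _ hz') hz, ?_⟩
    rw [pow_succ, h, show u * ((k + 1 : ℕ) : ℤ) = u * k + u by push_cast; ring, zpow_add, zpow_neg,
      inv_inv]
    group

/-- `y x₁ y⁻¹` lies in `x₁ ^ u ⟨y ^ 2⟩` with `u ≡ 3 (mod 4)`. -/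
theorem conj_y (M : Mid D f e' x₁) (H : Hyp G Ω e) :
    ∃ (m : ℤ), ∃ z ∈ Subgroup.zpowers (D.y * D.y), D.y * x₁ * D.y⁻¹ = x₁ ^ (4 * m + 3) * z := by
  have he := M.he
  have hf := M.hf
  have he' := M.he'
  obtain ⟨i, j, hij⟩ := D.decomp (mul_mem (mul_mem D.ymem M.x₁_memP) (inv_mem D.ymem))
  have hxi : D.x ^ i * D.t f = D.t f * D.x ^ i := by
    have hc : Commute (D.x ^ i * D.y ^ j) (D.t f) := by
      rw [← hij]
      have h1 : Commute D.y (D.t f) := by show D.y * D.t f = D.t f * D.y; simpa using D.t_comm_y f 1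
      exact (h1.mul_left M.comm).mul_left h1.inv_left
    have := hc.mul_left (show Commute (D.y ^ j)⁻¹ (D.t f) from Commute.inv_left (D.t_comm_y f j))
    rwa [mul_inv_cancel_right] at this
  obtain ⟨u, hu⟩ := Subgroup.mem_zpowers_iff.1 (M.cover i hxi)
  rw [← hu] at hij
  obtain ⟨l, hl⟩ := Int.even_or_odd' j
  rcases hl with hl | hl
  swap
  · exfalso
    have hz0 : D.y ^ (j + 1) ∈ Subgroup.zpowers (D.y * D.y) :=
      Subgroup.mem_zpowers_iff.2 ⟨l + 1, by rw [D.sq_zpow, hl]; ring_nf⟩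
    have h1 : D.y = x₁ ^ (u - 1) * (x₁ * D.y ^ (j + 1) * x₁⁻¹) := by
      calc D.y = (D.y * x₁ * D.y⁻¹) * D.y * x₁⁻¹ := by group
        _ = _ := by rw [hij]; group
    obtain ⟨k, hk⟩ := Subgroup.mem_zpowers_iff.1 (zpow_mem M.mem (u - 1) :
      x₁ ^ (u - 1) ∈ Subgroup.zpowers D.x)
    have hz1 : x₁ * D.y ^ (j + 1) * x₁⁻¹ ∈ Subgroup.zpowers (D.y * D.y) := by
      simpa using M.conj_sq 1 hz0
    obtain ⟨k', hk'⟩ := Subgroup.mem_zpowers_iff.1 (D.sq_le hz1)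
    obtain ⟨-, h2⟩ := D.unique (i := 0) (j := 1) (k := k) (l := k') (by
      rw [hk, hk']; simpa using h1)
    rw [zpow_one, hk'] at h2
    rw [← h2] at hz1
    exact D.y_notMem_sq (by omega) M.ordy hz1
  have hz : D.y ^ j ∈ Subgroup.zpowers (D.y * D.y) :=
    Subgroup.mem_zpowers_iff.2 ⟨l, by rw [D.sq_zpow, hl]⟩
  have hpow : ∀ k : ℕ, ∃ z' ∈ Subgroup.zpowers (D.y * D.y),
      D.y * x₁ ^ k * D.y⁻¹ = x₁ ^ (u * k) * z' := fun k => by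
    rw [← conj_pow, hij]; exact M.pow_coset u hz k
  have hx₁one : ∀ n : ℤ, ((2 ^ e' : ℕ) : ℤ) ∣ n → x₁ ^ n = 1 := fun n hn =>
    orderOf_dvd_iff_zpow_eq_one.1 (by rw [M.ord]; exact hn)
  obtain ⟨m, hm⟩ : ∃ m, u = 4 * m ∨ u = 4 * m + 1 ∨ u = 4 * m + 2 ∨ u = 4 * m + 3 :=
    ⟨u / 4, by omega⟩
  rcases Int.even_or_odd' u with ⟨u', hu' | hu'⟩
  · exfalso
    -- `y` would carry `aα` to `α`
    obtain ⟨z', hz', h⟩ := hpow (2 ^ (e' - 1))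
    have h1 : x₁ ^ (u * ((2 ^ (e' - 1) : ℕ) : ℤ)) = 1 := by
      refine hx₁one _ ?_
      have h2 : ((2 ^ e' : ℕ) : ℤ) = 2 * ((2 ^ (e' - 1) : ℕ) : ℤ) := by
        push_cast; rw [← pow_succ']; congr 1; omega
      rw [h2]
      exact mul_dvd_mul_right ⟨u', hu'⟩ _
    rw [h1, one_mul, ← M.a_eq, mul_inv_eq_iff_eq_mul] at h
    have hfix : D.y • D.a • D.α = D.α := by
      rw [← mul_smul, h, mul_smul, show D.y • D.α = D.α by simpa using D.y_fix 1, D.fix_of_mem_sq hz']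
    rw [(D.fix_y H (by omega)).2 (Or.inr rfl)] at hfix
    exact D.a_free (by omega) D.α hfix
  obtain hm | hm : u = 4 * m + 1 ∨ u = 4 * m + 3 := by omega
  swap
  · exact ⟨m, D.y ^ j, hz, by rw [← hm]; exact hij⟩
  exfalso
  -- `y` would fix a third point
  obtain ⟨z', hz', h⟩ := hpow (2 ^ (e' - 2))
  have h5 : 2 ^ e' = 4 * 2 ^ (e' - 2) := by
    rw [show (4 : ℕ) = 2 ^ 2 by norm_num, ← pow_add]; congr 1; omega
  have h1 : x₁ ^ (u * ((2 ^ (e' - 2) : ℕ) : ℤ)) = x₁ ^ 2 ^ (e' - 2) := by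
    rw [hm, show (4 * m + 1) * ((2 ^ (e' - 2) : ℕ) : ℤ) =
      m * ((4 * 2 ^ (e' - 2) : ℕ) : ℤ) + ((2 ^ (e' - 2) : ℕ) : ℤ) by push_cast; ring, zpow_add,
      hx₁one _ (dvd_mul_of_dvd_right (by rw [h5]) m), one_mul, zpow_natCast]
  rw [h1, mul_inv_eq_iff_eq_mul] at h
  have hfix : D.y • (x₁ ^ 2 ^ (e' - 2) • D.α) = x₁ ^ 2 ^ (e' - 2) • D.α := by
    rw [← mul_smul, h, mul_smul, mul_smul, show D.y • D.α = D.α by simpa using D.y_fix 1,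
      D.fix_of_mem_sq hz']
  obtain ⟨k, hk⟩ := Subgroup.mem_zpowers_iff.1 (pow_mem M.mem (2 ^ (e' - 2)))
  rw [D.fix_y H (by omega), ← hk] at hfix
  have h2 : D.x ^ k * D.x ^ k = 1 := by
    rcases hfix with h' | h'
    · rw [D.free D.α k h', one_mul]
    · have hA : D.x ^ (-k + (2 ^ (e - 1) : ℕ) : ℤ) = 1 := D.free D.α _ (by
        rw [zpow_add, mul_smul, zpow_natCast, ← Fac.a, ← h', zpow_neg, inv_smul_smul])
      rw [zpow_add, zpow_neg, zpow_natCast, inv_mul_eq_one] at hA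
      rw [hA]
      exact (invol_pow (by omega : 1 ≤ e) D.ordx).1
  rw [hk, ← pow_add, ← orderOf_dvd_iff_pow_eq_one, M.ord] at h2
  have h4 := Nat.le_of_dvd (by positivity) h2
  have h6 : 0 < 2 ^ (e' - 2) := pow_pos two_pos _
  omega

/-- `x₁ ^ 2` centralises `y ^ 2`. -/
theorem comm_sq (M : Mid D f e' x₁) (H : Hyp G Ω e) : Commute (x₁ * x₁) (D.y * D.y) := by
  obtain ⟨m, z₁, hz₁, h⟩ := M.conj_y H
  set z := D.y * D.y with hz
  have hcy : ∀ w ∈ Subgroup.zpowers z, Commute D.y w := fun w hw => by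
    obtain ⟨j, rfl⟩ := Subgroup.mem_zpowers_iff.1 hw
    exact ((Commute.refl D.y).mul_right (Commute.refl D.y)).zpow_right j
  obtain ⟨w, hw, hwe⟩ : ∃ w ∈ Subgroup.zpowers z, x₁ * z * x₁⁻¹ = w :=
    ⟨_, by simpa using M.norm 1, rfl⟩
  have hz₁z : Commute z₁ z := by
    obtain ⟨j, rfl⟩ := Subgroup.mem_zpowers_iff.1 hz₁
    exact (Commute.refl z).zpow_left j
  have h1 : (D.y * x₁ * D.y⁻¹) * z * (D.y * x₁ * D.y⁻¹)⁻¹ = w := by
    calc _ = D.y * (x₁ * (D.y⁻¹ * z * D.y) * x₁⁻¹) * D.y⁻¹ := by group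
      _ = D.y * w * D.y⁻¹ := by
        rw [(hcy z (Subgroup.mem_zpowers z)).inv_left.eq, inv_mul_cancel_right, hwe]
      _ = w := by rw [(hcy w hw).eq, mul_inv_cancel_right]
  rw [h] at h1
  have h2 : x₁ ^ (4 * m + 3) * z * (x₁ ^ (4 * m + 3))⁻¹ = x₁ * z * x₁⁻¹ := by
    rw [hwe, ← h1,
      show x₁ ^ (4 * m + 3) * z₁ * z * (x₁ ^ (4 * m + 3) * z₁)⁻¹ =
        x₁ ^ (4 * m + 3) * (z₁ * z * z₁⁻¹) * (x₁ ^ (4 * m + 3))⁻¹ by group,
      hz₁z.eq, mul_inv_cancel_right]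
  have h3 : x₁ ^ (2 * (2 * m + 1)) * z * (x₁ ^ (2 * (2 * m + 1)))⁻¹ = z := by
    rw [show 2 * (2 * m + 1) = -1 + (4 * m + 3) by ring, zpow_add, zpow_neg_one]
    calc x₁⁻¹ * x₁ ^ (4 * m + 3) * z * (x₁⁻¹ * x₁ ^ (4 * m + 3))⁻¹
        = x₁⁻¹ * (x₁ ^ (4 * m + 3) * z * (x₁ ^ (4 * m + 3))⁻¹) * x₁ := by group
      _ = z := by rw [h2]; group
  have h4 : Commute ((x₁ * x₁) ^ (2 * m + 1)) z := by
    rw [← sq, ← zpow_natCast, ← zpow_mul]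
    exact mul_inv_eq_iff_eq_mul.1 h3
  obtain ⟨k, hk⟩ := Subgroup.mem_zpowers_iff.1 (mem_zpowers_odd (z := x₁ * x₁) (k := e') (by
    rw [(Commute.refl x₁).mul_pow, ← M.ord, pow_orderOf_eq_one, one_mul]) (odd_two_mul_add_one m))
  rw [← hk]
  exact h4.zpow_left k

theorem a_mem_sq (M : Mid D f e' x₁) : D.a ∈ Subgroup.zpowers (x₁ * x₁) := by
  have he' := M.he'
  rw [M.a_eq, show 2 ^ (e' - 1) = 2 * 2 ^ (e' - 2) by rw [← pow_succ']; congr 1; omega, pow_mul, sq]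
  exact Subgroup.npow_mem_zpowers _ _

theorem a_comm_sq (M : Mid D f e' x₁) (H : Hyp G Ω e) {z : G}
    (hz : z ∈ Subgroup.zpowers (D.y * D.y)) : Commute D.a z := by
  obtain ⟨k, hk⟩ := Subgroup.mem_zpowers_iff.1 M.a_mem_sq
  obtain ⟨j, rfl⟩ := Subgroup.mem_zpowers_iff.1 hz
  rw [← hk]
  exact ((M.comm_sq H).zpow_left k).zpow_right j

theorem t_mem_sq (M : Mid D f e' x₁) : D.t f ∈ Subgroup.zpowers (D.y * D.y) := by
  rw [D.t_eq M.hf]; exact Subgroup.npow_mem_zpowers _ _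

/-- `y a y⁻¹ ∈ {a, a t}`. -/
theorem y_a (M : Mid D f e' x₁) (H : Hyp G Ω e) :
    D.y * D.a * D.y⁻¹ = D.a ∨ D.y * D.a * D.y⁻¹ = D.a * D.t f := by
  have he := M.he
  have hf := M.hf
  have he' := M.he'
  obtain ⟨m, z, hz, h⟩ := M.conj_y H
  obtain ⟨z', hz', h'⟩ := M.pow_coset (4 * m + 3) hz (2 ^ (e' - 1))
  rw [← h, conj_pow, ← M.a_eq] at h'
  have h1 : x₁ ^ ((4 * m + 3) * ((2 ^ (e' - 1) : ℕ) : ℤ)) = D.a := by
    rw [mul_comm, zpow_mul, zpow_natCast, ← M.a_eq, show (4 * m + 3) = 2 * (2 * m + 1) + 1 by ring,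
      zpow_add, zpow_mul, zpow_ofNat, sq, (D.a_invol (by omega)).1, one_zpow, one_mul, zpow_one]
  rw [h1] at h'
  have haa := (D.a_invol (by omega : 1 ≤ e)).1
  have h2 : z' * z' = 1 := by
    have h3 : (D.y * D.a * D.y⁻¹) * (D.y * D.a * D.y⁻¹) = 1 := by
      rw [show D.y * D.a * D.y⁻¹ * (D.y * D.a * D.y⁻¹) = D.y * (D.a * D.a) * D.y⁻¹ by group, haa,
        mul_one, mul_inv_cancel]
    rwa [h', (M.a_comm_sq H hz').symm.mul_mul_mul_comm, haa, one_mul] at h3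
  rcases sq_one_cases (by omega : 1 ≤ f) M.ordy (D.sq_le hz') h2 with h3 | h3
  · left; rw [h', h3, mul_one]
  · right; rw [h']; unfold Fac.t; rw [← h3]

end Mid

end Cfsg.Agent.Lib.CycZFactor60
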