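import Cfsg.Agent.Lib.CycZFactor60.Abelian

/-!
# The case in which `x` moves `t`: the involution `a` is isolated

Owner: helper60 (row S3252).
-/

set_option autoImplicit false
set_option linter.unusedSectionVars false

universe u v

namespace Cfsg.Agent.Lib.CycZFactor60

open MulAction

variable {G : Type u} [Group G] [Finite G] {Ω : Type v} [Fintype Ω] [DecidableEq Ω] [MulAction G Ω]
  [FaithfulSMul G Ω] [Fact (Nat.Prime 2)] {e : ℕ} {D : Fac G Ω e} {f e' : ℕ} {x₁ : G}

namespace Mid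

/-- `P` is faithful on the orbit of `α`. -/
theorem orbit_faithful (M : Mid D f e' x₁) (hxt : ¬ D.x * D.t f = D.t f * D.x) {g : G}
    (hg : g ∈ (D.P : Subgroup G)) (hfix : ∀ i : ℤ, g • (D.x ^ i • D.α) = D.x ^ i • D.α) : g = 1 := by
  by_contra hg1
  have hf := M.hf
  have hgy : g ∈ Subgroup.zpowers D.y := D.mem_y hg (by simpa using hfix 0)
  obtain ⟨k, hk⟩ := Subgroup.mem_zpowers_iff.1 (invol_mem M.ordy hgy hg1)
  have htfix : D.t f • (D.x ^ (1 : ℤ) • D.α) = D.x ^ (1 : ℤ) • D.α := by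
    show D.y ^ 2 ^ (f - 1) • _ = _
    rw [← hk]
    exact mem_stabilizer_iff.1 (Subgroup.zpow_mem (stabilizer G (D.x ^ (1 : ℤ) • D.α))
      (mem_stabilizer_iff.2 (hfix 1)) k)
  rw [zpow_one, ← mul_smul] at htfix
  obtain ⟨ht, ht1⟩ := D.t_invol (by omega : 1 ≤ f) M.ordy
  have h1 : D.x⁻¹ * D.t f * D.x ∈ Subgroup.zpowers D.y := by
    refine D.mem_y (mul_mem (mul_mem (inv_mem D.xmem) (D.t_mem f)) D.xmem) ?_
    rw [mul_assoc, mul_smul, htfix, inv_smul_smul]
  rcases sq_one_cases (by omega : 1 ≤ f) M.ordy h1 (by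
      rw [show D.x⁻¹ * D.t f * D.x * (D.x⁻¹ * D.t f * D.x) = D.x⁻¹ * (D.t f * D.t f) * D.x by group,
        ht, mul_one, inv_mul_cancel]) with h | h
  · exact ht1 (by
      rw [mul_assoc, inv_mul_eq_one] at h
      exact mul_right_cancel (show D.t f * D.x = 1 * D.x by rw [one_mul, ← h]))
  · refine hxt ?_
    have h2 : D.x⁻¹ * D.t f * D.x = D.t f := h
    calc D.x * D.t f = D.x * (D.x⁻¹ * D.t f * D.x) := by rw [h2]
      _ = D.t f * D.x := by group

/-- The case `x t ≠ t x` is impossible. -/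
theorem moved_false (M : Mid D f e' x₁) (H : Hyp G Ω e) (hxt : ¬ D.x * D.t f = D.t f * D.x) :
    False := by
  have he := M.he
  have hf := M.hf
  have he' := M.he'
  have hy := M.ordy
  obtain ⟨ht, ht1⟩ := D.t_invol (by omega : 1 ≤ f) hy
  obtain ⟨haa, ha1⟩ := D.a_invol (by omega : 1 ≤ e)
  set a := D.a with hadef
  set t := D.t f with htdef
  have hax : Commute D.x a := (Commute.refl D.x).pow_right _
  have hat : Commute a t := by
    rw [hadef, M.a_eq]
    exact Commute.pow_left M.comm _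
  have hyt : Commute D.y t := (Commute.refl D.y).pow_right _
  -- the element of order four of `⟨x⟩`
  set b := D.x ^ 2 ^ (e - 2) with hb
  have hbb : b * b = a := by
    rw [hb, ← pow_add, hadef]; unfold Fac.a
    congr 1; rw [← two_mul, ← pow_succ']; congr 1; omega
  have hbt : Commute b t := by
    set w := x₁ ^ 2 ^ (e' - 2) with hw
    have hww : w * w = a := by
      rw [hw, ← pow_add, hadef, M.a_eq]; congr 1; rw [← two_mul, ← pow_succ']; congr 1; omega
    have hwX : w ∈ Subgroup.zpowers D.x := pow_mem M.mem _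
    have hbX : b ∈ Subgroup.zpowers D.x := Subgroup.npow_mem_zpowers _ _
    have hbw : b * w⁻¹ * (b * w⁻¹) = 1 := by
      obtain ⟨i, hi⟩ := Subgroup.mem_zpowers_iff.1 hwX
      have hcm : Commute w⁻¹ b := by
        rw [← hi, hb]; exact (((Commute.refl D.x).zpow_left i).pow_right _).inv_left
      rw [hcm.mul_mul_mul_comm, hbb, ← mul_inv_rev, hww, mul_inv_cancel]
    have hwt : Commute w t := Commute.pow_left M.comm _
    rcases sq_one_cases (by omega : 1 ≤ e) D.ordx (mul_mem hbX (inv_mem hwX)) hbw with h | h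
    · rw [mul_inv_eq_one] at h; rw [h]; exact hwt
    · rw [mul_inv_eq_iff_eq_mul] at h
      rw [h]
      exact hat.mul_left hwt
  -- `t` normalises `⟨x⟩`
  have htN : t * D.x * t⁻¹ ∈ Subgroup.zpowers D.x := by
    set SP := (Subgroup.zpowers D.x).subgroupOf (D.P : Subgroup G) with hSP
    haveI : Group.IsNilpotent (D.P : Subgroup G) := D.P.2.isNilpotent
    have hlt : SP < ⊤ := lt_top_iff_ne_top.2 fun htop => by
      obtain ⟨i, hi⟩ := Subgroup.mem_zpowers_iff.1 (Subgroup.mem_subgroupOf.1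
        (show (⟨D.y, D.ymem⟩ : (D.P : Subgroup G)) ∈ SP from htop ▸ Subgroup.mem_top _))
      obtain ⟨h1, h2⟩ := D.eq_one (i := i) (j := -1) (by
        rw [hi, zpow_neg_one]; exact mul_inv_cancel _)
      rw [zpow_neg_one, inv_eq_one] at h2
      have h3 : 2 ^ 2 ≤ 2 ^ f := Nat.pow_le_pow_right two_pos hf
      rw [h2, orderOf_one] at hy
      omega
    obtain ⟨⟨g, hgP⟩, hgN, hgS⟩ := SetLike.exists_of_lt (normalizerCondition_of_isNilpotent SP hlt)
    obtain ⟨i, j, rfl⟩ := D.decomp hgP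
    have hgN' : D.x ^ i * D.y ^ j ∈ Subgroup.normalizer (Subgroup.zpowers D.x : Set G) := by
      refine Subgroup.mem_normalizer_fintype (S := (Subgroup.zpowers D.x : Set G)) fun s hs => ?_
      exact (Subgroup.mem_normalizer_iff.1 hgN
        ⟨s, Subgroup.zpowers_le.2 D.xmem hs⟩).1 hs
    have hxN : D.x ^ i ∈ Subgroup.normalizer (Subgroup.zpowers D.x : Set G) :=
      Subgroup.le_normalizer (Subgroup.zpow_mem_zpowers _ _)
    have hyN : D.y ^ j ∈ Subgroup.normalizer (Subgroup.zpowers D.x : Set G) := by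
      have := mul_mem (inv_mem hxN) hgN'
      rwa [inv_mul_cancel_left] at this
    have hne : D.y ^ j ≠ 1 := fun h => hgS (Subgroup.mem_subgroupOf.2 (by
      show D.x ^ i * D.y ^ j ∈ Subgroup.zpowers D.x
      rw [h, mul_one]; exact Subgroup.zpow_mem_zpowers _ _))
    have htN' : t ∈ Subgroup.normalizer (Subgroup.zpowers D.x : Set G) :=
      Subgroup.zpowers_le.2 hyN (invol_mem hy (Subgroup.zpow_mem_zpowers _ _) hne)
    exact (Subgroup.mem_normalizer_iff.1 htN' D.x).1 (Subgroup.mem_zpowers _)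
  obtain ⟨v, hv⟩ := Subgroup.mem_zpowers_iff.1 htN
  -- `t x t = x a`
  have htx : t * D.x * t⁻¹ = D.x * a := by
    have hv4 : (4 : ℤ) ∣ v - 1 := by
      have h1 : (D.x ^ v) ^ 2 ^ (e - 2) = D.x ^ 2 ^ (e - 2) := by
        rw [hv, conj_pow, ← hb]; exact mul_inv_eq_iff_eq_mul.2 hbt.symm
      have h2 : D.x ^ ((v - 1) * ((2 ^ (e - 2) : ℕ) : ℤ)) = 1 := by
        rw [sub_mul, one_mul, zpow_sub, zpow_mul, zpow_natCast, zpow_natCast, h1, mul_inv_cancel]
      rw [← orderOf_dvd_iff_zpow_eq_one, D.ordx,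
        show ((2 ^ e : ℕ) : ℤ) = 4 * ((2 ^ (e - 2) : ℕ) : ℤ) by
          push_cast; rw [show (4 : ℤ) = 2 ^ 2 by norm_num, ← pow_add]; congr 1; omega] at h2
      exact Int.dvd_of_mul_dvd_mul_right (by positivity) h2
    obtain ⟨m, hm⟩ := hv4
    have hvv : D.x ^ (v * v) = D.x := by
      rw [zpow_mul, hv, conj_zpow, hv,
        show t * (t * D.x * t⁻¹) * t⁻¹ = (t * t) * D.x * (t * t)⁻¹ by group, ht, one_mul, inv_one,
        mul_one]
    have h8 : D.x ^ (8 * m) = 1 := by
      have h3 : D.x ^ (8 * m * (2 * m + 1)) = 1 := by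
        rw [show 8 * m * (2 * m + 1) = v * v + -1 by
          rw [show v = 4 * m + 1 by linarith]; ring, zpow_add, hvv, zpow_neg_one, mul_inv_cancel]
      rw [zpow_mul] at h3
      have h4 := mem_zpowers_odd (z := D.x ^ (8 * m)) (k := e) (by
        rw [← zpow_natCast, ← zpow_mul, mul_comm, zpow_mul, zpow_natCast, D.xpow_two_pow, one_zpow])
        (odd_two_mul_add_one m)
      rw [h3, Subgroup.zpowers_one_eq_bot, Subgroup.mem_bot] at h4
      exact h4
    have h4m : D.x ^ (4 * m) * D.x ^ (4 * m) = 1 := by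
      rw [← zpow_add, show 4 * m + 4 * m = 8 * m by ring, h8]
    rcases sq_one_cases (by omega : 1 ≤ e) D.ordx (Subgroup.zpow_mem_zpowers _ _) h4m with h | h
    · exfalso
      refine hxt ?_
      rw [show v = 4 * m + 1 by linarith, zpow_add, h, one_mul, zpow_one] at hv
      exact eq_mul_inv_iff_mul_eq.1 hv
    · rw [← hv, show v = 1 + 4 * m by linarith, zpow_add, zpow_one, h]
      rfl
  have htinv : t⁻¹ = t := inv_eq_of_mul_eq_one_right ht
  have hainv : a⁻¹ = a := inv_eq_of_mul_eq_one_right haa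
  have hxtx : D.x * t * D.x⁻¹ = a * t := by
    have h1 : t * D.x⁻¹ * t⁻¹ = a⁻¹ * D.x⁻¹ := by
      rw [← mul_inv_rev, ← htx]; group
    calc D.x * t * D.x⁻¹ = D.x * (t * D.x⁻¹ * t⁻¹) * t := by group
      _ = D.x * (a * D.x⁻¹) * t := by rw [h1, hainv]
      _ = a * t := by rw [← mul_assoc, hax.eq, mul_inv_cancel_right]
  have hx2t : Commute (D.x * D.x) t := by
    refine mul_inv_eq_iff_eq_mul.1 ?_
    calc D.x * D.x * t * (D.x * D.x)⁻¹ = D.x * (D.x * t * D.x⁻¹) * D.x⁻¹ := by group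
      _ = D.x * (a * t) * D.x⁻¹ := by rw [hxtx]
      _ = a * (D.x * t * D.x⁻¹) := by rw [← mul_assoc, hax.eq]; group
      _ = t := by rw [hxtx, ← mul_assoc, haa, one_mul]
  -- the conjugates of `t`
  have hconj_t : ∀ i : ℤ, (Even i → Commute (D.x ^ i) t) ∧
      (¬ Even i → D.x ^ i * t * (D.x ^ i)⁻¹ = a * t) := by
    intro i
    have hev : ∀ k : ℤ, Commute (D.x ^ (2 * k)) t := fun k => by
      rw [← D.xsq_zpow]; exact hx2t.zpow_left k
    constructor
    · rintro ⟨k, rfl⟩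
      rw [← two_mul]; exact hev k
    · intro hi
      obtain ⟨k, rfl⟩ := Int.not_even_iff_odd.1 hi
      rw [show 2 * k + 1 = 1 + 2 * k by ring, zpow_add, zpow_one,
        show D.x * D.x ^ (2 * k) * t * (D.x * D.x ^ (2 * k))⁻¹ =
          D.x * (D.x ^ (2 * k) * t * (D.x ^ (2 * k))⁻¹) * D.x⁻¹ by group,
        (hev k).eq, mul_inv_cancel_right, hxtx]
  have hat_ne : a * t ≠ t := fun h => ha1 (mul_eq_right.1 h)
  have hct_even : ∀ i j : ℤ, Commute (D.x ^ i * D.y ^ j) t → Even i := by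
    intro i j h
    by_contra hi
    have h1 : Commute (D.x ^ i) t := by
      have := h.mul_left (hyt.zpow_left j).inv_left
      rwa [mul_inv_cancel_right] at this
    have h2 := (hconj_t i).2 hi
    rw [h1.eq, mul_inv_cancel_right] at h2
    exact hat_ne h2.symm
  -- `x ^ 2` commutes with `y ^ 2`
  have hya2 : Commute a (D.y * D.y) := M.a_comm_sq H (Subgroup.mem_zpowers _)
  have hz_even : ∀ g : G, g ∈ (D.P : Subgroup G) → Commute g t → sgn (Ω := Ω) g = 1 →
      ∃ i j : ℤ, Even i ∧ Even j ∧ g = D.x ^ i * D.y ^ j := by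
    intro g hg hgt hsg
    obtain ⟨i, j, rfl⟩ := D.decomp hg
    have hi := hct_even i j hgt
    exact ⟨i, j, hi, (Int.even_add.1 (D.even_add H he hsg)).1 hi, rfl⟩
  have hyyt : Commute (D.y * D.y) t := hyt.mul_left hyt
  have hzt : ∀ s : G, s * (a * t) * s⁻¹ = t → Commute (s * (D.y * D.y) * s⁻¹) t := by
    intro s hs
    have h1 : Commute (D.y * D.y) (a * t) := hya2.symm.mul_right hyyt
    have h2 := h1.map (MulAut.conj s).toMonoidHom
    simp only [MulEquiv.coe_toMonoidHom, MulAut.conj_apply] at h2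
    rwa [hs] at h2
  obtain ⟨k2, hk2⟩ := Subgroup.mem_zpowers_iff.1 (M.cover 2 (by
    rw [zpow_ofNat, sq]; exact hx2t.eq))
  rw [zpow_ofNat, sq] at hk2
  have hc : Commute (D.x * D.x) (D.y * D.y) := by
    set z := D.y * D.y with hz
    set c := D.x * D.x * z * (D.x * D.x)⁻¹ * z⁻¹ with hcdef
    have hcmem : c ∈ Subgroup.zpowers z :=
      mul_mem (hk2 ▸ M.norm k2) (inv_mem (Subgroup.mem_zpowers _))
    have hnorm2 : ∀ (k : ℤ) (w : G), w ∈ Subgroup.zpowers z →
        D.x ^ (2 * k) * w * (D.x ^ (2 * k))⁻¹ ∈ Subgroup.zpowers z := fun k w hw => by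
      rw [← D.xsq_zpow, ← hk2, ← zpow_mul]
      exact M.conj_sq _ hw
    -- conjugating `c` by `x`
    have hzx : Commute (D.x⁻¹ * z * D.x) t := by
      have h := hzt D.x⁻¹ (by rw [← hxtx]; group)
      rwa [inv_inv] at h
    obtain ⟨p, r, hp, hr, hpr⟩ := hz_even (D.x⁻¹ * z * D.x)
      (mul_mem (mul_mem (inv_mem D.xmem) (mul_mem D.ymem D.ymem)) D.xmem) hzx (by
        have := sgn_conj (Ω := Ω) D.x⁻¹ z
        rw [inv_inv] at this
        rw [this, hz, sgn_mul_self])
    obtain ⟨p', hp'⟩ := hp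
    obtain ⟨r', hr'⟩ := hr
    have hyr : D.y ^ r ∈ Subgroup.zpowers z :=
      Subgroup.mem_zpowers_iff.2 ⟨r', by rw [hz, D.sq_zpow, hr', two_mul]⟩
    have hcx : D.x⁻¹ * c * D.x ∈ Subgroup.zpowers z := by
      have h1 : D.x⁻¹ * c * D.x = D.x * D.x * (D.x⁻¹ * z * D.x) * (D.x * D.x)⁻¹ * (D.x⁻¹ * z * D.x)⁻¹ := by
        rw [hcdef]; group
      rw [h1, hpr, show D.x * D.x * (D.x ^ p * D.y ^ r) * (D.x * D.x)⁻¹ * (D.x ^ p * D.y ^ r)⁻¹ =
        D.x ^ p * (D.x * D.x * D.y ^ r * (D.x * D.x)⁻¹ * (D.y ^ r)⁻¹) * (D.x ^ p)⁻¹ by group, hp',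
        ← two_mul]
      refine hnorm2 p' _ (mul_mem ?_ (inv_mem hyr))
      have := hnorm2 1 _ hyr
      rwa [mul_one, zpow_ofNat, sq] at this
    have hcP : c ∈ (D.P : Subgroup G) := Subgroup.zpowers_le.2 (mul_mem D.ymem D.ymem) hcmem
    have hc1 : c = 1 := by
      refine M.orbit_faithful hxt hcP fun i => ?_
      suffices h : (D.x ^ i)⁻¹ * c * D.x ^ i ∈ Subgroup.zpowers z by
        have h2 := D.fix_of_mem_sq h
        rw [mul_smul, mul_smul, inv_smul_eq_iff] at h2
        exact h2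
      rcases Int.even_or_odd' i with ⟨k, rfl | rfl⟩
      · have := hnorm2 (-k) c hcmem
        rwa [mul_neg, zpow_neg, inv_inv] at this
      · have := hnorm2 (-k) _ hcx
        convert this using 1
        rw [show 2 * k + 1 = 1 + 2 * k by ring, zpow_add, zpow_one, mul_neg, zpow_neg]
        group
    exact mul_inv_eq_iff_eq_mul.1 (mul_inv_eq_one.1 hc1)
  -- `a` is central in `P`
  have hya : Commute D.y a := by
    rcases M.y_a H with h | h
    · exact mul_inv_eq_iff_eq_mul.1 h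
    exfalso
    obtain ⟨i, j, hij⟩ := D.decomp (mul_mem (mul_mem D.xmem D.ymem) (inv_mem D.xmem))
    have h1 : D.x ^ i * D.y ^ j * a * (D.x ^ i * D.y ^ j)⁻¹ = t := by
      rw [← hij]
      calc D.x * D.y * D.x⁻¹ * a * (D.x * D.y * D.x⁻¹)⁻¹
          = D.x * D.y * (D.x⁻¹ * a * D.x) * D.y⁻¹ * D.x⁻¹ := by group
        _ = D.x * D.y * a * D.y⁻¹ * D.x⁻¹ := by rw [hax.inv_left.eq, inv_mul_cancel_right]
        _ = D.x * (D.y * a * D.y⁻¹) * D.x⁻¹ := by group
        _ = D.x * (a * t) * D.x⁻¹ := by rw [h]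
        _ = a * (D.x * t * D.x⁻¹) := by rw [← mul_assoc, hax.eq]; group
        _ = t := by rw [hxtx, ← mul_assoc, haa, one_mul]
    have hxy : sgn (Ω := Ω) (D.x ^ i * D.y ^ j) = -1 := by
      rw [← hij, sgn_conj]
      have := D.sgn_eq H he 0 1
      simpa using this
    rw [D.sgn_eq H he] at hxy
    have hodd : ¬ Even (i + j) := fun hev => by
      rw [hev.neg_one_zpow] at hxy; exact absurd hxy (by decide)
    rcases Int.even_or_odd' j with ⟨l, hl | hl⟩
    · have hyj : Commute (D.y ^ j) a := by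
        rw [hl, ← D.sq_zpow]; exact hya2.symm.zpow_left l
      rw [show D.x ^ i * D.y ^ j * a * (D.x ^ i * D.y ^ j)⁻¹ =
        D.x ^ i * (D.y ^ j * a * (D.y ^ j)⁻¹) * (D.x ^ i)⁻¹ by group, hyj.eq, mul_inv_cancel_right,
        (hax.zpow_left i).eq, mul_inv_cancel_right] at h1
      exact hat_ne (by rw [h1, ht]; exact h1.symm ▸ (absurd h1 (fun hh =>
        D.a_free (by omega) D.α (by rw [show D.a = t from hh]; exact D.t_fix f))))
    · have hi : Even i := by
        by_contra hi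
        exact hodd ((Int.not_even_iff_odd.1 hi).add_odd ⟨l, hl⟩)
      have hyj : D.y ^ j * a * (D.y ^ j)⁻¹ = a * t := by
        rw [hl, zpow_add, zpow_one, ← D.sq_zpow,
          show (D.y * D.y) ^ l * D.y * a * ((D.y * D.y) ^ l * D.y)⁻¹ =
            (D.y * D.y) ^ l * (D.y * a * D.y⁻¹) * ((D.y * D.y) ^ l)⁻¹ by group, h,
          ((hya2.symm.mul_right hyyt).zpow_left l).eq, mul_inv_cancel_right]
      rw [show D.x ^ i * D.y ^ j * a * (D.x ^ i * D.y ^ j)⁻¹ =
        D.x ^ i * (D.y ^ j * a * (D.y ^ j)⁻¹) * (D.x ^ i)⁻¹ by group, hyj,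
        ((hax.zpow_left i).mul_right ((hconj_t i).1 hi)).eq, mul_inv_cancel_right] at h1
      exact hat_ne h1
  have haP : ∀ p ∈ (D.P : Subgroup G), p * a = a * p := by
    intro p hp
    obtain ⟨i, j, rfl⟩ := D.decomp hp
    exact ((hax.zpow_left i).mul_left (hya.zpow_left j)).eq
  -- `A` is normal
  have hxA : D.x * (D.y * D.y) * D.x⁻¹ ∈ D.A hc := by
    obtain ⟨i, j, hi, hj, hij⟩ := hz_even (D.x * (D.y * D.y) * D.x⁻¹)
      (mul_mem (mul_mem D.xmem (mul_mem D.ymem D.ymem)) (inv_mem D.xmem))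
      (hzt D.x (by
        calc D.x * (a * t) * D.x⁻¹ = a * (D.x * t * D.x⁻¹) := by rw [← mul_assoc, hax.eq]; group
          _ = t := by rw [hxtx, ← mul_assoc, haa, one_mul]))
      (by rw [sgn_conj, sgn_mul_self])
    rw [hij]; exact D.mem_A_of_even hc hi hj
  obtain ⟨m, z₁, hz₁, hconj⟩ := M.conj_y H
  have hyA : D.y * (D.x * D.x) * D.y⁻¹ ∈ D.A hc := by
    obtain ⟨i, j, hi, hj, hij⟩ := hz_even (D.y * (D.x * D.x) * D.y⁻¹)
      (mul_mem (mul_mem D.ymem (mul_mem D.xmem D.xmem)) (inv_mem D.ymem))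
      ((hyt.mul_left hx2t).mul_left hyt.inv_left)
      (by rw [sgn_conj, sgn_mul_self])
    rw [hij]; exact D.mem_A_of_even hc hi hj
  -- squares conjugate to `a`
  have hsq : ∀ w ∈ (D.P : Subgroup G), ∀ g : G, w * w = g * a * g⁻¹ → w * w = a := by
    intro w hw g hwg
    obtain ⟨i, j, rfl⟩ := D.decomp hw
    have hwt : Commute (D.x ^ i * D.y ^ j * (D.x ^ i * D.y ^ j)) t := by
      by_cases hi : Even i
      · exact (((hconj_t i).1 hi).mul_left (hyt.zpow_left j)).mul_left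
          (((hconj_t i).1 hi).mul_left (hyt.zpow_left j))
      · have h2 : D.x ^ i * D.y ^ j * t * (D.x ^ i * D.y ^ j)⁻¹ = a * t := by
          rw [show D.x ^ i * D.y ^ j * t * (D.x ^ i * D.y ^ j)⁻¹ =
            D.x ^ i * (D.y ^ j * t * (D.y ^ j)⁻¹) * (D.x ^ i)⁻¹ by group,
            (hyt.zpow_left j).eq, mul_inv_cancel_right]
          exact (hconj_t i).2 hi
        refine mul_inv_eq_iff_eq_mul.1 ?_
        generalize hW : D.x ^ i * D.y ^ j = W at h2 hw
        calc W * W * t * (W * W)⁻¹ = W * (W * t * W⁻¹) * W⁻¹ := by group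
          _ = W * a * (t * W⁻¹) := by rw [h2]; group
          _ = a * (W * t * W⁻¹) := by rw [haP W hw]; group
          _ = t := by rw [h2, ← mul_assoc, haa, one_mul]
    obtain ⟨i', j', hi', hj', hij'⟩ := hz_even _ (mul_mem hw hw) hwt (sgn_mul_self _)
    have h1 : D.x ^ i * D.y ^ j * (D.x ^ i * D.y ^ j) * (D.x ^ i * D.y ^ j * (D.x ^ i * D.y ^ j)) = 1 := by
      rw [hwg, show g * a * g⁻¹ * (g * a * g⁻¹) = g * (a * a) * g⁻¹ by group, haa, mul_one,
        mul_inv_cancel]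
    have hne1 : D.x ^ i * D.y ^ j * (D.x ^ i * D.y ^ j) ≠ 1 := by
      rw [hwg]; exact fun h => ha1 (conj_eq_one_iff.1 h)
    rcases D.omega_A hc (by omega) hy (by omega) (hij' ▸ D.mem_A_of_even hc hi' hj') h1 with
      h | h | h | h
    · exact absurd h hne1
    · exact h
    all_goals exfalso
    · rw [h] at hwg
      refine D.a_free (by omega) (g⁻¹ • D.α) ?_
      have h2 : a = g⁻¹ * t * g := by rw [htdef, hwg]; group
      rw [show D.a = g⁻¹ * t * g from h2, ← mul_smul, mul_assoc, mul_inv_cancel, mul_one, mul_smul,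
        D.t_fix f]
    · rw [h] at hwg
      refine D.a_free (by omega) (g⁻¹ • D.x • D.α) ?_
      have h2 : a = g⁻¹ * (D.x * t * D.x⁻¹) * g := by rw [hxtx, hwg]; group
      rw [show D.a = g⁻¹ * (D.x * t * D.x⁻¹) * g from h2, ← mul_smul, ← mul_smul,
        show g⁻¹ * (D.x * t * D.x⁻¹) * g * g⁻¹ * D.x = g⁻¹ * D.x * t by group, mul_smul,
        D.t_fix f, mul_smul]
  -- a conjugate of `a`
  have hn2 : 2 < Nat.card Ω := by
    obtain ⟨o, ho, hn⟩ := H.card
    rw [hn]
    calc 2 < 2 ^ 2 * 1 := by norm_num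
      _ ≤ 2 ^ e * o := Nat.mul_le_mul (Nat.pow_le_pow_right two_pos he) ho.pos
  obtain ⟨g, hgP, hga⟩ := exists_other_conj H (by omega) hn2 D.P haa ha1 D.a_mem
  set q := g * a * g⁻¹ with hq
  have hqq : q * q = 1 := by
    rw [hq, show g * a * g⁻¹ * (g * a * g⁻¹) = g * (a * a) * g⁻¹ by group, haa, mul_one,
      mul_inv_cancel]
  have hqne1 : q ≠ 1 := fun h => ha1 (conj_eq_one_iff.1 h)
  have hqfree : ∀ ω : Ω, q • ω ≠ ω := fun ω h => by
    rw [hq, mul_smul, mul_smul] at h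
    exact D.a_free (by omega) (g⁻¹ • ω) (eq_inv_smul_iff.2 h)
  have hsq_q : sgn (Ω := Ω) q = 1 := by rw [hq, sgn_conj, ← hbb, sgn_mul_self]
  obtain ⟨i, j, hij⟩ := D.decomp hgP
  have hpar := D.even_add H he (hij ▸ hsq_q)
  have hi : ¬ Even i := by
    intro hi
    have hj : Even j := (Int.even_add.1 hpar).1 hi
    rcases D.omega_A hc (by omega) hy (by omega) (hij ▸ D.mem_A_of_even hc hi hj) hqq with
      h | h | h | h
    · exact hqne1 h
    · exact hga h
    · exact hqfree D.α (by rw [h]; exact D.t_fix f)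
    · refine hqfree (D.x • D.α) ?_
      rw [h, show D.a * D.t f = D.x * t * D.x⁻¹ from hxtx.symm, ← mul_smul, inv_mul_cancel_right,
        mul_smul, D.t_fix f]
  have hqinv : q⁻¹ = q := inv_eq_of_mul_eq_one_right hqq
  have hqt : q * t * q = a * t := by
    conv_lhs => arg 2; rw [← hqinv]
    rw [hij, show D.x ^ i * D.y ^ j * t * (D.x ^ i * D.y ^ j)⁻¹ =
      D.x ^ i * (D.y ^ j * t * (D.y ^ j)⁻¹) * (D.x ^ i)⁻¹ by group, (hyt.zpow_left j).eq,
      mul_inv_cancel_right]
    exact (hconj_t i).2 hi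
  have hqa : q * a * q = a := by
    rw [(haP q hgP), mul_assoc, hqq, mul_one]
  -- `b` lies in `A`
  have hbA : b ∈ D.A hc := by
    have he3 : 3 ≤ e := by
      by_contra hlt
      refine hxt ?_
      have : b = D.x := by rw [hb, show e - 2 = 0 by omega, pow_zero, pow_one]
      rw [← this]; exact hbt.eq
    rw [hb, show 2 ^ (e - 2) = 2 * 2 ^ (e - 3) by rw [← pow_succ']; congr 1; omega, pow_mul, sq]
    exact pow_mem (D.xx_mem hc) _
  have hqbA : q * b * q ∈ D.A hc := by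
    conv => enter [2]; arg 2; rw [← hqinv]
    exact D.A_normal hc hxA hyA hgP hbA
  set ε := b⁻¹ * (q * b * q) with hε
  have hεA : ε ∈ D.A hc := mul_mem (inv_mem hbA) hqbA
  have hqbqq : q * b * q * (q * b * q) = a := by
    rw [show q * b * q * (q * b * q) = q * b * (q * q) * b * q by group, hqq, mul_one,
      show q * b * b * q = q * (b * b) * q by group, hbb, hqa]
  have hεε : ε * ε = 1 := by
    have hcm : Commute (q * b * q) b⁻¹ := D.A_comm hc hqbA (inv_mem hbA)
    rw [hε, hcm.mul_mul_mul_comm, hqbqq, ← mul_inv_rev, hbb, hainv, haa]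
  have hqεq : ε * (q * ε * q) = 1 := by
    calc ε * (q * ε * q) = b⁻¹ * (q * b * q) * (q * (b⁻¹ * (q * b * q)) * q) := by rw [hε]
      _ = b⁻¹ * q * b * (q * q) * b⁻¹ * q * b * (q * q) := by group
      _ = 1 := by
        rw [hqq, mul_one, mul_one, mul_inv_cancel_right, mul_assoc b⁻¹ q q, hqq, mul_one, inv_mul_cancel]
  have hroot : ∀ c : G, c ∈ (D.P : Subgroup G) → q * c * q = c → c * c = a → False := by
    intro c hcP hcq hcc
    refine hga (eq_of_root D.P haP D.a_mem hcP ?_ hcc (h := g⁻¹) (by rw [hq]; group) hsq)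
    calc c * q = q * c * q * q := by rw [hcq]
      _ = q * c := by rw [mul_assoc, hqq, mul_one]
  rcases D.omega_A hc (by omega) hy (by omega) hεA hεε with h | h | h | h
  · refine hroot b (D.A_le hc hbA) ?_ hbb
    rw [hε, inv_mul_eq_one] at h
    exact h.symm
  · refine hroot (b * t) (mul_mem (D.A_le hc hbA) (D.t_mem f)) ?_ ?_
    · have h' : q * b * q = b * a := by rw [hadef, ← h, hε, mul_inv_cancel_left]
      calc q * (b * t) * q = q * b * (q * q) * t * q := by rw [hqq]; group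
        _ = (q * b * q) * (q * t * q) := by group
        _ = b * a * (a * t) := by rw [h', hqt]
        _ = b * t := by rw [mul_assoc, ← mul_assoc a, haa, one_mul]
    · rw [(show Commute t b from hbt.symm).mul_mul_mul_comm, hbb, ht, mul_one]
  · rw [h, hqt] at hqεq
    rw [← mul_assoc, ← htdef, ← hat.eq, mul_assoc, ht, mul_one] at hqεq
    exact ha1 hqεq
  · rw [h, ← htdef, ← hadef, show q * (a * t) * q = q * a * (q * q) * t * q by rw [hqq]; group,
      show q * a * (q * q) * t * q = (q * a * q) * (q * t * q) by group, hqa, hqt] at hqεq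
    rw [← mul_assoc a a, haa, one_mul, mul_assoc, ht, mul_one] at hqεq
    exact ha1 hqεq

end Mid

end Cfsg.Agent.Lib.CycZFactor60
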