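import Cfsg.Agent.Lib.CycZFactor60.Local
import Cfsg.Agent.Lib.DicksonId.Consequences
import Cfsg.Agent.Lib.DicksonId.MaxCommon
import Cfsg.Agent.Lib.RecogThree.PSL2Orders
import Cfsg.Agent.Lib.Linear.Order

/-!
# Subgroups of `PSL(2,q)`, `q` odd, all of whose Sylow subgroups are cyclic, are small

Owner: helper60 (row S3252).
-/

set_option autoImplicit false
set_option linter.unusedSectionVars false
set_option linter.style.haveILetI false

namespace Cfsg.Agent.Lib.CycZFactor60

open Matrix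
open Cfsg.Agent.Lib.DicksonFull (pslExt)

variable {F : Type*} [Field F] [Fintype F]

local notation "SL2" => Matrix.SpecialLinearGroup (Fin 2) F
local notation "PSL2" => Matrix.ProjectiveSpecialLinearGroup (Fin 2) F

/-- Two commuting involutions in `PSL(2,q)`, `q` odd. -/
theorem exists_two_invol (h2 : (2 : F) ≠ 0) :
    ∃ x y : PSL2, x * x = 1 ∧ y * y = 1 ∧ x ≠ 1 ∧ y ≠ 1 ∧ x ≠ y ∧ x * y = y * x := by
  obtain ⟨a, b, hab⟩ : ∃ a b : F, a ^ 2 + b ^ 2 = -1 := by
    obtain ⟨p, hp⟩ := CharP.exists F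
    haveI : Fact p.Prime := ⟨CharP.char_is_prime F p⟩
    obtain ⟨a, b, h⟩ := CharP.sq_add_sq F p (-1)
    exact ⟨(a : F), (b : F), by simpa using h⟩
  let s : SL2 := ⟨!![0, 1; -1, 0], by simp [Matrix.det_fin_two_of]⟩
  let t : SL2 := ⟨!![a, b; b, -a], by rw [Matrix.det_fin_two_of]; linear_combination (-1 : F) * hab⟩
  have key : ∀ u v : SL2, (∃ c : F, (v : Matrix (Fin 2) (Fin 2) F) = c • (u : Matrix (Fin 2) (Fin 2) F)) →
      (QuotientGroup.mk u : PSL2) = QuotientGroup.mk v := fun u v h => (AutPSL.mk_eq_mk_iff u v).2 h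
  have hne1 : ∀ u : SL2, (QuotientGroup.mk u : PSL2) = 1 →
      ∃ c : F, (u : Matrix (Fin 2) (Fin 2) F) = c • (1 : Matrix (Fin 2) (Fin 2) F) := fun u h =>
    (AutPSL.mk_eq_mk_iff 1 u).1 h.symm
  refine ⟨QuotientGroup.mk s, QuotientGroup.mk t, ?_, ?_, ?_, ?_, ?_, ?_⟩
  · rw [← QuotientGroup.mk_mul, ← QuotientGroup.mk_one]
    refine (key _ _ ⟨-1, ?_⟩)
    rw [Matrix.SpecialLinearGroup.coe_one, Matrix.SpecialLinearGroup.coe_mul]
    simp [s, Matrix.one_fin_two]
  · rw [← QuotientGroup.mk_mul, ← QuotientGroup.mk_one]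
    refine key _ _ ⟨-1, ?_⟩
    rw [Matrix.SpecialLinearGroup.coe_one, Matrix.SpecialLinearGroup.coe_mul]
    ext i j
    fin_cases i <;> fin_cases j <;>
      simp [t, Matrix.mul_apply, Fin.sum_univ_two] <;>
      first | ring1 | linear_combination hab | linear_combination (-1 : F) * hab
  · intro h
    obtain ⟨c, hc⟩ := hne1 _ h
    have h01 := congrFun (congrFun hc 0) 1
    simp [s] at h01
  · intro h
    obtain ⟨c, hc⟩ := hne1 _ h
    have h00 := congrFun (congrFun hc 0) 0
    have h01 := congrFun (congrFun hc 0) 1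
    have h11 := congrFun (congrFun hc 1) 1
    simp [t] at h00 h01 h11
    have ha : a = 0 := by
      have : (2 : F) * a = 0 := by linear_combination h00 - h11
      exact (mul_eq_zero.1 this).resolve_left h2
    rw [ha, h01] at hab
    simp at hab
  · intro h
    obtain ⟨c, hc⟩ := (AutPSL.mk_eq_mk_iff s t).1 h
    have h00 := congrFun (congrFun hc 0) 0
    have h01 := congrFun (congrFun hc 0) 1
    have h10 := congrFun (congrFun hc 1) 0
    simp [s, t] at h00 h01 h10
    have hb : b = 0 := by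
      have : (2 : F) * b = 0 := by linear_combination h01 + h10
      exact (mul_eq_zero.1 this).resolve_left h2
    rw [h00, hb] at hab
    simp at hab
  · rw [← QuotientGroup.mk_mul, ← QuotientGroup.mk_mul]
    refine key _ _ ⟨-1, ?_⟩
    rw [Matrix.SpecialLinearGroup.coe_mul, Matrix.SpecialLinearGroup.coe_mul]
    simp [s, t]

/-- A subgroup all of whose Sylow subgroups are cyclic has no two commuting involutions. -/
theorem no_two_invol {G : Type*} [Group G] (U : Subgroup G)
    (hU : ∀ T : Subgroup G, IsPGroup 2 T → T ≤ U → IsCyclic T) {x y : G} (hx : x ∈ U) (hy : y ∈ U)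
    (hx2 : x * x = 1) (hy2 : y * y = 1) (hx1 : x ≠ 1) (hy1 : y ≠ 1) (hxy : x ≠ y)
    (hc : x * y = y * x) : False := by
  have hpz : ∀ w : G, w * w = 1 → IsPGroup 2 (Subgroup.zpowers w) := by
    rintro w hw ⟨_, i, rfl⟩
    refine ⟨1, Subtype.ext ?_⟩
    show (w ^ i) ^ (2 ^ 1) = 1
    rw [pow_one, sq, ← (Commute.refl w).mul_zpow, hw, _root_.one_zpow]
  set T := Subgroup.zpowers x ⊔ Subgroup.zpowers y with hT
  have hTp : IsPGroup 2 T := IsPGroup.to_sup_of_normal_right' (hpz x hx2) (hpz y hy2) (by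
    refine le_trans ?_ (Subgroup.centralizer_le_normalizer _)
    rw [Subgroup.zpowers_le, Subgroup.mem_centralizer_iff]
    rintro _ ⟨i, rfl⟩
    exact ((show Commute x y from hc).zpow_right i).symm.eq)
  haveI := hU T hTp (sup_le (Subgroup.zpowers_le.2 hx) (Subgroup.zpowers_le.2 hy))
  have hmem : ∀ w : G, w * w = 1 → ∀ hw : w ∈ T,
      (⟨w, hw⟩ : T) ∈ ({z : T | z ^ 2 = 1} : Set T) := fun w hw _ => by
    simp only [Set.mem_setOf_eq]
    exact Subtype.ext (by rw [SubgroupClass.coe_pow, sq]; exact hw)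
  obtain ⟨w, hw⟩ := IsCyclic.exists_generator (α := T)
  have hxT : x ∈ T := Subgroup.mem_sup_left (Subgroup.mem_zpowers x)
  have hyT : y ∈ T := Subgroup.mem_sup_right (Subgroup.mem_zpowers y)
  obtain ⟨k, hk⟩ := IsPGroup.iff_orderOf.1 hTp w
  have hk1 : 1 ≤ k := by
    rcases Nat.eq_zero_or_pos k with h0 | h0
    · exfalso
      rw [h0, pow_zero, orderOf_eq_one_iff] at hk
      obtain ⟨i, hi⟩ := hw ⟨x, hxT⟩
      apply hx1
      have := congrArg Subtype.val hi
      rw [hk] at this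
      simpa using this.symm
    · exact h0
  have h1 := (sq_one_cases hk1 hk (hw ⟨x, hxT⟩) (Subtype.ext hx2)).resolve_left
    fun h => hx1 (congrArg Subtype.val h)
  have h2 := (sq_one_cases hk1 hk (hw ⟨y, hyT⟩) (Subtype.ext hy2)).resolve_left
    fun h => hy1 (congrArg Subtype.val h)
  exact hxy (congrArg Subtype.val (h1.trans h2.symm))

/-- Commuting involutions in `A₄`. -/
theorem alt_four_pair : ∃ x y : alternatingGroup (Fin 4),
    x * x = 1 ∧ y * y = 1 ∧ x ≠ 1 ∧ y ≠ 1 ∧ x ≠ y ∧ x * y = y * x :=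
  ⟨⟨Equiv.swap 0 1 * Equiv.swap 2 3, Equiv.Perm.mem_alternatingGroup.2 (by decide +kernel)⟩,
    ⟨Equiv.swap 0 2 * Equiv.swap 1 3, Equiv.Perm.mem_alternatingGroup.2 (by decide +kernel)⟩, by decide +kernel⟩

/-- Commuting involutions in `A₅`. -/
theorem alt_five_pair : ∃ x y : alternatingGroup (Fin 5),
    x * x = 1 ∧ y * y = 1 ∧ x ≠ 1 ∧ y ≠ 1 ∧ x ≠ y ∧ x * y = y * x :=
  ⟨⟨Equiv.swap 0 1 * Equiv.swap 2 3, Equiv.Perm.mem_alternatingGroup.2 (by decide +kernel)⟩,
    ⟨Equiv.swap 0 2 * Equiv.swap 1 3, Equiv.Perm.mem_alternatingGroup.2 (by decide +kernel)⟩, by decide +kernel⟩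

/-- Commuting involutions in `S₄`. -/
theorem perm_four_pair : ∃ x y : Equiv.Perm (Fin 4),
    x * x = 1 ∧ y * y = 1 ∧ x ≠ 1 ∧ y ≠ 1 ∧ x ≠ y ∧ x * y = y * x :=
  ⟨Equiv.swap 0 1, Equiv.swap 2 3, by decide +kernel⟩

variable {p f : ℕ} [hp : Fact p.Prime] [CharP F p]

/-- The bound on a Z-subgroup. -/
theorem zSubgroup_bound (hp2 : p ≠ 2) (hq : Fintype.card F = p ^ f) (U : Subgroup PSL2)
    (hU : ∀ (r : ℕ) [Fact r.Prime] (T : Subgroup PSL2), IsPGroup r T → T ≤ U → IsCyclic T) :
    Nat.card U ≤ p ^ f + 1 ∨ 2 * Nat.card U ≤ p * (p ^ f - 1) := by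
  classical
  have hqodd : Odd (Fintype.card F) := by
    rw [hq]; exact (hp.out.odd_of_ne_two hp2).pow
  have hgcd : Nat.gcd 2 (Fintype.card F - 1) = 2 := by
    obtain ⟨k, hk⟩ := hqodd
    rw [hk, show 2 * k + 1 - 1 = 2 * k by omega, Nat.gcd_mul_right_right]
  have h2F : (2 : F) ≠ 0 := by
    rw [Ne, RecogThree.PSL2Orders.two_eq_zero_iff, ← even_iff_two_dvd]
    exact Nat.not_even_iff_odd.2 hqodd
  have hord : ∀ x : PSL2, ¬ p ∣ orderOf x → 2 * orderOf x ≤ p ^ f + 1 := by
    intro x hx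
    rcases DicksonId.orderOf_dvd_of_not_dvd hx with h | h
    all_goals
      rw [hgcd] at h
      have h1 : 1 < Fintype.card F := Fintype.one_lt_card
      have h2 := Nat.le_of_dvd (by obtain ⟨k, hk⟩ := hqodd; omega) h
      rw [← hq]
      omega
  have hfour : ∀ {H : Type} [Group H] (φ : H →* PSL2), Function.Injective φ → φ.range ≤ U →
      ∀ x y : H, x * x = 1 → y * y = 1 → x ≠ 1 → y ≠ 1 → x ≠ y → x * y = y * x → False := by
    intro H _ φ hφ hle x y hx hy hx1 hy1 hxy hc
    exact no_two_invol U (fun T hT hTU => @hU 2 ⟨Nat.prime_two⟩ T hT hTU) (hle ⟨x, rfl⟩) (hle ⟨y, rfl⟩)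
      (by rw [← map_mul, hx, map_one]) (by rw [← map_mul, hy, map_one])
      (fun h => hx1 (hφ (h.trans (map_one φ).symm))) (fun h => hy1 (hφ (h.trans (map_one φ).symm)))
      (fun h => hxy (hφ h)) (by rw [← map_mul, ← map_mul, hc])
  have hrange : ∀ {H : Type} [Group H] (e : U ≃* H), (U.subtype.comp e.symm.toMonoidHom).range ≤ U := by
    rintro H _ e _ ⟨x, rfl⟩
    exact (e.symm x).2
  rcases DicksonId.classify (p := p) U with ⟨hc, hpU⟩ | ⟨k, hk, ⟨x, -, hx⟩, ⟨e⟩⟩ | ⟨P, hP⟩ |
    ⟨-, ⟨e⟩⟩ | ⟨-, ⟨e⟩⟩ | ⟨-, ⟨e⟩⟩ | ⟨k, hk, -, -, g, φ, hg⟩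
  · left
    obtain ⟨w, hw⟩ := hc.exists_generator
    have h1 : Nat.card U = orderOf (w : PSL2) := by
      rw [Subgroup.orderOf_coe, orderOf_eq_card_of_forall_mem_zpowers hw]
    have := hord w (h1 ▸ hpU)
    omega
  · left
    rw [Nat.card_congr e.toEquiv, DihedralGroup.nat_card]
    subst hx
    exact hord x hk
  · right
    -- inside a Sylow normaliser
    set N := Subgroup.normalizer ((P : Subgroup PSL2) : Set PSL2) with hN
    have h1 := DicksonId.card_normalizer_sylow (F := F) P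
    rw [hgcd] at h1
    have hPq : p ^ f ≤ Nat.card (P : Subgroup PSL2) := by
      refine Nat.le_of_dvd Nat.card_pos (P.pow_dvd_card_of_pow_dvd_card ?_)
      have h2 := Linear.two_mul_card_PSL_two_of_odd hqodd
      refine (Nat.Coprime.pow_left f ((Nat.coprime_primes hp.out Nat.prime_two).2 hp2)).dvd_of_dvd_mul_left ?_
      rw [h2, ← hq]
      exact Dvd.intro _ (mul_assoc _ _ _).symm
    have hcycP : Nat.card (U ⊓ (P : Subgroup PSL2) : Subgroup PSL2) ≤ p := by
      haveI := hU p (U ⊓ (P : Subgroup PSL2)) (P.2.to_le inf_le_right) inf_le_left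
      obtain ⟨w, hw⟩ := IsCyclic.exists_generator (α := (U ⊓ (P : Subgroup PSL2) : Subgroup PSL2))
      rw [← orderOf_eq_card_of_forall_mem_zpowers hw, ← Subgroup.orderOf_coe]
      obtain ⟨j, hj⟩ := IsPGroup.iff_orderOf.1 (P.2.to_le inf_le_right) w
      rw [← Subgroup.orderOf_coe] at hj
      rcases Nat.lt_or_ge j 2 with hj2 | hj2
      · rw [hj]
        interval_cases j
        · exact hp.out.one_lt.le
        · rw [pow_one]
      exfalso
      rcases RecogThree.PSL2Orders.orderOf_cases p (w : PSL2) with h | h | h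
      · rw [hj] at h
        have h3 := Nat.le_of_dvd hp.out.pos h
        have h4 : p ^ 2 ≤ p ^ j := Nat.pow_le_pow_right hp.out.pos hj2
        have := hp.out.two_le
        nlinarith
      all_goals
        rw [hj, DicksonId.dd_eq_gcd (p := p), hgcd] at h
        have h2 : p ∣ _ := ((dvd_pow_self p (by omega : j ≠ 0)).trans h).trans
          (Nat.div_dvd_of_dvd (by obtain ⟨i, hi⟩ := hqodd; rw [hi]; omega))
        have h5 : f ≠ 0 := by
          rintro rfl
          have := Fintype.one_lt_card (α := F)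
          rw [hq, pow_zero] at this
          omega
        have h6 : p ∣ Fintype.card F := hq ▸ dvd_pow_self p h5
        have h7 : p ∣ 1 := by
          obtain ⟨a, ha⟩ := h2
          obtain ⟨b, hb⟩ := h6
          have := Fintype.one_lt_card (α := F)
          refine (Nat.dvd_add_right (Dvd.intro (min a b) rfl)).1 ?_
          rcases le_total a b with hab | hab
          · have hle : p * a ≤ p * b := Nat.mul_le_mul_left _ hab
            rw [min_eq_left hab]
            exact ⟨b, by omega⟩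
          · have hle : p * b ≤ p * a := Nat.mul_le_mul_left _ hab
            rw [min_eq_right hab]
            exact ⟨a, by omega⟩
        exact hp.out.one_lt.ne' (Nat.dvd_one.1 h7)
    have hPN : (P : Subgroup PSL2) ≤ N := Subgroup.le_normalizer
    have h2 : (P : Subgroup PSL2).relIndex N * Nat.card (P : Subgroup PSL2) = Nat.card N := by
      rw [← Subgroup.relIndex_bot_left, mul_comm, Subgroup.relIndex_mul_relIndex _ _ _ bot_le hPN,
        Subgroup.relIndex_bot_left]
    have h3 : (P : Subgroup PSL2).relIndex U ≤ (P : Subgroup PSL2).relIndex N :=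
      Subgroup.relIndex_le_of_le_right hP (by
        rw [Subgroup.relIndex]; exact Subgroup.index_ne_zero_of_finite)
    have h4 : Nat.card U = Nat.card (U ⊓ (P : Subgroup PSL2) : Subgroup PSL2) *
        (P : Subgroup PSL2).relIndex U := by
      have h := Subgroup.relIndex_mul_relIndex ⊥ (U ⊓ (P : Subgroup PSL2)) U bot_le inf_le_left
      rw [Subgroup.relIndex_bot_left, Subgroup.relIndex_bot_left, Subgroup.inf_relIndex_left] at h
      exact h.symm
    have h5 : 2 * (P : Subgroup PSL2).relIndex N ≤ p ^ f - 1 := by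
      rw [hq, ← h2] at h1
      have hpos : 0 < p ^ f := pow_pos hp.out.pos f
      refine Nat.le_of_mul_le_mul_left ?_ hpos
      calc p ^ f * (2 * (P : Subgroup PSL2).relIndex N)
          ≤ Nat.card (P : Subgroup PSL2) * (2 * (P : Subgroup PSL2).relIndex N) :=
            Nat.mul_le_mul_right _ hPq
        _ = p ^ f * (p ^ f - 1) := by rw [← h1]; ring
    rw [h4]
    calc 2 * (Nat.card (U ⊓ (P : Subgroup PSL2) : Subgroup PSL2) * (P : Subgroup PSL2).relIndex U)
        ≤ 2 * (p * (P : Subgroup PSL2).relIndex N) :=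
          Nat.mul_le_mul_left _ (Nat.mul_le_mul hcycP h3)
      _ = p * (2 * (P : Subgroup PSL2).relIndex N) := by ring
      _ ≤ p * (p ^ f - 1) := Nat.mul_le_mul_left _ h5
  · obtain ⟨x, y, h1, h2, h3, h4, h5, h6⟩ := alt_four_pair
    exact (hfour _ (U.subtype_injective.comp e.symm.injective) (hrange e) x y h1 h2 h3 h4 h5 h6).elim
  · obtain ⟨x, y, h1, h2, h3, h4, h5, h6⟩ := perm_four_pair
    exact (hfour _ (U.subtype_injective.comp e.symm.injective) (hrange e) x y h1 h2 h3 h4 h5 h6).elim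
  · obtain ⟨x, y, h1, h2, h3, h4, h5, h6⟩ := alt_five_pair
    exact (hfour _ (U.subtype_injective.comp e.symm.injective) (hrange e) x y h1 h2 h3 h4 h5 h6).elim
  · exfalso
    haveI : Fintype (GaloisField p k) := Fintype.ofFinite _
    have h2K : (2 : GaloisField p k) ≠ 0 := fun h => h2F (by rw [← map_ofNat φ 2, h, map_zero])
    obtain ⟨a, b, ha, hb, ha1, hb1, hab, hc⟩ := exists_two_invol h2K
    have hsub : (pslExt φ).range ≤ DicksonId.conjG g U := by
      rcases hg with hg | ⟨-, -, ψ, hψ, hg⟩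
      · exact hg.ge
      · exact hg ▸ DicksonId.pslExt_range_le hψ
    let ι := U.subtype.comp ((DicksonId.conjGEquiv g U).symm.toMonoidHom.comp
      ((Subgroup.inclusion hsub).comp (pslExt φ).rangeRestrict))
    have hι : Function.Injective ι := U.subtype_injective.comp
      ((DicksonId.conjGEquiv g U).symm.injective.comp ((Subgroup.inclusion_injective hsub).comp
        fun u v huv => DicksonFull.pslExt_injective φ (congrArg Subtype.val huv :)))
    refine hfour ι hι ?_ a b ha hb ha1 hb1 hab hc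
    rintro _ ⟨u, rfl⟩
    exact Subtype.prop _

end Cfsg.Agent.Lib.CycZFactor60
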