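import Cfsg.Agent.Lib.CycZFactor60.Socle
import Cfsg.Agent.Lib.Linear.Simple

/-!
# Facts about the target: automorphism groups with inner part of index two

Owner: helper60 (row S3252).
-/

set_option autoImplicit false
set_option linter.unusedSectionVars false
set_option linter.style.haveILetI false

universe u

namespace Cfsg.Agent.Lib.CycZFactor60

/-- A non-abelian simple group whose inner automorphisms have index two. -/
structure IsTarget (X : Type) [Group X] : Prop where
  simple : IsSimpleGroup X
  nonabelian : ¬ IsMulCommutative X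
  fin : Finite X
  card_aut : Nat.card (MulAut X) = 2 * Nat.card X

theorem Concl.target {G : Type u} [Group G] (h : Concl G) :
    ∃ (X : Type) (_ : Group X), IsTarget X ∧ Nonempty (G ≃* MulAut X) := by
  obtain ⟨F, iF, iFF, p, hp, hp3, hF, ⟨e⟩⟩ := h
  obtain ⟨η⟩ := nonempty_pgl_equiv_aut F p hp hF
  haveI : Fact p.Prime := ⟨hp⟩
  have hodd : Odd (Fintype.card F) := hF ▸ hp.odd_of_ne_two (by omega)
  refine ⟨Matrix.ProjectiveSpecialLinearGroup (Fin 2) F, inferInstance,
    ⟨Linear.isSimpleGroup_PSL (le_refl 2) fun _ => by rw [Nat.card_eq_fintype_card]; omega, ?_,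
      inferInstance, ?_⟩, ⟨e.trans η⟩⟩
  · intro hc
    obtain ⟨x, y, hxy⟩ := Linear.exists_not_commute_PSL (ι := Fin 2) (F := F)
      (Linear.commutator_SL_eq_top (le_refl 2) fun _ => by rw [Nat.card_eq_fintype_card]; omega)
    exact hxy (hc.is_comm.comm x y)
  · rw [AutPSL.card_mulAut_PSL (p := p) (f := 1) (by rw [pow_one, hF]) (le_refl 2), if_pos rfl,
      card_PGL_two F hodd, one_mul, one_mul]

namespace IsTarget

variable {X : Type} [Group X] (hX : IsTarget X)

include hX

theorem conj_injective : Function.Injective (MulAut.conj : X →* MulAut X) := by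
  haveI := hX.simple
  rw [← MonoidHom.ker_eq_bot_iff]
  refine (IsSimpleGroup.eq_bot_or_eq_top_of_normal _ (MonoidHom.normal_ker _)).resolve_right fun h => ?_
  refine hX.nonabelian ⟨⟨fun a b => ?_⟩⟩
  have := DFunLike.congr_fun (MonoidHom.mem_ker.1 (h ▸ Subgroup.mem_top a : a ∈ (MulAut.conj : X →* MulAut X).ker)) b
  exact mul_inv_eq_iff_eq_mul.1 this

theorem conj_normal : (MulAut.conj : X →* MulAut X).range.Normal := by
  refine ⟨?_⟩
  rintro _ ⟨x, rfl⟩ σ
  refine ⟨σ x, MulEquiv.ext fun z => ?_⟩
  simp [MulAut.conj_apply]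

theorem eq_one_of_commute {σ : MulAut X}
    (h : ∀ x : X, MulAut.conj x * σ = σ * MulAut.conj x) : σ = 1 := by
  refine MulEquiv.ext fun x => ?_
  have h1 : MulAut.conj (σ x) = MulAut.conj x := by
    refine MulEquiv.ext fun z => ?_
    have h2 := DFunLike.congr_fun (h x) (σ⁻¹ z)
    simp [MulAut.conj_apply] at h2 ⊢
    exact h2.symm
  exact hX.conj_injective h1

theorem ge_conj {N : Subgroup (MulAut X)} (hN : N.Normal) (hne : N ≠ ⊥) :
    (MulAut.conj : X →* MulAut X).range ≤ N := by
  haveI := hX.simple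
  rcases IsSimpleGroup.eq_bot_or_eq_top_of_normal (N.comap (MulAut.conj : X →* MulAut X))
    (hN.comap _) with h | h
  · exfalso
    refine hne (eq_bot_iff.2 fun σ hσ => Subgroup.mem_bot.2 (hX.eq_one_of_commute fun x => ?_))
    have hdis : Disjoint N (MulAut.conj : X →* MulAut X).range := by
      rw [disjoint_iff, eq_bot_iff]
      rintro _ ⟨hy, y, rfl⟩
      have : y ∈ N.comap (MulAut.conj : X →* MulAut X) := hy
      rw [h, Subgroup.mem_bot] at this
      rw [this, map_one]
      exact one_mem _
    exact (Subgroup.commute_of_normal_of_disjoint _ _ hN hX.conj_normal hdis σ _ hσ ⟨x, rfl⟩).symm.eq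
  · rintro _ ⟨x, rfl⟩
    exact (h ▸ Subgroup.mem_top x : x ∈ N.comap (MulAut.conj : X →* MulAut X))

theorem conj_index : (MulAut.conj : X →* MulAut X).range.index = 2 := by
  haveI := hX.fin
  have h := (MulAut.conj : X →* MulAut X).range.card_mul_index
  rw [hX.card_aut, ← Nat.card_congr (MonoidHom.ofInjective hX.conj_injective).toEquiv,
    mul_comm 2] at h
  exact Nat.eq_of_mul_eq_mul_left Nat.card_pos h

theorem index_le {N : Subgroup (MulAut X)} (hN : N.Normal) (hne : N ≠ ⊥) : N.index ≤ 2 :=
  Nat.le_of_dvd two_pos (hX.conj_index ▸ Subgroup.index_dvd_of_le (hX.ge_conj hN hne))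

theorem commutator_eq {N : Subgroup (MulAut X)} (hN : N.Normal) (hne : N ≠ ⊥) :
    ⁅N, N⁆ = (MulAut.conj : X →* MulAut X).range := by
  haveI := hX.conj_normal
  haveI := hX.simple
  refine le_antisymm (le_trans (Subgroup.commutator_mono le_top le_top) ?_) ?_
  · haveI : IsCyclic (MulAut X ⧸ (MulAut.conj : X →* MulAut X).range) :=
      isCyclic_of_prime_card (p := 2) (hp := ⟨Nat.prime_two⟩) (by
        rw [← Subgroup.index_eq_card, hX.conj_index])
    rw [Subgroup.commutator_le]
    intro a _ b _
    rw [← QuotientGroup.eq_one_iff, ← QuotientGroup.mk'_apply, map_commutatorElement,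
      commutatorElement_eq_one_iff_mul_comm]
    exact IsCyclic.isMulCommutative.is_comm.comm _ _
  · have hperf : (⁅(⊤ : Subgroup X), ⊤⁆ : Subgroup X) = ⊤ :=
      (IsSimpleGroup.eq_bot_or_eq_top_of_normal _ inferInstance).resolve_left fun h => by
        refine hX.nonabelian ⟨⟨fun a b => ?_⟩⟩
        have := Subgroup.commutator_mem_commutator (Subgroup.mem_top a) (Subgroup.mem_top b)
        rw [h, Subgroup.mem_bot, commutatorElement_eq_one_iff_mul_comm] at this
        exact this
    rw [MonoidHom.range_eq_map, ← hperf, Subgroup.map_commutator, ← MonoidHom.range_eq_map]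
    exact Subgroup.commutator_mono (hX.ge_conj hN hne) (hX.ge_conj hN hne)

theorem not_solvable : ¬ Group.IsSolvable X := fun h => by
  haveI := hX.simple
  exact hX.nonabelian ⟨⟨fun a b => IsSimpleGroup.comm_iff_isSolvable.2 h a b⟩⟩

end IsTarget

end Cfsg.Agent.Lib.CycZFactor60
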