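import Cfsg.Agent.Lib.CycZFactor60.Factor
import Cfsg.Agent.Lib.CycZFactor60.Target
import Cfsg.Agent.S3559
import Cfsg.Agent.S3972

/-!
# Reduction to the doubly transitive case

Owner: helper60 (row S3252).
-/

set_option autoImplicit false
set_option linter.unusedSectionVars false
set_option linter.style.haveILetI false

universe u

namespace Cfsg.Agent.Lib.CycZFactor60

open MulAction
open Cfsg.Agent.Lib.PrimePowerClass.Radical (solRad solRad_isSolvable solRad_characteristic le_solRad)

variable {Q : Type u} [Group Q] [Finite Q]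

/-- The core-free case: the action on the cosets of a maximal subgroup containing `B`. -/
theorem core_free_case {A B M : Subgroup Q} (h : Factor Q A B) (hns : ¬ Group.IsSolvable Q)
    (hBM : B ≤ M) (hM : IsCoatom M) (hcore : M.normalCore = ⊥) : Concl Q := by
  classical
  obtain ⟨hA, hB, hAB⟩ := h
  haveI := hA
  haveI := hB
  haveI : Fact (Nat.Prime 2) := ⟨Nat.prime_two⟩
  haveI hfaith : FaithfulSMul Q (Q ⧸ M) := by
    refine faithfulSMul_iff.2 fun g hg => ?_
    have h1 : g ∈ (toPermHom Q (Q ⧸ M)).ker := Equiv.ext fun x => hg x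
    rwa [← Subgroup.normalCore_eq_ker, hcore, Subgroup.mem_bot] at h1
  haveI : Nontrivial (Q ⧸ M) := by
    rw [← Finite.one_lt_card_iff_nontrivial, ← Subgroup.index_eq_card]
    exact Subgroup.one_lt_index_of_ne_top hM.1
  set α : Q ⧸ M := ((1 : Q) : Q ⧸ M) with hα
  have hstabα : stabilizer Q α = M := stabilizer_quotient M
  haveI hprim : IsPreprimitive Q (Q ⧸ M) :=
    (isCoatom_stabilizer_iff_preprimitive (G := Q) α).1 (hstabα.symm ▸ hM)
  -- `A` is regular
  have hAtr : ∀ x : Q ⧸ M, ∃ a ∈ A, a • α = x := by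
    intro x
    obtain ⟨g, rfl⟩ := QuotientGroup.mk_surjective x
    obtain ⟨a, ha, b, hb, rfl⟩ := hAB g
    refine ⟨a, ha, ?_⟩
    rw [hα, MulAction.Quotient.smul_coe, smul_eq_mul, mul_one, QuotientGroup.eq,
      inv_mul_cancel_left]
    exact hBM hb
  have hAreg : ∀ a ∈ A, ∀ x : Q ⧸ M, a • x = x → a = 1 := by
    intro a ha x hx
    refine FaithfulSMul.eq_of_smul_eq_smul fun y : Q ⧸ M => ?_
    obtain ⟨b, hb, rfl⟩ := hAtr x
    obtain ⟨c, hc, rfl⟩ := hAtr y
    have hcomm : ∀ u ∈ A, ∀ v ∈ A, u * v = v * u := fun u hu v hv =>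
      congrArg Subtype.val (IsCyclic.isMulCommutative.is_comm.comm (⟨u, hu⟩ : A) ⟨v, hv⟩)
    have h1 : a • α = α := by
      rw [← mul_smul, hcomm a ha b hb, mul_smul] at hx
      exact MulAction.injective b hx
    rw [one_smul, ← mul_smul, hcomm a ha c hc, mul_smul, h1]
  have hMB : M ≤ B := by
    intro m hm
    obtain ⟨a, ha, b, hb, rfl⟩ := hAB m
    have haM : a ∈ M := by
      have := mul_mem hm (inv_mem (hBM hb))
      rwa [mul_inv_cancel_right] at this
    have h1 : a • α = α := by
      rw [← mem_stabilizer_iff, hstabα]; exact haM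
    rw [hAreg a ha α h1, one_mul]
    exact hb
  haveI hMZ : IsZGroup M := IsZGroup.of_injective (f := Subgroup.inclusion hMB)
    (Subgroup.inclusion_injective _)
  have hAcard : Nat.card A = Nat.card (Q ⧸ M) := by
    refine Nat.card_eq_of_bijective (fun a : A => (a : Q) • α) ⟨fun a b hab => ?_, fun x => ?_⟩
    · have h1 := hAreg ((b : Q)⁻¹ * a) (mul_mem (inv_mem b.2) a.2) α (by
        rw [mul_smul, show (a : Q) • α = (b : Q) • α from hab, inv_smul_smul])
      exact Subtype.ext (inv_mul_eq_one.1 h1).symm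
    · obtain ⟨a, ha, hax⟩ := hAtr x
      exact ⟨⟨a, ha⟩, hax⟩
  set n := Nat.card (Q ⧸ M) with hn
  have hn1 : 1 < n := Finite.one_lt_card
  -- the degree is even
  have heven : Even n := by
    by_contra hodd
    refine hns ?_
    obtain ⟨SM⟩ : Nonempty (Sylow 2 M) := inferInstance
    obtain ⟨S, hS⟩ := (SM.2.map M.subtype).exists_le_sylow
    have hSM : (S : Subgroup Q) = (SM : Subgroup M).map M.subtype := by
      symm
      refine Subgroup.eq_of_le_of_card_ge hS ?_
      obtain ⟨k, hk⟩ := IsPGroup.iff_card.1 S.2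
      rw [hk, Subgroup.card_map_of_injective M.subtype_injective]
      refine Nat.le_of_dvd Nat.card_pos (SM.pow_dvd_card_of_pow_dvd_card ?_)
      refine (Nat.Coprime.pow_left k (Nat.prime_two.coprime_iff_not_dvd.2
        (fun hd => hodd (even_iff_two_dvd.2 hd)))).dvd_of_dvd_mul_right ?_
      rw [hn, ← Subgroup.index_eq_card, M.card_mul_index, ← hk]
      exact Subgroup.card_subgroup_dvd_card _
    haveI : IsCyclic (S : Subgroup Q) := by
      rw [hSM]
      exact isCyclic_of_surjective (M.subtype.subgroupMap (SM : Subgroup M))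
        (M.subtype.subgroupMap_surjective _)
    exact solvable_of_cyclic_two S
  have hn2 : 2 < n := by
    by_contra hle
    have h2 : n = 2 := by omega
    haveI : M.Normal := Subgroup.normal_of_index_eq_two (by rw [Subgroup.index_eq_card, ← hn, h2])
    rw [Subgroup.normalCore_eq_self] at hcore
    refine hns ?_
    haveI : IsCyclic (Q ⧸ M) := isCyclic_of_prime_card (p := 2) h2
    haveI : Group.IsSolvable (Q ⧸ M) :=
      Group.isSolvable_of_comm fun a b => IsCyclic.isMulCommutative.is_comm.comm a b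
    exact Group.isSolvable_of_isSolvable_injective (f := QuotientGroup.mk' M)
      ((MonoidHom.ker_eq_bot_iff _).1 (by rw [QuotientGroup.ker_mk', hcore]))
  -- doubly transitive
  obtain ⟨g, hg⟩ := IsCyclic.exists_generator (α := A)
  have hgord : orderOf (g : Q) = n := by
    rw [Subgroup.orderOf_coe, orderOf_eq_card_of_forall_mem_zpowers hg, hAcard]
  have h2t : IsMultiplyPretransitive Q (Q ⧸ M) 2 := by
    by_cases hpp : IsPrimePow n
    · obtain ⟨p, m, hp, hm, hpm⟩ := (isPrimePow_nat_iff n).1 hpp
      obtain rfl : p = 2 := by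
        have h1 : 2 ∣ p ^ m := hpm ▸ heven.two_dvd
        exact ((Nat.prime_dvd_prime_iff_eq Nat.prime_two hp).1 (Nat.prime_two.dvd_of_dvd_pow h1)).symm
      have hm2 : 2 ≤ m := by
        rcases Nat.lt_or_ge m 2 with h | h
        · exfalso
          interval_cases m
          omega
        · exact h
      haveI : Fintype (Q ⧸ M) := Fintype.ofFinite _
      set ρ := toPermHom Q (Q ⧸ M) with hρ
      have hρinj : Function.Injective ρ := MulAction.toPerm_injective
      haveI hrtr : IsPretransitive ρ.range (Q ⧸ M) := ⟨fun a b => by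
        obtain ⟨q, hq⟩ := exists_smul_eq Q a b
        exact ⟨⟨ρ q, q, rfl⟩, hq⟩⟩
      let f : (Q ⧸ M) →ₑ[ρ.rangeRestrict] (Q ⧸ M) :=
        { toFun := id
          map_smul' := fun q x => rfl }
      have hrprim : IsPreprimitive ρ.range (Q ⧸ M) :=
        IsPreprimitive.of_surjective (f := f) Function.surjective_id
      by_contra hno
      refine (Cfsg.Agent.S3972.result 2 m Nat.prime_two hm2
        (by rw [← Nat.card_eq_fintype_card, ← hn, hpm]) ρ.range hrtr ?_ (ρ.rangeRestrict g) ?_).1 hrprim
      · intro h2r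
        refine hno (is_two_pretransitive_iff.2 ?_)
        intro a b c d hab hcd
        obtain ⟨⟨_, q, rfl⟩, h1, h2⟩ := is_two_pretransitive_iff.1 h2r hab hcd
        exact ⟨q, h1, h2⟩
      · rw [← Subgroup.orderOf_coe, MonoidHom.coe_rangeRestrict, orderOf_injective ρ hρinj, hgord,
          hpm]
    · refine (Cfsg.Agent.S3559.result (G := Q) (Ω := Q ⧸ M) inferInstance hn1 hpp A hA
        ⟨⟨fun x y => ?_⟩, fun a => ?_⟩).resolve_left (not_not.2 hprim)
      · obtain ⟨u, hu, rfl⟩ := hAtr x
        obtain ⟨v, hv, rfl⟩ := hAtr y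
        exact ⟨⟨v, hv⟩ * ⟨u, hu⟩⁻¹, by
          show (v * u⁻¹) • u • α = v • α
          rw [mul_smul, inv_smul_smul]⟩
      · rw [eq_bot_iff]
        exact fun u hu => Subtype.ext (hAreg u u.2 a hu)
  -- the hypothesis
  obtain ⟨e, o, ho, hno⟩ := Nat.exists_eq_two_pow_mul_odd (show n ≠ 0 by omega)
  have he : 1 ≤ e := by
    rcases Nat.eq_zero_or_pos e with h | h
    · rw [h, pow_zero, one_mul] at hno
      exact absurd heven (Nat.not_even_iff_odd.2 (hno ▸ ho))
    · exact h
  have hzgroup : ∀ (a : Q ⧸ M) (r : ℕ) [Fact r.Prime] (T : Subgroup Q), IsPGroup r T →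
      T ≤ stabilizer Q a → IsCyclic T := by
    intro a r _ T hT hTa
    obtain ⟨c, hc⟩ := exists_smul_eq Q a α
    let φ : T →* M := ((MulAut.conj c).toMonoidHom.comp T.subtype).codRestrict M fun t => by
      rw [← hstabα, mem_stabilizer_iff]
      show (c * (t : Q) * c⁻¹) • α = α
      rw [mul_smul, mul_smul, ← hc, inv_smul_smul, mem_stabilizer_iff.1 (hTa t.2)]
    have hφ : Function.Injective φ := fun s t hst =>
      Subtype.ext ((MulAut.conj c).injective (congrArg Subtype.val hst :))
    haveI := (hT.of_surjective φ.rangeRestrict φ.rangeRestrict_surjective).isCyclic_of_isZGroup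
    exact isCyclic_of_injective φ.rangeRestrict fun s t hst => hφ (congrArg Subtype.val hst :)
  have H : Hyp Q (Q ⧸ M) e := by
    refine ⟨fun a b c d hab hcd => is_two_pretransitive_iff.1 h2t hab hcd,
      fun a T hT hTa => hzgroup a 2 T hT hTa, ⟨(g : Q) ^ o, ?_, ?_⟩, o, ho, hno⟩
    · rw [orderOf_pow' _ ho.pos.ne', hgord, hno, Nat.gcd_eq_right (Dvd.intro_left _ rfl),
        Nat.mul_div_left _ ho.pos]
    · intro a k hk
      exact hAreg _ (zpow_mem (pow_mem g.2 _) _) a hk
  exact main_transitive H he hn2 hns A hA hAcard hzgroup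

/-- One step of the induction. -/
theorem step {A B : Subgroup Q} (h : Factor Q A B) (hns : ¬ Group.IsSolvable Q)
    (htriv : ∀ N : Subgroup Q, N.Normal → Group.IsSolvable N → N = ⊥)
    (IH : ∀ (G : Type u) [Group G] [Finite G] (A B : Subgroup G), Nat.card G < Nat.card Q →
      ¬ Group.IsSolvable G → Factor G A B → Concl (G ⧸ solRad G)) : Concl Q := by
  classical
  have hBtop : B ≠ ⊤ := by
    rintro rfl
    haveI : IsZGroup (⊤ : Subgroup Q) := h.2.1
    exact hns (Group.isSolvable_of_surjective (f := (⊤ : Subgroup Q).subtype)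
      fun q => ⟨⟨q, Subgroup.mem_top q⟩, rfl⟩)
  obtain ⟨M, hM, hBM⟩ := (eq_top_or_exists_le_coatom B).resolve_left hBtop
  set K := M.normalCore with hK
  by_cases hcore : K = ⊥
  · exact core_free_case h hns hBM hM hcore
  exfalso
  haveI hKn : K.Normal := Subgroup.normalCore_normal M
  have hKM : K ≤ M := Subgroup.normalCore_le M
  have hKns : ¬ Group.IsSolvable K := fun hs => hcore (htriv K hKn hs)
  have hMns : ¬ Group.IsSolvable M := fun hs => hKns (by
    haveI := hs
    exact Group.isSolvable_of_isSolvable_injective (f := Subgroup.inclusion hKM)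
      (Subgroup.inclusion_injective _))
  have hMlt : Nat.card M < Nat.card Q :=
    lt_of_le_of_ne (Subgroup.card_le_card_group M) fun e => hM.1 (Subgroup.eq_top_of_card_eq M e)
  obtain ⟨X, _, hX, ⟨eX⟩⟩ := (IH M _ _ hMlt hMns (h.restrict hBM)).target
  haveI := hX.fin
  set ψ : M →* MulAut X := eX.toMonoidHom.comp (QuotientGroup.mk' (solRad M)) with hψ
  have hψs : Function.Surjective ψ := eX.surjective.comp (QuotientGroup.mk'_surjective _)
  set χ : K →* MulAut X := ψ.comp (Subgroup.inclusion hKM) with hχ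
  -- `χ` is injective
  have hχi : Function.Injective χ := by
    rw [← MonoidHom.ker_eq_bot_iff]
    haveI := solRad_characteristic (G := K)
    have hbot : (solRad K).map K.subtype = ⊥ :=
      htriv _ ConjAct.normal_of_characteristic_of_normal (by
        haveI := solRad_isSolvable (G := K)
        exact Group.isSolvable_of_surjective (K.subtype.subgroupMap_surjective _))
    have hsol : Group.IsSolvable χ.ker := by
      haveI := solRad_isSolvable (G := M)
      refine Group.isSolvable_of_isSolvable_injective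
        (f := ((Subgroup.inclusion hKM).comp χ.ker.subtype).codRestrict (solRad M) fun k => ?_) ?_
      · have h1 : eX (QuotientGroup.mk' (solRad M) (Subgroup.inclusion hKM (k : K))) = 1 := k.2
        rw [← map_one eX] at h1
        exact (QuotientGroup.eq_one_iff _).1 (eX.injective h1)
      · exact fun a b hab => Subtype.ext (Subgroup.inclusion_injective hKM (congrArg Subtype.val hab :))
    rw [eq_bot_iff, ← (Subgroup.map_eq_bot_iff_of_injective _ K.subtype_injective).1 hbot]
    exact le_solRad hsol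
  have hKbar : χ.range.Normal := by
    rw [hχ, MonoidHom.range_comp, Subgroup.inclusion_range]
    exact (inferInstance : (K.subgroupOf M).Normal).map ψ hψs
  have hKbar1 : χ.range ≠ ⊥ := fun hb => hKns (by
    refine Group.isSolvable_of_comm fun a b => hχi ?_
    rw [MonoidHom.range_eq_bot_iff.1 hb]
    rfl)
  -- the derived subgroup of `K`
  set L : Subgroup Q := ⁅K, K⁆ with hL
  haveI hLn : L.Normal := Subgroup.commutator_normal K K
  have hLK : L ≤ K := Subgroup.commutator_le_left K K
  have hLimg : (L.subgroupOf K).map χ = (MulAut.conj : X →* MulAut X).range := by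
    rw [← hX.commutator_eq hKbar hKbar1, MonoidHom.range_eq_map, ← Subgroup.map_commutator]
    congr 1
    refine Subgroup.map_injective K.subtype_injective ?_
    rw [Subgroup.subgroupOf_map_subtype, inf_eq_left.2 hLK, Subgroup.map_commutator,
      ← MonoidHom.range_eq_map, Subgroup.range_subtype]
  let eL : L ≃* X := (Subgroup.subgroupOfEquivOfLe hLK).symm.trans
    (((L.subgroupOf K).equivMapOfInjective χ hχi).trans
      ((MulEquiv.subgroupCongr hLimg).trans (MonoidHom.ofInjective hX.conj_injective).symm))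
  have hLns : ¬ Group.IsSolvable L := fun hs => hX.not_solvable (by
    haveI := hs
    exact Group.isSolvable_of_surjective (f := eL.toMonoidHom) eL.surjective)
  set C := Subgroup.centralizer (L : Set Q) with hC
  haveI hCn : C.Normal := ⟨fun c hc g => Subgroup.mem_centralizer_iff.2 fun l hl => by
    have h1 := Subgroup.mem_centralizer_iff.1 hc (g⁻¹ * l * g) (hLn.conj_mem' l hl g)
    calc l * (g * c * g⁻¹) = g * ((g⁻¹ * l * g) * c) * g⁻¹ := by group
      _ = g * (c * (g⁻¹ * l * g)) * g⁻¹ := by rw [h1]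
      _ = g * c * g⁻¹ * l := by group⟩
  have hCK : C ⊓ K = ⊥ := by
    rw [eq_bot_iff]
    rintro c ⟨hc, hcK⟩
    rw [Subgroup.mem_bot]
    suffices hck : χ ⟨c, hcK⟩ = 1 from congrArg Subtype.val (hχi (hck.trans (map_one χ).symm))
    refine hX.eq_one_of_commute fun x => ?_
    obtain ⟨l, hl, hlx⟩ := hLimg.ge ⟨x, rfl⟩
    rw [← hlx, ← map_mul, ← map_mul]
    congr 1
    exact Subtype.ext (Subgroup.mem_centralizer_iff.1 hc (l : Q) hl)
  by_cases hC1 : C = ⊥
  · -- `Q` would embed in the automorphisms of `L`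
    have hinj : Function.Injective (MulAut.conjNormal : Q →* MulAut L) := by
      refine (injective_iff_map_eq_one _).2 fun q hq => ?_
      have hqC : q ∈ C := Subgroup.mem_centralizer_iff.2 fun l hl => by
        have h1 := congrArg Subtype.val (DFunLike.congr_fun hq ⟨l, hl⟩)
        simp only [MulAut.conjNormal_apply, MulAut.one_apply] at h1
        exact (mul_inv_eq_iff_eq_mul.1 h1).symm
      rwa [hC1, Subgroup.mem_bot] at hqC
    haveI : Finite (MulAut L) := Finite.of_injective _ MulEquiv.toEquiv_injective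
    have h1 := Nat.card_le_card_of_injective _ hinj
    rw [Nat.card_congr (MulAut.congr eL).toEquiv] at h1
    have h2 := Nat.card_le_card_of_surjective ψ hψs
    omega
  have hCns : ¬ Group.IsSolvable C := fun hs => hC1 (htriv C hCn hs)
  have hQKns : ¬ Group.IsSolvable (Q ⧸ K) := fun hs => hCns (by
    haveI := hs
    refine Group.isSolvable_of_isSolvable_injective (f := (QuotientGroup.mk' K).comp C.subtype) ?_
    rw [← MonoidHom.ker_eq_bot_iff, eq_bot_iff]
    intro c hc
    have h1 : (c : Q) ∈ C ⊓ K := ⟨c.2, (QuotientGroup.eq_one_iff _).1 hc⟩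
    rw [hCK, Subgroup.mem_bot] at h1
    exact Subgroup.mem_bot.2 (Subtype.ext h1))
  have hQKlt : Nat.card (Q ⧸ K) < Nat.card Q := by
    rw [← Subgroup.index_eq_card]
    have h1 := K.card_mul_index
    have h2 : 1 < Nat.card K := Finite.one_lt_card_iff_nontrivial.2
      ((Subgroup.nontrivial_iff_ne_bot K).2 hcore)
    have h3 : 0 < K.index := Nat.pos_of_ne_zero Subgroup.index_ne_zero_of_finite
    nlinarith
  obtain ⟨X', _, hX', ⟨eX'⟩⟩ :=
    (IH (Q ⧸ K) _ _ hQKlt hQKns (h.map _ (QuotientGroup.mk'_surjective K))).target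
  set τ : Q →* MulAut X' :=
    eX'.toMonoidHom.comp ((QuotientGroup.mk' (solRad (Q ⧸ K))).comp (QuotientGroup.mk' K)) with hτ
  have hτs : Function.Surjective τ :=
    eX'.surjective.comp ((QuotientGroup.mk'_surjective _).comp (QuotientGroup.mk'_surjective _))
  set D := τ.ker with hD
  have hCD : C ⊓ D = ⊥ := by
    refine htriv _ inferInstance ?_
    haveI := solRad_isSolvable (G := Q ⧸ K)
    refine Group.isSolvable_of_isSolvable_injective
      (f := ((QuotientGroup.mk' K).comp (C ⊓ D).subtype).codRestrict (solRad (Q ⧸ K)) fun c => ?_) ?_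
    · have h1 : eX' (QuotientGroup.mk' (solRad (Q ⧸ K)) (QuotientGroup.mk' K (c : Q))) = 1 := c.2.2
      rw [← map_one eX'] at h1
      exact (QuotientGroup.eq_one_iff _).1 (eX'.injective h1)
    · intro a b hab
      have h1 : (a : Q)⁻¹ * b ∈ K := QuotientGroup.eq.1 (congrArg Subtype.val hab :)
      have h2 : (a : Q)⁻¹ * b ∈ C ⊓ K := ⟨C.mul_mem (C.inv_mem a.2.1) b.2.1, h1⟩
      rw [hCK, Subgroup.mem_bot, inv_mul_eq_one] at h2
      exact Subtype.ext h2
  refine no_two_factors h C D hCD (fun hs => hLns ?_) (fun hs => hCns ?_) ?_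
  · haveI := hs
    refine Group.isSolvable_of_isSolvable_injective (f := (QuotientGroup.mk' C).comp L.subtype) ?_
    rw [← MonoidHom.ker_eq_bot_iff, eq_bot_iff]
    intro l hl
    have h1 : (l : Q) ∈ C ⊓ K := ⟨(QuotientGroup.eq_one_iff _).1 hl, hLK l.2⟩
    rw [hCK, Subgroup.mem_bot] at h1
    exact Subgroup.mem_bot.2 (Subtype.ext h1)
  · haveI := hs
    refine Group.isSolvable_of_isSolvable_injective (f := (QuotientGroup.mk' D).comp C.subtype) ?_
    rw [← MonoidHom.ker_eq_bot_iff, eq_bot_iff]
    intro c hc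
    have h1 : (c : Q) ∈ C ⊓ D := ⟨c.2, (QuotientGroup.eq_one_iff _).1 hc⟩
    rw [hCD, Subgroup.mem_bot] at h1
    exact Subgroup.mem_bot.2 (Subtype.ext h1)
  · haveI := hX'.fin
    have hinjC : Function.Injective (τ.comp C.subtype) := by
      rw [← MonoidHom.ker_eq_bot_iff, eq_bot_iff]
      intro c hc
      have h1 : (c : Q) ∈ C ⊓ D := ⟨c.2, hc⟩
      rw [hCD, Subgroup.mem_bot] at h1
      exact Subgroup.mem_bot.2 (Subtype.ext h1)
    have hn : (C.map τ).Normal := hCn.map τ hτs
    have hne : C.map τ ≠ ⊥ := by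
      intro hb
      refine hC1 (eq_bot_iff.2 fun c hc => ?_)
      have h1 : τ c ∈ C.map τ := ⟨c, hc, rfl⟩
      rw [hb, Subgroup.mem_bot] at h1
      exact hCD ▸ (show c ∈ C ⊓ D from ⟨hc, h1⟩)
    have hcC : Nat.card (C.map τ) = Nat.card C := by
      refine (Nat.card_eq_of_bijective (τ.subgroupMap C) ⟨fun a b hab => ?_,
        τ.subgroupMap_surjective C⟩).symm
      exact hinjC (congrArg Subtype.val hab :)
    have hQD : Nat.card (Q ⧸ D) ≤ 2 * Nat.card C := by
      rw [Nat.card_congr (QuotientGroup.quotientKerEquivOfSurjective τ hτs).toEquiv,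
        ← (C.map τ).card_mul_index, hcC, mul_comm 2]
      exact Nat.mul_le_mul_left _ (hX'.index_le hn hne)
    calc Nat.card (Q ⧸ C) * Nat.card (Q ⧸ D) ≤ Nat.card (Q ⧸ C) * (2 * Nat.card C) :=
          Nat.mul_le_mul_left _ hQD
      _ = 2 * Nat.card Q := by
          rw [Subgroup.card_eq_card_quotient_mul_card_subgroup C]; ring

/-- The theorem. -/
theorem concl_solRad : ∀ (n : ℕ) (G : Type u) [Group G] [Finite G] (A B : Subgroup G),
    Nat.card G = n → ¬ Group.IsSolvable G → Factor G A B → Concl (G ⧸ solRad G) := by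
  intro n
  induction n using Nat.strong_induction_on with
  | _ n ih =>
  intro G _ _ A B hn hns hf
  haveI := solRad_isSolvable (G := G)
  refine step (hf.map _ (QuotientGroup.mk'_surjective (solRad G))) (fun hs => hns ?_) ?_ ?_
  · haveI := hs
    exact Group.isSolvable_of_ker_le_range (solRad G).subtype (QuotientGroup.mk' (solRad G))
      (by rw [QuotientGroup.ker_mk', Subgroup.range_subtype])
  · intro N hN hNs
    haveI : (N.comap (QuotientGroup.mk' (solRad G))).Normal := hN.comap _
    have h1 : N.comap (QuotientGroup.mk' (solRad G)) ≤ solRad G := by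
      refine le_solRad (PrimePowerClass.Radical.isSolvable_of_map (QuotientGroup.mk' (solRad G)) _
        ?_ ?_)
      · exact Group.isSolvable_of_isSolvable_injective (f := Subgroup.inclusion
          (show (QuotientGroup.mk' (solRad G)).ker ⊓ N.comap (QuotientGroup.mk' (solRad G)) ≤ solRad G by
            rw [QuotientGroup.ker_mk']; exact inf_le_left)) (Subgroup.inclusion_injective _)
      · rw [Subgroup.map_comap_eq_self_of_surjective (QuotientGroup.mk'_surjective _)]
        exact hNs
    rw [← Subgroup.map_comap_eq_self_of_surjective (QuotientGroup.mk'_surjective (solRad G)) N,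
      Subgroup.map_eq_bot_iff, QuotientGroup.ker_mk']
    exact h1
  · intro G' _ _ A' B' hlt hns' hf'
    exact ih (Nat.card G') (lt_of_lt_of_le hlt (hn ▸ Nat.le_of_dvd Nat.card_pos
      (Subgroup.card_quotient_dvd_card _))) G' A' B' rfl hns' hf'

end Cfsg.Agent.Lib.CycZFactor60
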