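import Cfsg.Agent.Lib.CycZFactor60.Dihedral
import Cfsg.Agent.Lib.CycZFactor60.PSLBound
import Cfsg.Agent.Lib.GorensteinWalter.Main
import Cfsg.Agent.Lib.PEmbRankOne.Dihedral
import Cfsg.Agent.Lib.AutPSL.Card
import Cfsg.Agent.Lib.FpfLinear.Perfect
import Cfsg.Agent.Lib.Alternating.Aut

/-!
# The doubly transitive case: the group is `PGL(2,p)`

Owner: helper60 (row S3252).
-/

set_option autoImplicit false
set_option linter.unusedSectionVars false
set_option linter.style.haveILetI false

universe u

namespace Cfsg.Agent.Lib.CycZFactor60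

open MulAction Matrix
open Cfsg.Agent.Lib.GorensteinWalter (HasDihedralSylow)

/-- Isomorphic to `PGL(2,p)` for a prime `p > 3`. -/
def Concl (G : Type u) [Group G] : Prop :=
  ∃ (F : Type) (_ : Field F) (_ : Fintype F) (p : ℕ), p.Prime ∧ 3 < p ∧ Fintype.card F = p ∧
    Nonempty (G ≃* (GL (Fin 2) F ⧸ Subgroup.center (GL (Fin 2) F)))

theorem Concl.of_equiv {G H : Type u} [Group G] [Group H] (h : Concl G) (e : H ≃* G) : Concl H := by
  obtain ⟨F, iF, iFF, p, hp, hp3, hc, ⟨f⟩⟩ := h
  exact ⟨F, iF, iFF, p, hp, hp3, hc, ⟨e.trans f⟩⟩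

theorem card_PGL_two (F : Type) [Field F] [Fintype F] (hodd : Odd (Fintype.card F)) :
    Nat.card (Matrix.ProjGenLinGroup (Fin 2) F) =
      2 * Nat.card (Matrix.ProjectiveSpecialLinearGroup (Fin 2) F) := by
  rw [Linear.card_PGL_eq_card_SL, Linear.card_SL_two, Linear.two_mul_card_PSL_two_of_odd hodd]

/-- Over a prime field, `PGL(2,p)` is the automorphism group of `PSL(2,p)`. -/
theorem nonempty_pgl_equiv_aut (F : Type) [Field F] [Fintype F] (p : ℕ) (hp : p.Prime)
    (hF : Fintype.card F = p) :
    Nonempty ((GL (Fin 2) F ⧸ Subgroup.center (GL (Fin 2) F)) ≃*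
      MulAut (Matrix.ProjectiveSpecialLinearGroup (Fin 2) F)) := by
  classical
  haveI : Fact p.Prime := ⟨hp⟩
  let cbar : (GL (Fin 2) F ⧸ Subgroup.center (GL (Fin 2) F)) →*
      MulAut (Matrix.ProjectiveSpecialLinearGroup (Fin 2) F) :=
    QuotientGroup.lift _ AutPSL.conjAut fun g hg => AutPSL.conjAut_eq_one_of_center hg
  have hinj : Function.Injective cbar := by
    refine (injective_iff_map_eq_one _).2 fun x hx => ?_
    obtain ⟨g, rfl⟩ := QuotientGroup.mk_surjective x
    rw [QuotientGroup.eq_one_iff]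
    refine (AutPSL.eq_one_of_conj_field (le_refl 2) (g := g) (σ := 1) ?_).1
    simp only [cbar, QuotientGroup.lift_mk] at hx
    rw [map_one, mul_one]
    exact hx
  haveI : Finite (MulAut (Matrix.ProjectiveSpecialLinearGroup (Fin 2) F)) :=
    Finite.of_injective _ MulEquiv.toEquiv_injective
  haveI : Fintype (MulAut (Matrix.ProjectiveSpecialLinearGroup (Fin 2) F)) := Fintype.ofFinite _
  haveI : Fintype (GL (Fin 2) F ⧸ Subgroup.center (GL (Fin 2) F)) := Fintype.ofFinite _
  refine ⟨MulEquiv.ofBijective cbar ((Fintype.bijective_iff_injective_and_card cbar).2 ⟨hinj, ?_⟩)⟩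
  rw [← Nat.card_eq_fintype_card, ← Nat.card_eq_fintype_card,
    AutPSL.card_mulAut_PSL (p := p) (f := 1) (by rw [pow_one, hF]) (le_refl 2)]
  simp only [if_true, one_mul]
  rfl

/-- The arithmetic excluding proper prime powers. -/
theorem arith_false {p f u : ℕ} (hp : 3 ≤ p) (hf : 2 ≤ f)
    (h : p ^ f * (p ^ f - 1) ≤ 2 * f * u)
    (hu : u ≤ p ^ f + 1 ∨ 2 * u ≤ p * (p ^ f - 1)) : False := by
  have hbig : ∀ m, 2 ≤ m → 4 * m + 1 ≤ p ^ m ∧ m * p < p ^ m := by
    intro m hm
    induction m, hm using Nat.le_induction with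
    | base => constructor <;> nlinarith
    | succ m hm ih =>
      obtain ⟨h1, h2⟩ := ih
      rw [pow_succ]
      constructor <;> nlinarith
  obtain ⟨h1, h2⟩ := hbig f hf
  set q := p ^ f with hq
  obtain ⟨a, ha⟩ : ∃ a, q = a + 1 := ⟨q - 1, by omega⟩
  rw [ha, Nat.add_sub_cancel] at h hu
  rcases hu with hu | hu
  · have h3 : (a + 1) * a ≤ 2 * f * (a + 1 + 1) := h.trans (Nat.mul_le_mul_left _ hu)
    nlinarith
  · have h3 : (a + 1) * a ≤ f * (p * a) := by
      calc (a + 1) * a ≤ 2 * f * u := h
        _ = f * (2 * u) := by ring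
        _ ≤ f * (p * a) := Nat.mul_le_mul_left _ hu
    have h4 : (a + 1) ≤ f * p := Nat.le_of_mul_le_mul_right (by rw [mul_assoc]; exact h3) (by omega : 0 < a)
    omega

theorem add_self_two : ∀ w : ZMod 2 × ZMod 2 × ZMod 2, w + w = 0 := by decide

/-- The socle analysis: with a cyclic subgroup of order the degree and Z-groups as point
stabilisers, a doubly transitive nonsolvable group is `PGL(2,p)`. -/
theorem main_transitive {G : Type u} [Group G] [Finite G] {Ω : Type u} [Finite Ω] [MulAction G Ω]
    [FaithfulSMul G Ω] {e : ℕ} [Fact (Nat.Prime 2)] (H : Hyp G Ω e) (he : 1 ≤ e)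
    (hn : 2 < Nat.card Ω) (hG : ¬ Group.IsSolvable G) (A : Subgroup G) (hA : IsCyclic A)
    (hAcard : Nat.card A = Nat.card Ω)
    (hstab : ∀ (a : Ω) (r : ℕ) [Fact r.Prime] (T : Subgroup G), IsPGroup r T →
      T ≤ stabilizer G a → IsCyclic T) :
    Concl G := by
  classical
  obtain ⟨hE, G₀, hG₀n, hidx, hdih, hcore⟩ := dihedral_part H he hn hG
  haveI := hG₀n
  have hG0sol : ¬ Group.IsSolvable G₀ := by
    intro hs
    refine hG ?_
    haveI := hs
    haveI : Group.IsSolvable (G ⧸ G₀) := by
      haveI : IsCyclic (G ⧸ G₀) := isCyclic_of_prime_card (p := 2) (by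
        rw [← Subgroup.index_eq_card, hidx])
      exact Group.isSolvable_of_comm fun a b => IsCyclic.isMulCommutative.is_comm.comm a b
    exact Group.isSolvable_of_ker_le_range G₀.subtype (QuotientGroup.mk' G₀)
      (by rw [QuotientGroup.ker_mk', Subgroup.range_subtype])
  have hnp : ¬ IsPGroup 2 G₀ := fun h => hG0sol (by
    haveI := h.isNilpotent
    infer_instance)
  rcases PEmbRankOne.socle_cases hdih.sylowCD hcore hnp with ⟨N, hNn, hN4, hC⟩ |
    ⟨N, hNn, hs, hna, hd, hC⟩
  · exfalso
    haveI := hNn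
    haveI : Group.IsSolvable (Equiv.Perm (Fin 4)) := FpfLinear.Perfect.solvable_perm_le_four (by simp)
    rcases LAEven57.FrobQuot.klein_ext N hN4.1 hN4.2 hC hnp with ⟨⟨ε⟩⟩ | ⟨⟨ε⟩⟩
    · exact hG0sol (Group.isSolvable_of_isSolvable_injective (f := ε.toMonoidHom) ε.injective)
    · exact hG0sol (Group.isSolvable_of_isSolvable_injective (f := ε.toMonoidHom) ε.injective)
  haveI := hNn
  haveI := hs
  haveI : Nontrivial N := hs.toNontrivial
  set L : Subgroup G := N.map G₀.subtype with hL
  have hLne : L ≠ ⊥ := by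
    rw [hL, Ne, Subgroup.map_eq_bot_iff_of_injective _ G₀.subtype_injective,
      ← Ne, ← Subgroup.nontrivial_iff_ne_bot]
    infer_instance
  haveI hLn : L.Normal := by
    refine ⟨fun l hl g => ?_⟩
    obtain ⟨l₀, hl₀, rfl⟩ := hl
    set c : MulAut G₀ := MulAut.conjNormal g
    haveI hN'n : (N.map c.toMonoidHom).Normal := hNn.map _ c.surjective
    have hinf : N.map c.toMonoidHom ⊓ N = ⊥ ∨ N.map c.toMonoidHom ⊓ N = N := by
      rcases IsSimpleGroup.eq_bot_or_eq_top_of_normal ((N.map c.toMonoidHom).subgroupOf N)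
        inferInstance with h | h
      · left
        rwa [Subgroup.subgroupOf_eq_bot, disjoint_iff] at h
      · right
        exact inf_eq_right.2 (Subgroup.subgroupOf_eq_top.1 h)
    rcases hinf with h | h
    · exfalso
      have hle : N.map c.toMonoidHom ≤ Subgroup.centralizer (N : Set G₀) := fun a ha =>
        Subgroup.mem_centralizer_iff.2 fun b hb =>
          (Subgroup.commute_of_normal_of_disjoint _ _ hN'n hNn (disjoint_iff.2 h) a b ha hb).symm.eq
      rw [hC, le_bot_iff] at hle
      replace hle := (Subgroup.map_eq_bot_iff_of_injective N (f := c.toMonoidHom) c.injective).1 hle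
      exact hLne (by rw [hL, hle, Subgroup.map_bot])
    · have hle : N ≤ N.map c.toMonoidHom := inf_eq_right.1 h
      have heq : N = N.map c.toMonoidHom := Subgroup.eq_of_le_of_card_ge hle
        (le_of_eq (Subgroup.card_map_of_injective (f := c.toMonoidHom) c.injective))
      refine ⟨c l₀, ?_, ?_⟩
      · show c l₀ ∈ N
        rw [heq]
        exact ⟨l₀, hl₀, rfl⟩
      · simp [c]
  have hLC : Subgroup.centralizer (L : Set G) = ⊥ := by
    by_contra hne
    have hC0 : (Subgroup.centralizer (L : Set G)).subgroupOf G₀ = ⊥ := by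
      rw [eq_bot_iff, ← hC]
      intro a ha
      refine Subgroup.mem_centralizer_iff.2 fun b hb => Subtype.ext ?_
      exact Subgroup.mem_centralizer_iff.1 (Subgroup.mem_subgroupOf.1 ha) _ ⟨b, hb, rfl⟩
    have hcard : Nat.card (Subgroup.centralizer (L : Set G)) ≤ 2 := by
      rw [← Subgroup.relIndex_bot_left]
      rw [Subgroup.subgroupOf_eq_bot, disjoint_iff] at hC0
      rw [← hC0, Subgroup.inf_relIndex_left, ← hidx, ← Subgroup.relIndex_top_right]
      exact Subgroup.relIndex_le_of_le_right le_top (by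
        rw [Subgroup.relIndex_top_right]; exact Subgroup.index_ne_zero_of_finite)
    haveI : Nonempty Ω := Finite.card_pos_iff.1 (by omega)
    let α : Ω := Classical.arbitrary Ω
    have hle : Nat.card Ω ≤ Nat.card (Subgroup.centralizer (L : Set G)) :=
      Nat.card_le_card_of_surjective (fun c : Subgroup.centralizer (L : Set G) => (c : G) • α)
        fun ω => by
          obtain ⟨g, hg, hgω⟩ := transitive_of_normal H inferInstance hne α ω
          exact ⟨⟨g, hg⟩, hgω⟩
    omega
  let eLN : N ≃* L := N.equivMapOfInjective _ G₀.subtype_injective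
  have hG2 : Nat.card G = 2 * Nat.card G₀ := by rw [← G₀.card_mul_index, hidx, mul_comm]
  have hLG0 : Nat.card L ≤ Nat.card G₀ :=
    Nat.le_of_dvd Nat.card_pos (Subgroup.card_dvd_of_le (Subgroup.map_subtype_le N))
  rcases GorensteinWalter.known_of_simple N hs hna hd with ⟨F, iF, iFF, hodd, hF3, ⟨ε⟩⟩ | ⟨⟨ε⟩⟩
  · -- the linear case
    obtain ⟨K, hK, ⟨eK⟩⟩ := PEmbRankOne.almost_of_normal L hLC (eLN.symm.trans ε)
    obtain ⟨p, hp⟩ := CharP.exists F
    haveI hpf : Fact p.Prime := ⟨CharP.char_is_prime F p⟩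
    obtain ⟨f, hpf', hq⟩ := FiniteField.card F p
    have hp2 : p ≠ 2 := by
      rintro rfl
      rw [hq] at hodd
      exact (Nat.not_even_iff_odd.2 hodd) (Nat.even_pow.2 ⟨even_two, f.ne_zero⟩)
    haveI : Finite (MulAut (Matrix.ProjectiveSpecialLinearGroup (Fin 2) F)) :=
      Finite.of_injective _ MulEquiv.toEquiv_injective
    have hAut : Nat.card (MulAut (Matrix.ProjectiveSpecialLinearGroup (Fin 2) F)) =
        (f : ℕ) * (2 * Nat.card (Matrix.ProjectiveSpecialLinearGroup (Fin 2) F)) := by
      rw [AutPSL.card_mulAut_PSL (p := p) (f := f) hq (le_refl 2), card_PGL_two F hodd, if_pos rfl,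
        one_mul]
    have hcardL : Nat.card L = Nat.card (Matrix.ProjectiveSpecialLinearGroup (Fin 2) F) :=
      Nat.card_congr (eLN.symm.trans ε).toEquiv
    have hGK : Nat.card G = Nat.card K := Nat.card_congr eK.toEquiv
    have hKA := Nat.le_of_dvd Nat.card_pos (Subgroup.card_subgroup_dvd_card K)
    have hLidx : L.index ≤ 2 * f := by
      refine Nat.le_of_mul_le_mul_left ?_ (Nat.card_pos (α := L))
      rw [L.card_mul_index, hGK]
      refine hKA.trans (le_of_eq ?_)
      rw [hAut, hcardL]
      ring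
    have hf1 : (f : ℕ) = 1 := by
      by_contra hf1
      have hf2 : 2 ≤ (f : ℕ) := by have := f.pos; omega
      have hp3 : 3 ≤ p := by
        have := hpf.out.two_le
        omega
      let ι : Matrix.ProjectiveSpecialLinearGroup (Fin 2) F →* G :=
        L.subtype.comp (eLN.symm.trans ε).symm.toMonoidHom
      have hι : Function.Injective ι := L.subtype_injective.comp (eLN.symm.trans ε).symm.injective
      have hιL : ι.range = L := by
        refine le_antisymm ?_ fun l hl => ⟨(eLN.symm.trans ε) ⟨l, hl⟩, ?_⟩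
        · rintro _ ⟨x, rfl⟩
          exact ((eLN.symm.trans ε).symm x).2
        · simp [ι]
      letI := MulAction.compHom Ω ι
      haveI : IsPretransitive (Matrix.ProjectiveSpecialLinearGroup (Fin 2) F) Ω := by
        refine ⟨fun a b => ?_⟩
        obtain ⟨g, hg, hgab⟩ := transitive_of_normal H hLn hLne a b
        obtain ⟨x, rfl⟩ := hιL.ge hg
        exact ⟨x, hgab⟩
      haveI : Nonempty Ω := Finite.card_pos_iff.1 (by omega)
      let α : Ω := Classical.arbitrary Ω
      set U := stabilizer (Matrix.ProjectiveSpecialLinearGroup (Fin 2) F) α with hU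
      have hUZ := zSubgroup_bound hp2 hq U fun r _ T hT hTU => by
        haveI := hstab α r (T.map ι) (hT.map ι) (by
          rintro _ ⟨t, ht, rfl⟩
          exact hTU ht)
        exact isCyclic_of_injective (T.equivMapOfInjective ι hι).toMonoidHom
          (MulEquiv.injective _)
      have hUcard : Nat.card (Matrix.ProjectiveSpecialLinearGroup (Fin 2) F) =
          Nat.card U * Nat.card Ω := by
        rw [← index_stabilizer_of_transitive (Matrix.ProjectiveSpecialLinearGroup (Fin 2) F) α,
          Subgroup.card_mul_index]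
      -- the cyclic subgroup is short
      have hAL : 2 * Nat.card (A ⊓ L : Subgroup G) ≤ p ^ (f : ℕ) + 1 := by
        haveI : IsCyclic (A ⊓ L : Subgroup G) :=
          isCyclic_of_injective (Subgroup.inclusion (inf_le_left : A ⊓ L ≤ A))
            (Subgroup.inclusion_injective _)
        obtain ⟨w, hw⟩ := IsCyclic.exists_generator (α := (A ⊓ L : Subgroup G))
        rw [← orderOf_eq_card_of_forall_mem_zpowers hw, ← Subgroup.orderOf_coe]
        obtain ⟨x, hx⟩ := hιL.ge w.2.2
        rw [← hx, orderOf_injective ι hι]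
        have hqodd : Fintype.card F % 2 = 1 := Nat.odd_iff.1 hodd
        have h2p : 2 * p ≤ p ^ (f : ℕ) + 1 := by
          have h1 : p ^ 2 ≤ p ^ (f : ℕ) := Nat.pow_le_pow_right hpf.out.pos hf2
          nlinarith
        have hdd : RecogThree.PSL2Orders.dd (Fintype.card F) = 2 := if_neg (by omega)
        rcases RecogThree.PSL2Orders.orderOf_cases p x with h | h | h
        · have := Nat.le_of_dvd hpf.out.pos h
          omega
        all_goals
          rw [hdd] at h
          have := Nat.le_of_dvd (by omega) h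
          omega
      have hA' : Nat.card A ≤ Nat.card (A ⊓ L : Subgroup G) * L.index := by
        have h := Subgroup.relIndex_mul_relIndex ⊥ (A ⊓ L) A bot_le inf_le_left
        rw [Subgroup.relIndex_bot_left, Subgroup.relIndex_bot_left, Subgroup.inf_relIndex_left] at h
        rw [← h]
        refine Nat.mul_le_mul_left _ ?_
        rw [← Subgroup.relIndex_top_right]
        exact Subgroup.relIndex_le_of_le_right le_top (by
          rw [Subgroup.relIndex_top_right]; exact Subgroup.index_ne_zero_of_finite)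
      have hΩ : Nat.card Ω ≤ f * (p ^ (f : ℕ) + 1) := by
        rw [← hAcard]
        calc Nat.card A ≤ Nat.card (A ⊓ L : Subgroup G) * (2 * f) :=
              hA'.trans (Nat.mul_le_mul_left _ hLidx)
          _ = f * (2 * Nat.card (A ⊓ L : Subgroup G)) := by ring
          _ ≤ f * (p ^ (f : ℕ) + 1) := Nat.mul_le_mul_left _ hAL
      refine arith_false hp3 hf2 (u := Nat.card U) ?_ hUZ
      refine Nat.le_of_mul_le_mul_right ?_ (Nat.succ_pos (p ^ (f : ℕ)))
      have h2 := Linear.two_mul_card_PSL_two_of_odd hodd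
      rw [hUcard, hq] at h2
      rw [← h2]
      calc 2 * (Nat.card U * Nat.card Ω) ≤ 2 * (Nat.card U * (f * (p ^ (f : ℕ) + 1))) :=
            Nat.mul_le_mul_left _ (Nat.mul_le_mul_left _ hΩ)
        _ = 2 * f * Nat.card U * (p ^ (f : ℕ)).succ := by rw [Nat.succ_eq_add_one]; ring
    have hFp : Fintype.card F = p := by rw [hq, hf1, pow_one]
    have htop : K = ⊤ := by
      refine Subgroup.eq_top_of_card_eq K (le_antisymm hKA ?_)
      rw [← hGK, hAut, hf1, one_mul, hG2, ← hcardL]
      exact Nat.mul_le_mul_left 2 hLG0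
    obtain ⟨η⟩ := nonempty_pgl_equiv_aut F p hpf.out hFp
    exact ⟨F, iF, iFF, p, hpf.out, hFp ▸ hF3, hFp,
      ⟨eK.trans ((MulEquiv.subgroupCongr htop).trans (Subgroup.topEquiv.trans η.symm))⟩⟩
  · -- the alternating group of degree seven
    exfalso
    obtain ⟨K, hK, ⟨eK⟩⟩ := PEmbRankOne.almost_of_normal L hLC (eLN.symm.trans ε)
    have hcardL : Nat.card L = Nat.card (alternatingGroup (Fin 7)) :=
      Nat.card_congr (eLN.symm.trans ε).toEquiv
    haveI : Finite (MulAut (alternatingGroup (Fin 7))) :=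
      Finite.of_injective _ MulEquiv.toEquiv_injective
    let a7 := Alternating.autEquiv (α := Fin 7) (by simp) (by simp)
    have htop : K = ⊤ := by
      refine Subgroup.eq_top_of_card_eq K (le_antisymm
        (Nat.le_of_dvd Nat.card_pos (Subgroup.card_subgroup_dvd_card K)) ?_)
      rw [← Nat.card_congr eK.toEquiv, hG2, ← Nat.card_congr a7.toEquiv,
        Nat.card_eq_fintype_card (α := Equiv.Perm (Fin 7)), ← two_mul_card_alternatingGroup (α := Fin 7),
        ← Nat.card_eq_fintype_card, ← hcardL]
      exact Nat.mul_le_mul_left 2 hLG0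
    let φ : G ≃* Equiv.Perm (Fin 7) :=
      eK.trans ((MulEquiv.subgroupCongr htop).trans (Subgroup.topEquiv.trans a7.symm))
    let ψ : Multiplicative (ZMod 2 × ZMod 2 × ZMod 2) →* G :=
      φ.symm.toMonoidHom.comp (MonoidHom.mk' (fun v => PEmbRankOne.threeTranspositions v.toAdd)
        fun a b => (PEmbRankOne.threeTranspositions_mul a.toAdd b.toAdd).symm)
    have hψ : Function.Injective ψ := by
      refine (injective_iff_map_eq_one _).2 fun v hv => ?_
      have h1 : PEmbRankOne.threeTranspositions v.toAdd = 1 :=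
        φ.symm.injective (by rw [map_one]; exact hv)
      exact Multiplicative.toAdd.injective (PEmbRankOne.threeTranspositions_eq_one _ h1)
    have hle := hE ψ.range (by
      rintro _ ⟨v, rfl⟩
      rw [← map_mul, show v * v = 1 from Multiplicative.toAdd.injective (by
        show v.toAdd + v.toAdd = 0
        exact add_self_two _), map_one])
    rw [← Nat.card_congr (MonoidHom.ofInjective hψ).toEquiv, Nat.card_eq_fintype_card] at hle
    simp at hle

end Cfsg.Agent.Lib.CycZFactor60
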